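import Mathlib

/-!
Collection in a central extension of a group with a polycyclic presentation, with the relation
values as unknowns: word identities give integer linear equations between them.
-/

set_option autoImplicit false

namespace Cfsg.Agent.ExtCert.Central

/-- The letters of a normal form. -/
def letters (n e : ℕ) : List ℕ := (List.range n).filter fun i => e.testBit i

theorem lt_of_mem_letters {n e i : ℕ} (h : i ∈ letters n e) : i < n :=
  List.mem_range.1 (List.mem_filter.1 h).1

/-- The letter repeated on the right of a relation. -/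
def preL (i t : ℕ) : List ℕ := if t = i then [] else [i]

/-- Sum of two integer forms. -/
def fadd : List ℤ → List ℤ → List ℤ
  | [], l => l
  | l, [] => l
  | x :: l, y :: l' => (x + y) :: fadd l l'

/-- Multiple of a form. -/
def fsmul (c : ℤ) (F : List ℤ) : List ℤ := F.map (c * ·)

/-- Difference of two forms. -/
def fsub (a b : List ℤ) : List ℤ := fadd a (fsmul (-1) b)

/-- A single unknown. -/
def fvar : ℕ → List ℤ
  | 0 => [1]
  | r + 1 => 0 :: fvar r

/-- The value of a form. -/
def evF {M : Type*} [AddCommGroup M] (ν : ℕ → M) : List ℤ → M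
  | [] => 0
  | x :: l => x • ν 0 + evF (fun r => ν (r + 1)) l

section

variable {M : Type*} [AddCommGroup M]

theorem evF_add : ∀ (ν : ℕ → M) (a b : List ℤ), evF ν (fadd a b) = evF ν a + evF ν b
  | ν, [], b => by simp [fadd, evF]
  | ν, x :: l, [] => by simp [fadd, evF]
  | ν, x :: l, y :: l' => by simp only [fadd, evF, evF_add, add_smul]; abel

theorem evF_smul : ∀ (ν : ℕ → M) (c : ℤ) (a : List ℤ), evF ν (fsmul c a) = c • evF ν a
  | ν, c, [] => by simp [fsmul, evF]
  | ν, c, x :: l => by
    show evF ν ((c * x) :: fsmul c l) = _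
    simp only [evF, evF_smul, smul_add, mul_smul]

theorem evF_sub (ν : ℕ → M) (a b : List ℤ) : evF ν (fsub a b) = evF ν a - evF ν b := by
  rw [fsub, evF_add, evF_smul, neg_one_zsmul, sub_eq_add_neg]

theorem evF_var : ∀ (ν : ℕ → M) (r : ℕ), evF ν (fvar r) = ν r
  | ν, 0 => by simp [fvar, evF]
  | ν, r + 1 => by simp [fvar, evF, evF_var]

theorem evF_map {M' : Type*} [AddCommGroup M'] (f : M →+ M') : ∀ (ν : ℕ → M) (a : List ℤ),
    evF (fun r => f (ν r)) a = f (evF ν a)
  | ν, [] => by simp [evF]
  | ν, x :: l => by simp [evF, evF_map f (fun r => ν (r + 1)) l]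

/-- All coefficients are even. -/
def fEven (a : List ℤ) : Bool := a.all fun x => x % 2 == 0

theorem evF_even : ∀ (ν : ℕ → M), (∀ r, ν r + ν r = 0) → ∀ a, fEven a = true → evF ν a = 0
  | _, _, [], _ => rfl
  | ν, h, x :: l, hx => by
    simp only [fEven, List.all_cons, Bool.and_eq_true, beq_iff_eq] at hx
    obtain ⟨k, rfl⟩ := Int.dvd_of_emod_eq_zero hx.1
    rw [evF, evF_even (fun r => ν (r + 1)) (fun r => h (r + 1)) l hx.2, add_zero, mul_smul,
      two_zsmul, ← smul_add, h, smul_zero]

/-- A combination of rows. -/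
def fcombo (rows : List (List ℤ)) : List (ℕ × ℤ) → List ℤ
  | [] => []
  | (r, c) :: l => fadd (fsmul c (rows.getD r [])) (fcombo rows l)

theorem evF_combo (ν : ℕ → M) {rows : List (List ℤ)} (h : ∀ r, evF ν (rows.getD r []) = 0) :
    ∀ l, evF ν (fcombo rows l) = 0
  | [] => rfl
  | (r, c) :: l => by rw [fcombo, evF_add, evF_smul, h, smul_zero, zero_add, evF_combo ν h l]

end

/-- Values of the unknowns of a word in changed lifts. -/
def wsum (D : ℕ → List ℤ) : List ℕ → List ℤ
  | [] => []
  | k :: ks => fadd (D k) (wsum D ks)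

/-- Right multiplication by a word. -/
def mulC (T : ℕ → ℕ → Option (List ℤ × ℕ)) : List ℤ × ℕ → List ℕ → Option (List ℤ × ℕ)
  | p, [] => some p
  | (v, e), k :: ks => (T k e).bind fun r => mulC T (fadd v r.1, r.2) ks

/-- The presentation data. -/
structure CPres where
  n : ℕ
  wd : ℕ → ℕ → ℕ
  uF : ℕ → ℕ → List ℤ

/-- One step of the table. -/
def CPres.step (P : CPres) (T : ℕ → ℕ → Option (List ℤ × ℕ)) (i e : ℕ) : Option (List ℤ × ℕ) :=
  if letters P.n (e + 2 ^ i) == letters P.n e ++ [i] then some ([], e + 2 ^ i)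
  else
    match (letters P.n e).getLast? with
    | none => none
    | some t =>
      if letters P.n e == letters P.n (e - 2 ^ t) ++ [t] && Nat.ble i t &&
          Nat.blt (e - 2 ^ t) e && (letters P.n (P.wd i t)).all (fun k => Nat.blt i k) then
        mulC T (P.uF i t, e - 2 ^ t) (preL i t ++ letters P.n (P.wd i t))
      else none

/-- A table passes if every entry is one step from the others. -/
def CPres.chk (P : CPres) (T : ℕ → ℕ → Option (List ℤ × ℕ)) : Bool :=
  (List.range P.n).all fun i => (List.range (2 ^ P.n)).all fun e =>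
    match T i e with
    | none => true
    | some r => P.step T i e == some r

/-- An equation from associativity. -/
def CPres.eqS (P : CPres) (T : ℕ → ℕ → Option (List ℤ × ℕ)) (e i t : ℕ) : Option (List ℤ) :=
  (mulC T ([], e) [t, i]).bind fun L =>
    (mulC T (P.uF i t, e) (preL i t ++ letters P.n (P.wd i t))).bind fun R =>
      if L.2 == R.2 then some (fsub L.1 R.1) else none

/-- The value of a conjugated word, with the unknowns of the letters. -/
def CPres.rW (P : CPres) (T : ℕ → ℕ → Option (List ℤ × ℕ)) (ph : ℕ → ℕ) (mv' : ℕ → List ℤ) :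
    List ℤ × ℕ → List ℕ → Option (List ℤ × ℕ)
  | p, [] => some p
  | (v, f), k :: ks =>
    (mulC T (fadd v (mv' k), f) (letters P.n (ph k))).bind fun r => P.rW T ph mv' r ks

/-- An equation from conjugation. -/
def CPres.eqC (P : CPres) (T : ℕ → ℕ → Option (List ℤ × ℕ)) (qs ph : ℕ → ℕ) (mv' : ℕ → List ℤ)
    (w1 w2 : List ℕ) : Option (List ℤ) :=
  (mulC T ([], 0) (w1.flatMap fun k => letters P.n (qs k))).bind fun l1 =>
    (mulC T ([], 0) (w2.flatMap fun k => letters P.n (qs k))).bind fun l2 =>
      (P.rW T ph mv' ([], 0) w1).bind fun r1 =>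
        (P.rW T ph mv' ([], 0) w2).bind fun r2 =>
          if l1.2 == l2.2 && r1.2 == r2.2 then some (fsub (fsub l1.1 l2.1) (fsub r1.1 r2.1))
          else none

/-- The value of a relation in changed lifts. -/
def CPres.resid (P : CPres) (D : ℕ → List ℤ) (i t : ℕ) : List ℤ :=
  fsub (fadd (fadd (D t) (D i)) (P.uF i t)) (wsum D (preL i t ++ letters P.n (P.wd i t)))

variable {E : Type*} [Group E]

/-- The centre, written additively. -/
abbrev Cen (E : Type*) [Group E] : Type _ := Additive ↥(Subgroup.center E)

instance instAddCommGroupCen : AddCommGroup (Cen E) :=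
  { (inferInstance : AddGroup (Additive ↥(Subgroup.center E))) with
    add_comm := fun a b => Additive.toMul.injective (Subtype.ext
      (Subgroup.mem_center_iff.1 (Additive.toMul b).2 ((Additive.toMul a : ↥(Subgroup.center E)) : E))) }

/-- A central element. -/
def cι (a : Cen E) : E := (a.toMul : E)

theorem cι_add (a b : Cen E) : cι (a + b) = cι a * cι b := rfl

theorem cι_zero : cι (0 : Cen E) = 1 := rfl

theorem cι_comm (a : Cen E) (x : E) : x * cι a = cι a * x :=
  Subgroup.mem_center_iff.1 a.toMul.2 x

theorem cι_cancel {a b : Cen E} {g : E} (h : cι a * g = cι b * g) :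
    a = b :=
  Additive.toMul.injective (Subtype.ext (mul_right_cancel h))

/-- The lift of a normal form. -/
def cProd (n : ℕ) (A : ℕ → E) (e : ℕ) : E := ((letters n e).map A).prod

theorem cProd_zero (n : ℕ) (A : ℕ → E) : cProd n A 0 = 1 := by simp [cProd, letters]

variable (ν : ℕ → Cen E) (A : ℕ → E)

/-- The relations hold with the values of the unknowns. -/
def RelHyp (P : CPres) : Prop := ∀ i t, i ≤ t → t < P.n →
  A t * A i = cι (evF ν (P.uF i t)) * ((preL i t).map A).prod * cProd P.n A (P.wd i t)

/-- A table entry is right. -/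
def GoodAt (P : CPres) (T : ℕ → ℕ → Option (List ℤ × ℕ)) (i e : ℕ) : Prop :=
  ∀ r, T i e = some r → cProd P.n A e * A i = cι (evF ν r.1) * cProd P.n A r.2

variable {ν A}

theorem mulC_spec {P : CPres} {T : ℕ → ℕ → Option (List ℤ × ℕ)} : ∀ (ks : List ℕ),
    (∀ k ∈ ks, ∀ e, GoodAt ν A P T k e) → ∀ v e r, mulC T (v, e) ks = some r →
      cι (evF ν v) * cProd P.n A e * (ks.map A).prod = cι (evF ν r.1) * cProd P.n A r.2
  | [], _, v, e, r, h => by
    simp only [mulC, Option.some.injEq] at h
    simp [← h]
  | k :: ks, hT, v, e, r, h => by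
    simp only [mulC, Option.bind_eq_some_iff] at h
    obtain ⟨⟨v', e'⟩, h1, h2⟩ := h
    rw [← mulC_spec ks (fun x hx => hT x (List.mem_cons_of_mem _ hx)) _ _ _ h2, List.map_cons,
      List.prod_cons, evF_add, cι_add, ← mul_assoc, mul_assoc (cι (evF ν v)) (cProd P.n A e),
      hT k (List.mem_cons_self ..) e _ h1, ← mul_assoc]

theorem CPres.chk_sound {P : CPres} {T : ℕ → ℕ → Option (List ℤ × ℕ)} (hr : RelHyp ν A P)
    (hout : ∀ i e r, T i e = some r → i < P.n ∧ e < 2 ^ P.n) (h : P.chk T = true) :
    ∀ i e, GoodAt ν A P T i e := by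
  suffices H : ∀ d i, P.n - i ≤ d → ∀ e, GoodAt ν A P T i e from fun i => H P.n i (by omega)
  intro d
  induction d with
  | zero => intro i hi e r hr'; have := (hout i e r hr').1; omega
  | succ d ih =>
    intro i hi e
    induction e using Nat.strong_induction_on with
    | _ e ihe =>
      intro r hr'
      obtain ⟨hi7, he⟩ := hout i e r hr'
      simp only [CPres.chk, List.all_eq_true, List.mem_range] at h
      have hs := h i hi7 e he
      rw [hr'] at hs
      replace hs : P.step T i e = some r := beq_iff_eq.1 hs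
      unfold CPres.step at hs
      split at hs
      · next hb =>
        cases hs
        show cProd P.n A e * A i = _
        rw [evF, cι_zero, one_mul, cProd, cProd, beq_iff_eq.1 hb]
        simp
      · split at hs
        · exact absurd hs (by simp)
        · next t ht =>
          split at hs
          · next hc =>
            simp only [Bool.and_eq_true, beq_iff_eq, Nat.ble_eq, Nat.blt_eq, List.all_eq_true] at hc
            obtain ⟨⟨⟨hsplit, hit⟩, hlt⟩, hw⟩ := hc
            have ht7 : t < P.n := lt_of_mem_letters (List.mem_of_getLast? ht)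
            have hws : ∀ k ∈ letters P.n (P.wd i t), ∀ e', GoodAt ν A P T k e' := fun k hk e' =>
              ih k (by have := hw k hk; have := lt_of_mem_letters hk; omega) e'
            have e1 : cProd P.n A e * A i = cι (evF ν (P.uF i t)) * cProd P.n A (e - 2 ^ t) *
                ((preL i t).map A).prod * cProd P.n A (P.wd i t) := by
              rw [cProd, hsplit, List.map_append, List.prod_append, List.map_singleton,
                List.prod_singleton, mul_assoc, hr i t hit ht7, ← mul_assoc, ← mul_assoc, cι_comm]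
              rfl
            rw [e1]
            by_cases hti : t = i
            · simp only [preL, if_pos hti, List.nil_append] at hs ⊢
              rw [List.map_nil, List.prod_nil, mul_one]
              exact mulC_spec _ hws _ _ _ hs
            · simp only [preL, if_neg hti, List.singleton_append, mulC,
                Option.bind_eq_some_iff] at hs ⊢
              obtain ⟨⟨v', e'⟩, h1, h2⟩ := hs
              have hg := ihe _ hlt _ h1
              rw [show cProd P.n A (P.wd i t) = ((letters P.n (P.wd i t)).map A).prod from rfl,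
                ← mulC_spec _ hws _ _ _ h2, evF_add, cι_add, List.map_singleton,
                List.prod_singleton, mul_assoc (cι (evF ν (P.uF i t))) (cProd P.n A (e - 2 ^ t)),
                hg, ← mul_assoc]
          · exact absurd hs (by simp)

theorem CPres.eqS_sound {P : CPres} {T : ℕ → ℕ → Option (List ℤ × ℕ)} (hr : RelHyp ν A P)
    (hT : ∀ i e, GoodAt ν A P T i e) {e i t : ℕ} (hit : i ≤ t) (ht : t < P.n) {F : List ℤ}
    (h : P.eqS T e i t = some F) : evF ν F = 0 := by
  simp only [CPres.eqS, Option.bind_eq_some_iff] at h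
  obtain ⟨L, hL, R, hR, hF⟩ := h
  split at hF
  · next he =>
    cases hF
    have hl := mulC_spec _ (fun k _ => hT k) _ _ _ hL
    have hrr := mulC_spec _ (fun k _ => hT k) _ _ _ hR
    rw [evF, cι_zero, one_mul, List.map_cons, List.map_singleton, List.prod_cons,
      List.prod_singleton, hr i t hit ht, ← mul_assoc, ← mul_assoc, cι_comm] at hl
    rw [List.map_append, List.prod_append, ← mul_assoc] at hrr
    rw [show cProd P.n A (P.wd i t) = ((letters P.n (P.wd i t)).map A).prod from rfl, hrr,
      ← beq_iff_eq.1 he] at hl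
    rw [evF_sub, cι_cancel hl, sub_self]
  · exact absurd hF (by simp)

theorem CPres.rW_spec {P : CPres} {T : ℕ → ℕ → Option (List ℤ × ℕ)}
    (hT : ∀ i e, GoodAt ν A P T i e) {G : E} {qs ph : ℕ → ℕ} {mv' : ℕ → List ℤ} : ∀ (ks : List ℕ),
      (∀ k ∈ ks, G * cProd P.n A (qs k) = cι (evF ν (mv' k)) * cProd P.n A (ph k) * G) →
      ∀ v f r, P.rW T ph mv' (v, f) ks = some r →
        cι (evF ν v) * cProd P.n A f * G * (ks.map fun k => cProd P.n A (qs k)).prod =
          cι (evF ν r.1) * cProd P.n A r.2 * G
  | [], _, v, f, r, h => by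
    simp only [CPres.rW, Option.some.injEq] at h
    simp [← h]
  | k :: ks, hk, v, f, r, h => by
    simp only [CPres.rW, Option.bind_eq_some_iff] at h
    obtain ⟨⟨v', f'⟩, h1, h2⟩ := h
    rw [← CPres.rW_spec hT ks (fun x hx => hk x (List.mem_cons_of_mem _ hx)) _ _ _ h2]
    have := mulC_spec _ (fun k _ => hT k) _ _ _ h1
    change cι (evF ν (fadd v _)) * cProd P.n A f * cProd P.n A (ph k) = _ at this
    rw [← this, evF_add, cι_add, List.map_cons, List.prod_cons,
      mul_assoc (cι (evF ν v)) (cι _) (cProd P.n A f), ← cι_comm (evF ν (mv' k)) (cProd P.n A f)]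
    simp only [← mul_assoc]
    rw [mul_assoc _ G (cProd P.n A (qs k)), hk k (List.mem_cons_self ..)]
    simp only [← mul_assoc]

theorem CPres.eqC_sound {P : CPres} {T : ℕ → ℕ → Option (List ℤ × ℕ)}
    (hT : ∀ i e, GoodAt ν A P T i e) {G : E} {qs ph : ℕ → ℕ} {mv' : ℕ → List ℤ} {w1 w2 : List ℕ}
    (hk : ∀ k ∈ w1 ++ w2,
      G * cProd P.n A (qs k) = cι (evF ν (mv' k)) * cProd P.n A (ph k) * G)
    {F : List ℤ} (h : P.eqC T qs ph mv' w1 w2 = some F) : evF ν F = 0 := by
  simp only [CPres.eqC, Option.bind_eq_some_iff] at h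
  obtain ⟨l1, hl1, l2, hl2, r1, hr1, r2, hr2, hF⟩ := h
  split at hF
  · next he =>
    cases hF
    simp only [Bool.and_eq_true, beq_iff_eq] at he
    have key : ∀ (w : List ℕ) (l r : List ℤ × ℕ),
        (∀ k ∈ w, G * cProd P.n A (qs k) = cι (evF ν (mv' k)) * cProd P.n A (ph k) * G) →
        mulC T ([], 0) (w.flatMap fun k => letters P.n (qs k)) = some l →
        P.rW T ph mv' ([], 0) w = some r →
        cι (evF ν l.1 - evF ν r.1) * (G * cProd P.n A l.2) = cProd P.n A r.2 * G := by
      intro w l r hw hl hr
      have h1 := mulC_spec _ (fun k _ => hT k) _ _ _ hl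
      have h2 := CPres.rW_spec hT w hw _ _ _ hr
      rw [evF, cι_zero, cProd_zero, one_mul, one_mul] at h1 h2
      have e : ((w.flatMap fun k => letters P.n (qs k)).map A).prod =
          (w.map fun k => cProd P.n A (qs k)).prod := by
        clear h1 h2 hl hr hw
        induction w with
        | nil => rfl
        | cons k w ih =>
          rw [List.flatMap_cons, List.map_append, List.prod_append, ih, List.map_cons,
            List.prod_cons]
          rfl
      rw [e] at h1
      rw [h1, ← mul_assoc, cι_comm] at h2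
      have h3 : cι (evF ν l.1 - evF ν r.1 + evF ν r.1) * (G * cProd P.n A l.2) =
          cι (evF ν r.1) * (cProd P.n A r.2 * G) := by
        rw [sub_add_cancel, ← mul_assoc, h2, mul_assoc]
      rw [add_comm, cι_add, mul_assoc] at h3
      exact mul_left_cancel h3
    have k1 := key w1 l1 r1 (fun k h => hk k (List.mem_append_left _ h)) hl1 hr1
    have k2 := key w2 l2 r2 (fun k h => hk k (List.mem_append_right _ h)) hl2 hr2
    rw [← he.1, ← he.2, ← k1] at k2
    have h0 := cι_cancel k2
    simp only [evF_sub]
    rw [← sub_eq_zero.2 h0.symm]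
    abel
  · exact absurd hF (by simp)

theorem prod_changed (D : ℕ → List ℤ) : ∀ ks : List ℕ,
    (ks.map fun k => cι (evF ν (D k)) * A k).prod = cι (evF ν (wsum D ks)) * (ks.map A).prod
  | [] => by simp [wsum, evF, cι_zero]
  | k :: ks => by
    rw [List.map_cons, List.prod_cons, prod_changed D ks, List.map_cons, List.prod_cons, wsum,
      evF_add, cι_add, mul_assoc, ← mul_assoc (A k), cι_comm]
    simp only [mul_assoc]

theorem CPres.changed_rel {P : CPres} (hr : RelHyp ν A P) (D : ℕ → List ℤ) {i t : ℕ}
    (hit : i ≤ t) (ht : t < P.n) (h0 : evF ν (P.resid D i t) = 0) :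
    cι (evF ν (D t)) * A t * (cι (evF ν (D i)) * A i) =
      ((preL i t).map fun k => cι (evF ν (D k)) * A k).prod *
        cProd P.n (fun k => cι (evF ν (D k)) * A k) (P.wd i t) := by
  rw [cProd, ← List.prod_append, ← List.map_append, prod_changed]
  simp only [CPres.resid, evF_sub, evF_add, sub_eq_zero, add_assoc] at h0
  rw [mul_assoc, ← mul_assoc (A t), cι_comm, mul_assoc, hr i t hit ht]
  simp only [List.map_append, List.prod_append, cProd, ← mul_assoc, ← cι_add]
  rw [h0]

end Cfsg.Agent.ExtCert.Central
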