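import Cfsg.Agent.Lib.ExtCert.Forms

/-!
Collection in an extension of a group with a polycyclic presentation on seven generators by
`(ZMod 2)¹¹`, with the relation values as unknowns: word identities give linear equations.
-/

set_option autoImplicit false

namespace Cfsg.Agent.ExtCert

attribute [local irreducible] ev

theorem add_self_V (x : V) : x + x = 0 := funext fun c => CharTwo.add_self_eq_zero (x c)

/-- The letters of a normal form. -/
def bitsOf (e : ℕ) : List ℕ := (List.range 7).filter fun i => e.testBit i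

theorem lt_of_mem_bitsOf {e i : ℕ} (h : i ∈ bitsOf e) : i < 7 :=
  List.mem_range.1 (List.mem_filter.1 h).1

/-- The letter repeated on the right of a relation. -/
def preW (i t : ℕ) : List ℕ := if t = i then [] else [i]

/-- Matrices along a word. -/
def actList (mats : ℕ → List ℕ) : List ℕ → ℕ → ℕ
  | [], F => F
  | k :: ks, F => fmat (mats k) (actList mats ks F)

/-- Values of the unknowns of a word in changed lifts. -/
def wvalF (mats : ℕ → List ℕ) (D : ℕ → ℕ) : List ℕ → ℕ
  | [] => 0
  | k :: ks => Nat.xor (D k) (fmat (mats k) (wvalF mats D ks))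

/-- Right multiplication by a word. -/
def mulW (T : ℕ → ℕ → Option (ℕ × ℕ)) : ℕ × ℕ → List ℕ → Option (ℕ × ℕ)
  | p, [] => some p
  | (v, e), k :: ks => (T k e).bind fun r => mulW T (Nat.xor v r.1, r.2) ks

/-- The presentation data. -/
structure Pres where
  wd : ℕ → ℕ → ℕ
  mats : ℕ → List ℕ
  uF : ℕ → ℕ → ℕ

/-- One step of the table. -/
def Pres.step (P : Pres) (T : ℕ → ℕ → Option (ℕ × ℕ)) (i e : ℕ) : Option (ℕ × ℕ) :=
  if bitsOf (e + 2 ^ i) == bitsOf e ++ [i] then some (0, e + 2 ^ i)
  else
    match (bitsOf e).getLast? with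
    | none => none
    | some t =>
      let e1 := e - 2 ^ t
      if bitsOf e == bitsOf e1 ++ [t] && Nat.ble i t && Nat.blt e1 e &&
          (bitsOf (P.wd i t)).all (fun k => Nat.blt i k) then
        mulW T (actList P.mats (bitsOf e1) (P.uF i t), e1) (preW i t ++ bitsOf (P.wd i t))
      else none

/-- A table passes if every entry is one step from the others. -/
def Pres.chk (P : Pres) (T : ℕ → ℕ → Option (ℕ × ℕ)) : Bool :=
  (List.range 7).all fun i => (List.range 128).all fun e =>
    match T i e with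
    | none => true
    | some r => P.step T i e == some r

/-- An equation from associativity. -/
def Pres.eqS (P : Pres) (T : ℕ → ℕ → Option (ℕ × ℕ)) (e i t : ℕ) : Option ℕ :=
  (mulW T (0, e) [t, i]).bind fun L =>
    (mulW T (actList P.mats (bitsOf e) (P.uF i t), e) (preW i t ++ bitsOf (P.wd i t))).bind fun R =>
      if L.2 == R.2 then some (Nat.xor L.1 R.1) else none

/-- The value of a conjugated word, with the unknowns of the letters. -/
def Pres.rW (P : Pres) (T : ℕ → ℕ → Option (ℕ × ℕ)) (ph mv' : ℕ → ℕ) :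
    ℕ × ℕ → List ℕ → Option (ℕ × ℕ)
  | p, [] => some p
  | (v, f), k :: ks =>
    (mulW T (Nat.xor v (actList P.mats (bitsOf f) (mv' k)), f) (bitsOf (ph k))).bind fun r =>
      P.rW T ph mv' r ks

/-- An equation from conjugation by an element with matrix `G`. -/
def Pres.eqC (P : Pres) (T : ℕ → ℕ → Option (ℕ × ℕ)) (G : List ℕ) (qs ph mv' : ℕ → ℕ)
    (w1 w2 : List ℕ) : Option ℕ :=
  (mulW T (0, 0) (w1.flatMap fun k => bitsOf (qs k))).bind fun l1 =>
    (mulW T (0, 0) (w2.flatMap fun k => bitsOf (qs k))).bind fun l2 =>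
      (P.rW T ph mv' (0, 0) w1).bind fun r1 =>
        (P.rW T ph mv' (0, 0) w2).bind fun r2 =>
          if l1.2 == l2.2 && r1.2 == r2.2 then
            some (Nat.xor (fmat G (Nat.xor l1.1 l2.1)) (Nat.xor r1.1 r2.1))
          else none

variable {E : Type*} [Group E]

/-- The lift of a normal form. -/
def sProd (A : ℕ → E) (e : ℕ) : E := ((bitsOf e).map A).prod

/-- An embedded copy of the module. -/
structure Emb (E : Type*) [Group E] where
  ι : V → E
  map_add : ∀ u v, ι (u + v) = ι u * ι v
  inj : Function.Injective ι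

theorem Emb.map_zero (I : Emb E) : I.ι 0 = 1 := by
  have h := I.map_add 0 0
  rw [add_zero] at h
  exact left_eq_mul.1 h

variable (I : Emb E) (ν : ℕ → V) (A : ℕ → E)

/-- The generators act by the matrices. -/
def ActHyp (P : Pres) : Prop := ∀ i < 7, ∀ v, A i * I.ι v = I.ι (mv (P.mats i) v) * A i

/-- The relations hold with the values of the unknowns. -/
def RelHyp (P : Pres) : Prop := ∀ i t, i ≤ t → t < 7 →
  A t * A i = I.ι (ev ν (P.uF i t)) * ((preW i t).map A).prod * sProd A (P.wd i t)

/-- A table entry is right. -/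
def GoodAt (T : ℕ → ℕ → Option (ℕ × ℕ)) (i e : ℕ) : Prop :=
  ∀ r, T i e = some r → sProd A e * A i = I.ι (ev ν r.1) * sProd A r.2

variable {I ν A}

theorem prod_mul_ι {P : Pres} (ha : ActHyp I A P) (ν : ℕ → V) : ∀ (ks : List ℕ),
    (∀ k ∈ ks, k < 7) → ∀ F,
      (ks.map A).prod * I.ι (ev ν F) = I.ι (ev ν (actList P.mats ks F)) * (ks.map A).prod
  | [], _, F => by simp [actList]
  | k :: ks, h, F => by
    rw [List.map_cons, List.prod_cons, mul_assoc,
      prod_mul_ι ha ν ks (fun x hx => h x (List.mem_cons_of_mem _ hx)) F, ← mul_assoc,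
      ha k (h k (List.mem_cons_self ..)), actList, ev_fmat, mul_assoc]

theorem sProd_mul_ι {P : Pres} (ha : ActHyp I A P) (ν : ℕ → V) (e F : ℕ) :
    sProd A e * I.ι (ev ν F) = I.ι (ev ν (actList P.mats (bitsOf e) F)) * sProd A e :=
  prod_mul_ι ha ν _ (fun _ => lt_of_mem_bitsOf) F

theorem sProd_zero : sProd A 0 = 1 := by simp [sProd, bitsOf]

theorem mulW_spec {T : ℕ → ℕ → Option (ℕ × ℕ)} : ∀ (ks : List ℕ),
    (∀ k ∈ ks, ∀ e, GoodAt I ν A T k e) → ∀ v e r, mulW T (v, e) ks = some r →
      I.ι (ev ν v) * sProd A e * (ks.map A).prod = I.ι (ev ν r.1) * sProd A r.2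
  | [], _, v, e, r, h => by
    simp only [mulW, Option.some.injEq] at h
    simp [← h]
  | k :: ks, hT, v, e, r, h => by
    simp only [mulW, Option.bind_eq_some_iff] at h
    obtain ⟨⟨v', e'⟩, h1, h2⟩ := h
    rw [← mulW_spec ks (fun x hx => hT x (List.mem_cons_of_mem _ hx)) _ _ _ h2, List.map_cons,
      List.prod_cons]
    show _ = I.ι (ev ν (v ^^^ v')) * sProd A e' * _
    rw [ev_xor, I.map_add, ← mul_assoc, mul_assoc (I.ι (ev ν v)) (sProd A e),
      hT k (List.mem_cons_self ..) e _ h1, ← mul_assoc]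

theorem Pres.chk_sound {P : Pres} {T : ℕ → ℕ → Option (ℕ × ℕ)} (ha : ActHyp I A P)
    (hr : RelHyp I ν A P) (hout : ∀ i e r, T i e = some r → i < 7 ∧ e < 128)
    (h : P.chk T = true) : ∀ i e, GoodAt I ν A T i e := by
  suffices H : ∀ d i, 7 - i ≤ d → ∀ e, GoodAt I ν A T i e from fun i => H 7 i (by omega)
  intro d
  induction d with
  | zero => intro i hi e r hr'; have := (hout i e r hr').1; omega
  | succ d ih =>
    intro i hi e
    induction e using Nat.strong_induction_on with
    | _ e ihe =>
      intro r hr'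
      obtain ⟨hi7, he⟩ := hout i e r hr'
      simp only [Pres.chk, List.all_eq_true, List.mem_range] at h
      have hs := h i hi7 e he
      rw [hr'] at hs
      replace hs : P.step T i e = some r := beq_iff_eq.1 hs
      unfold Pres.step at hs
      split at hs
      · next hb =>
        cases hs
        show sProd A e * A i = _
        rw [ev_zero, I.map_zero, one_mul, sProd, sProd, beq_iff_eq.1 hb]
        simp
      · split at hs
        · exact absurd hs (by simp)
        · next t ht =>
          dsimp only at hs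
          split at hs
          · next hc =>
            simp only [Bool.and_eq_true, beq_iff_eq, Nat.ble_eq, Nat.blt_eq, List.all_eq_true] at hc
            obtain ⟨⟨⟨hsplit, hit⟩, hlt⟩, hw⟩ := hc
            have ht7 : t < 7 := lt_of_mem_bitsOf (List.mem_of_getLast? ht)
            have hws : ∀ k ∈ bitsOf (P.wd i t), ∀ e', GoodAt I ν A T k e' := fun k hk e' =>
              ih k (by have := hw k hk; have := lt_of_mem_bitsOf hk; omega) e'
            have e0 : sProd A e * A i = sProd A (e - 2 ^ t) * (A t * A i) := by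
              rw [sProd, sProd, hsplit]; simp [mul_assoc]
            have e1 : sProd A e * A i = I.ι (ev ν (actList P.mats (bitsOf (e - 2 ^ t)) (P.uF i t))) *
                sProd A (e - 2 ^ t) * ((preW i t).map A).prod * sProd A (P.wd i t) := by
              rw [e0, hr i t hit ht7, ← mul_assoc, ← mul_assoc, sProd_mul_ι ha ν]
            rw [e1]
            by_cases hti : t = i
            · simp only [preW, if_pos hti, List.nil_append] at hs ⊢
              rw [List.map_nil, List.prod_nil, mul_one]
              exact mulW_spec _ hws _ _ _ hs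
            · simp only [preW, if_neg hti, List.singleton_append, mulW,
                Option.bind_eq_some_iff] at hs ⊢
              obtain ⟨⟨v', e'⟩, h1, h2⟩ := hs
              have hg := ihe _ hlt _ h1
              have := mulW_spec _ hws _ _ _ h2
              rw [show sProd A (P.wd i t) = ((bitsOf (P.wd i t)).map A).prod from rfl, ← this]
              show _ = I.ι (ev ν (_ ^^^ v')) * sProd A e' * _
              rw [ev_xor, I.map_add, List.map_singleton, List.prod_singleton,
                mul_assoc (I.ι (ev ν (actList P.mats (bitsOf (e - 2 ^ t)) (P.uF i t))))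
                  (sProd A (e - 2 ^ t)), hg, ← mul_assoc]
          · exact absurd hs (by simp)

theorem eq_zero_of_ι {x y : V} {g : E} (h : I.ι x * g = I.ι y * g) : x + y = 0 := by
  rw [I.inj (mul_right_cancel h)]
  exact add_self_V y

theorem Pres.eqS_sound {P : Pres} {T : ℕ → ℕ → Option (ℕ × ℕ)} (ha : ActHyp I A P)
    (hr : RelHyp I ν A P) (hT : ∀ i e, GoodAt I ν A T i e) {e i t : ℕ} (hit : i ≤ t) (ht : t < 7)
    {F : ℕ} (h : P.eqS T e i t = some F) : ev ν F = 0 := by
  simp only [Pres.eqS, Option.bind_eq_some_iff] at h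
  obtain ⟨L, hL, R, hR, hF⟩ := h
  split at hF
  · next he =>
    cases hF
    have hl := mulW_spec _ (fun k _ => hT k) _ _ _ hL
    have hrr := mulW_spec _ (fun k _ => hT k) _ _ _ hR
    rw [ev_zero, I.map_zero, one_mul, List.map_cons, List.map_singleton, List.prod_cons,
      List.prod_singleton, hr i t hit ht, ← mul_assoc, ← mul_assoc,
      sProd_mul_ι ha ν] at hl
    rw [List.map_append, List.prod_append, ← mul_assoc] at hrr
    change _ = I.ι (ev ν R.1) * sProd A R.2 at hrr
    rw [show sProd A (P.wd i t) = ((bitsOf (P.wd i t)).map A).prod from rfl, hrr,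
      ← beq_iff_eq.1 he] at hl
    show ev ν (L.1 ^^^ R.1) = 0
    rw [ev_xor]
    exact eq_zero_of_ι hl.symm
  · exact absurd hF (by simp)

theorem Pres.rW_spec {P : Pres} {T : ℕ → ℕ → Option (ℕ × ℕ)} (ha : ActHyp I A P)
    (hT : ∀ i e, GoodAt I ν A T i e) {G : E} {qs ph mv' : ℕ → ℕ} : ∀ (ks : List ℕ),
      (∀ k ∈ ks, G * sProd A (qs k) = I.ι (ev ν (mv' k)) * sProd A (ph k) * G) →
      ∀ v f r, P.rW T ph mv' (v, f) ks = some r →
        I.ι (ev ν v) * sProd A f * G * (ks.map fun k => sProd A (qs k)).prod =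
          I.ι (ev ν r.1) * sProd A r.2 * G
  | [], _, v, f, r, h => by
    simp only [Pres.rW, Option.some.injEq] at h
    simp [← h]
  | k :: ks, hk, v, f, r, h => by
    simp only [Pres.rW, Option.bind_eq_some_iff] at h
    obtain ⟨⟨v', f'⟩, h1, h2⟩ := h
    rw [← Pres.rW_spec ha hT ks (fun x hx => hk x (List.mem_cons_of_mem _ hx)) _ _ _ h2]
    have := mulW_spec _ (fun k _ => hT k) _ _ _ h1
    change I.ι (ev ν (v ^^^ _)) * sProd A f * sProd A (ph k) = _ at this
    rw [← this, ev_xor, I.map_add, List.map_cons, List.prod_cons,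
      mul_assoc (I.ι (ev ν v)) (I.ι _) (sProd A f), ← sProd_mul_ι ha ν]
    simp only [← mul_assoc]
    rw [mul_assoc _ G (sProd A (qs k)), hk k (List.mem_cons_self ..)]
    simp only [← mul_assoc]

theorem Pres.eqC_sound {P : Pres} {T : ℕ → ℕ → Option (ℕ × ℕ)} (ha : ActHyp I A P)
    (hT : ∀ i e, GoodAt I ν A T i e) {G : E} {Gm : List ℕ}
    (hG : ∀ v, G * I.ι v = I.ι (mv Gm v) * G) {qs ph mv' : ℕ → ℕ} {w1 w2 : List ℕ}
    (hk : ∀ k ∈ w1 ++ w2, G * sProd A (qs k) = I.ι (ev ν (mv' k)) * sProd A (ph k) * G)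
    {F : ℕ} (h : P.eqC T Gm qs ph mv' w1 w2 = some F) : ev ν F = 0 := by
  simp only [Pres.eqC, Option.bind_eq_some_iff] at h
  obtain ⟨l1, hl1, l2, hl2, r1, hr1, r2, hr2, hF⟩ := h
  split at hF
  · next he =>
    cases hF
    simp only [Bool.and_eq_true, beq_iff_eq] at he
    have key : ∀ (w : List ℕ) (l : ℕ × ℕ) (r : ℕ × ℕ),
        (∀ k ∈ w, G * sProd A (qs k) = I.ι (ev ν (mv' k)) * sProd A (ph k) * G) →
        mulW T (0, 0) (w.flatMap fun k => bitsOf (qs k)) = some l →
        P.rW T ph mv' (0, 0) w = some r →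
        I.ι (mv Gm (ev ν l.1) + ev ν r.1) * G * sProd A l.2 = sProd A r.2 * G := by
      intro w l r hw hl hr
      have h1 := mulW_spec _ (fun k _ => hT k) _ _ _ hl
      have h2 := Pres.rW_spec ha hT w hw _ _ _ hr
      rw [ev_zero, I.map_zero, sProd_zero, one_mul, one_mul] at h1 h2
      have e : ((w.flatMap fun k => bitsOf (qs k)).map A).prod =
          (w.map fun k => sProd A (qs k)).prod := by
        clear h1 h2 hl hr hw
        induction w with
        | nil => rfl
        | cons k w ih =>
          rw [List.flatMap_cons, List.map_append, List.prod_append, ih, List.map_cons,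
            List.prod_cons]
          rfl
      rw [e] at h1
      rw [h1, ← mul_assoc, hG] at h2
      calc I.ι (mv Gm (ev ν l.1) + ev ν r.1) * G * sProd A l.2
          = I.ι (ev ν r.1) * (I.ι (mv Gm (ev ν l.1)) * G * sProd A l.2) := by
            rw [add_comm, I.map_add]; simp only [mul_assoc]
        _ = I.ι (ev ν r.1 + ev ν r.1) * (sProd A r.2 * G) := by
            rw [h2, I.map_add]; simp only [mul_assoc]
        _ = sProd A r.2 * G := by
            rw [add_self_V,
              I.map_zero, one_mul]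
    have k1 := key w1 l1 r1 (fun k h => hk k (List.mem_append_left _ h)) hl1 hr1
    have k2 := key w2 l2 r2 (fun k h => hk k (List.mem_append_right _ h)) hl2 hr2
    rw [← he.1, ← he.2, ← k1] at k2
    have h0 := eq_zero_of_ι (mul_right_cancel k2)
    show ev ν (fmat Gm (l1.1 ^^^ l2.1) ^^^ (r1.1 ^^^ r2.1)) = 0
    rw [ev_xor, ev_fmat, ev_xor, ev_xor, mv_add, ← h0]
    abel
  · exact absurd hF (by simp)

/-- The changed lifts along a word. -/
theorem prod_changed {P : Pres} (ha : ActHyp I A P) (D : ℕ → ℕ) : ∀ (ks : List ℕ),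
    (∀ k ∈ ks, k < 7) →
      (ks.map fun k => I.ι (ev ν (D k)) * A k).prod =
        I.ι (ev ν (wvalF P.mats D ks)) * (ks.map A).prod
  | [], _ => by simp [wvalF, ev_zero, I.map_zero]
  | k :: ks, h => by
    rw [List.map_cons, List.prod_cons, prod_changed ha D ks
      (fun x hx => h x (List.mem_cons_of_mem _ hx)), List.map_cons, List.prod_cons]
    show _ = I.ι (ev ν (_ ^^^ _)) * _
    rw [ev_xor, ev_fmat, I.map_add, mul_assoc, ← mul_assoc (A k), ha k (h k (List.mem_cons_self ..))]
    simp only [mul_assoc]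

/-- The value of a relation in changed lifts. -/
def Pres.resid (P : Pres) (D : ℕ → ℕ) (i t : ℕ) : ℕ :=
  Nat.xor (Nat.xor (Nat.xor (D t) (fmat (P.mats t) (D i))) (P.uF i t))
    (wvalF P.mats D (preW i t ++ bitsOf (P.wd i t)))

theorem Pres.changed_rel {P : Pres} (ha : ActHyp I A P) (hr : RelHyp I ν A P) (D : ℕ → ℕ)
    {i t : ℕ} (hit : i ≤ t) (ht : t < 7) (h0 : ev ν (P.resid D i t) = 0) :
    I.ι (ev ν (D t)) * A t * (I.ι (ev ν (D i)) * A i) =
      ((preW i t).map fun k => I.ι (ev ν (D k)) * A k).prod *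
        sProd (fun k => I.ι (ev ν (D k)) * A k) (P.wd i t) := by
  have hlt : ∀ k ∈ preW i t ++ bitsOf (P.wd i t), k < 7 := by
    intro k hk
    rcases List.mem_append.1 hk with hk | hk
    · unfold preW at hk
      split at hk <;> simp at hk
      omega
    · exact lt_of_mem_bitsOf hk
  rw [sProd, ← List.prod_append, ← List.map_append, prod_changed ha D _ hlt]
  unfold Pres.resid at h0
  change ev ν (((_ ^^^ _) ^^^ _) ^^^ _) = 0 at h0
  simp only [ev_xor, ev_fmat] at h0
  rw [mul_assoc, ← mul_assoc (A t), ha t ht, mul_assoc, hr i t hit ht]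
  simp only [List.map_append, List.prod_append, sProd, ← mul_assoc, ← I.map_add]
  rw [show ev ν (D t) + (mv (P.mats t) (ev ν (D i)) + ev ν (P.uF i t)) =
    ev ν (wvalF P.mats D (preW i t ++ bitsOf (P.wd i t))) from ?_]
  refine (funext fun c => CharTwo.add_eq_zero.1 ?_)
  have := congrFun h0 c
  simp only [Pi.add_apply, Pi.zero_apply, add_assoc] at this ⊢
  exact this

end Cfsg.Agent.ExtCert
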