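import Mathlib

/-!
Vectors of eleven linear forms over `ZMod 2` in at most 512 unknowns, packed into one number
(block `c` of width 512 holds the form of coordinate `c`), and 11 × 11 matrices given by columns.
-/

set_option autoImplicit false

namespace Cfsg.Agent.ExtCert

/-- Coordinate vectors of the module. -/
abbrev V : Type := Fin 11 → ZMod 2

/-- The bit as a number modulo two. -/
def bit (a n : ℕ) : ZMod 2 := if a.testBit n then 1 else 0

theorem bit_xor (a b n : ℕ) : bit (a ^^^ b) n = bit a n + bit b n := by
  simp only [bit, Nat.testBit_xor]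
  cases a.testBit n <;> cases b.testBit n <;> simp <;> decide

theorem bit_zero (n : ℕ) : bit 0 n = 0 := by simp [bit]

/-- The value of a vector of forms at an assignment of vectors to the unknowns. -/
def ev (ν : ℕ → V) (F : ℕ) : V := fun c =>
  ∑ j ∈ Finset.range 512, if F.testBit (512 * c.val + j) then ν (j / 11) (Fin.ofNat 11 j) else 0

theorem ev_eq (ν : ℕ → V) (F : ℕ) (c : Fin 11) :
    ev ν F c = ∑ j ∈ Finset.range 512, bit F (512 * c.val + j) * ν (j / 11) (Fin.ofNat 11 j) :=
  Finset.sum_congr rfl fun j _ => by
    unfold bit; split_ifs <;> simp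

theorem ev_zero (ν : ℕ → V) : ev ν 0 = 0 := by
  funext c; simp [ev]

theorem ev_xor (ν : ℕ → V) (a b : ℕ) : ev ν (a ^^^ b) = ev ν a + ev ν b := by
  funext c
  simp only [Pi.add_apply, ev_eq, bit_xor, add_mul, Finset.sum_add_distrib]

/-- A single block. -/
def blk (F k : ℕ) : ℕ := (F >>> (512 * k)) % 2 ^ 512

/-- Copies of a block at the positions of the bits below `n` of `col`. -/
def places (x col : ℕ) : ℕ → ℕ
  | 0 => 0
  | n + 1 => Nat.xor (bif col.testBit n then x <<< (512 * n) else 0) (places x col n)

/-- The first `n` columns applied to a vector of forms. -/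
def fmatTo (M : List ℕ) (F : ℕ) : ℕ → ℕ
  | 0 => 0
  | n + 1 => Nat.xor (places (blk F n) (M.getD n 0) 11) (fmatTo M F n)

/-- A matrix applied to a vector of forms. -/
def fmat (M : List ℕ) (F : ℕ) : ℕ := fmatTo M F 11

/-- A matrix applied to a vector. -/
def mv (M : List ℕ) (v : V) : V := fun i => ∑ k : Fin 11, bit (M.getD k.val 0) i.val * v k

theorem mv_add (M : List ℕ) (u v : V) : mv M (u + v) = mv M u + mv M v := by
  funext i; simp [mv, mul_add, Finset.sum_add_distrib]

theorem mv_zero (M : List ℕ) : mv M 0 = 0 := by
  funext i; simp [mv]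

theorem ev_places (ν : ℕ → V) (F : ℕ) (k : Fin 11) (col : ℕ) : ∀ n (c : Fin 11),
    ev ν (places (blk F k.val) col n) c =
      if c.val < n then bit col c.val * ev ν F k else 0
  | 0, c => by simp [places, ev_zero]
  | n + 1, c => by
    show ev ν (_ ^^^ _) c = _
    rw [ev_xor, Pi.add_apply, ev_places ν F k col n c]
    by_cases hcol : col.testBit n = true
    · rw [hcol, cond_true]
      have h : ev ν (blk F k.val <<< (512 * n)) c = if c.val = n then ev ν F k else 0 := by
        rcases Nat.lt_trichotomy c.val n with h | h | h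
        · rw [if_neg h.ne]
          refine Finset.sum_eq_zero fun j hj => ?_
          rw [if_neg]
          simp only [Finset.mem_range] at hj
          simp only [Nat.testBit_shiftLeft, Bool.and_eq_true, decide_eq_true_eq, not_and]
          intro h'; omega
        · rw [if_pos h]
          refine Finset.sum_congr rfl fun j hj => ?_
          simp only [Finset.mem_range] at hj
          have : (blk F k.val <<< (512 * n)).testBit (512 * c.val + j) =
              F.testBit (512 * k.val + j) := by
            rw [Nat.testBit_shiftLeft, h, Nat.add_sub_cancel_left, blk, Nat.testBit_mod_two_pow,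
              Nat.testBit_shiftRight]
            simp [hj]
          rw [this]
        · rw [if_neg h.ne']
          refine Finset.sum_eq_zero fun j hj => ?_
          rw [if_neg]
          simp only [Finset.mem_range] at hj
          rw [Nat.testBit_shiftLeft, blk, Nat.testBit_mod_two_pow]
          have : ¬ 512 * c.val + j - 512 * n < 512 := by omega
          simp [this]
      rw [h]
      rcases Nat.lt_trichotomy c.val n with h | h | h
      · simp [h, h.ne, Nat.lt_succ_of_lt h]
      · simp [h, bit, hcol]
      · simp [h.ne', Nat.not_lt.2 h.le, Nat.not_lt.2 (Nat.succ_le_of_lt h)]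
    · simp only [Bool.not_eq_true] at hcol
      rw [hcol, cond_false, ev_zero]
      rcases Nat.lt_trichotomy c.val n with h | h | h
      · simp [h, Nat.lt_succ_of_lt h]
      · simp [h, bit, hcol]
      · simp [Nat.not_lt.2 h.le, Nat.not_lt.2 (Nat.succ_le_of_lt h)]

theorem ev_fmat (ν : ℕ → V) (M : List ℕ) (F : ℕ) : ev ν (fmat M F) = mv M (ev ν F) := by
  funext c
  have h : ∀ n, n ≤ 11 → ev ν (fmatTo M F n) c =
      ∑ k : Fin 11, if k.val < n then bit (M.getD k.val 0) c.val * ev ν F k else 0 := by
    intro n
    induction n with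
    | zero => intro _; simp [fmatTo, ev_zero]
    | succ n ih =>
      intro hn
      show ev ν (_ ^^^ _) c = _
      rw [ev_xor, Pi.add_apply, ih (by omega), ev_places ν F ⟨n, by omega⟩ (M.getD n 0) 11 c,
        if_pos c.isLt]
      rw [Finset.sum_eq_add_sum_sdiff_singleton_of_mem
          (f := fun k : Fin 11 => if k.val < n + 1 then _ else 0) (Finset.mem_univ ⟨n, by omega⟩),
        if_pos (Nat.lt_succ_self n)]
      congr 1
      rw [Finset.sum_eq_add_sum_sdiff_singleton_of_mem
        (f := fun k : Fin 11 => if k.val < n then _ else 0) (Finset.mem_univ ⟨n, by omega⟩),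
        if_neg (lt_irrefl n), zero_add]
      refine Finset.sum_congr rfl fun k hk => ?_
      have hne : k.val ≠ n := fun e => (Finset.mem_sdiff.1 hk).2 (Finset.mem_singleton.2 (Fin.ext e))
      by_cases hlt : k.val < n <;> simp [hlt, show (k.val < n + 1 ↔ k.val < n) by omega]
  rw [fmat, h 11 le_rfl]
  exact Finset.sum_congr rfl fun k _ => if_pos k.isLt

/-- The vector of unknowns number `r`. -/
def varTo (r : ℕ) : ℕ → ℕ
  | 0 => 0
  | n + 1 => Nat.xor (2 ^ (512 * n + (11 * r + n))) (varTo r n)

/-- The vector of unknowns number `r`. -/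
def var (r : ℕ) : ℕ := varTo r 11

/-- The vector whose first coordinate is one coordinate of an unknown. -/
def pick (r c : ℕ) : ℕ := 2 ^ (11 * r + c)

theorem ev_pow (ν : ℕ → V) {n m : ℕ} (hm : m < 512) (c : Fin 11) :
    ev ν (2 ^ (512 * n + m)) c = if c.val = n then ν (m / 11) (Fin.ofNat 11 m) else 0 := by
  by_cases h : c.val = n
  · rw [if_pos h]
    refine (Finset.sum_eq_single m ?_ ?_).trans ?_
    · intro j _ hj; rw [if_neg]; simp [Nat.testBit_two_pow]; omega
    · intro hj; exact absurd (Finset.mem_range.2 hm) hj
    · rw [if_pos]; simp [Nat.testBit_two_pow, h]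
  · rw [if_neg h]
    refine Finset.sum_eq_zero fun j hj => ?_
    simp only [Finset.mem_range] at hj
    rw [if_neg]; simp [Nat.testBit_two_pow]; omega

theorem ev_var (ν : ℕ → V) {r : ℕ} (hr : r < 46) : ev ν (var r) = ν r := by
  funext c
  have h : ∀ n, n ≤ 11 → ev ν (varTo r n) c = if c.val < n then ν r c else 0 := by
    intro n
    induction n with
    | zero => intro _; simp [varTo, ev_zero]
    | succ n ih =>
      intro hn
      show ev ν (_ ^^^ _) c = _
      rw [ev_xor, Pi.add_apply, ih (by omega), ev_pow ν (by omega) c]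
      rcases Nat.lt_trichotomy c.val n with h | h | h
      · simp [h, h.ne, Nat.lt_succ_of_lt h]
      · rw [if_pos h, if_neg (by omega), if_pos (by omega), add_zero,
          show (11 * r + n) / 11 = r by omega]
        congr 1
        apply Fin.ext
        simp [h]; omega
      · simp [h.ne', Nat.not_lt.2 h.le, Nat.not_lt.2 (Nat.succ_le_of_lt h)]
  rw [var, h 11 le_rfl, if_pos c.isLt]

theorem ev_pick (ν : ℕ → V) {r : ℕ} {k : Fin 11} (hr : r < 46) (c : Fin 11) :
    ev ν (pick r k.val) c = if c.val = 0 then ν r k else 0 := by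
  have h := ev_pow ν (n := 0) (m := 11 * r + k.val) (by omega) c
  have e1 : (11 * r + k.val) / 11 = r := by omega
  have e2 : Fin.ofNat 11 (11 * r + k.val) = k := Fin.ext (by simp <;> omega)
  have e3 : 512 * 0 + (11 * r + k.val) = 11 * r + k.val := by omega
  simp only [e1, e2] at h
  unfold pick
  simpa only [e3] using h

end Cfsg.Agent.ExtCert
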