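/-!
Generated words in the generators of the Held group.
-/

set_option autoImplicit false

namespace Cfsg.Agent.ExtCert.He

/-- Data. -/
def roots : List (List Nat) := [
  [1,2,4,5,3,2,3,2,1,5,3,2,3,2,3,5,1,2,3,2,3,5,4,2,1],
  [1,3,2,5,3,2,1,3,4,3,2,3,6,3,2,3,4,1,2,3,5,2,0,1,0],
  [3,5,3,2,3,2,1,5,3,6,3,2,3,4,2,3,6,3,4,0,1,2,3,2,3,5,3],
  [1,4,6,3,2,3,2,1,6,3,2,3,6,1,2,3,0,1,2,3,6,1,2,3,2,3,6,4,1],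
  [2,1,3,2,5,3,2,1,3,6,3,2,3,5,2,3,2,3,6,3,1,2,3,5,2,3,1,2],
  [2,3,2,1,3,2,3,2,1,4,5,3,4,2,3,5,4,1,2,3,2,3,1,2,3,2],
  [1,3,5,6,3,2,5,3,2,1,3,2,3,2,3,6,3,4,1,2,3,2,3,5,4,3,2,1],
  [0,1,3,5,3,2,3,2,1,5,3,2,3,5,1,2,3,1,2,3,5,1,2,3,2,3,5,3,1,0],
  [1,4,5,3,2,1,3,2,4,3,6,3,2,3,1,2,3,5,3,4,3,2,3,1],
  [3,5,6,3,2,1,3,2,3,2,1,3,2,3,4,2,3,1,2,3,5,6,3,1]]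

/-- Data. -/
def e8B : List (List Nat) := [
  [1,3,2,4,3,2,6,3,2,1,3,2,3,6,2,3,4,2,3,6,1,0],
  [1,2,3,6,3,2,1,3,4,6,3,2,3,6,3,2,1],
  [4,3,6,5,3,2,1,4,3,2,3,2,3,4,1,2,3,2,3,1,2,3,6,5,3,4,1,0]]

/-- Data. -/
def e8A : List (List Nat) := [
  [3,2,5,3,6,5,3,2,1,6,5,3,2,3,4,2,3,0,1,2,3,5,2,3,0],
  [1,3,2,4,3,2,6,3,2,1,3,2,3,6,2,3,4,2,3,6,1,0],
  [0,1,3,5,3,2,3,2,1,5,3,2,3,5,1,2,3,1,2,3,5,1,2,3,2,3,5,3,1,0]]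

/-- Data. -/
def witB : List (List Nat) := [
  [1,0,2,3,2,1,4,6],
  [1,3,6,3,2,3,2,1,4,6,3],
  [4,3,2,1,0,3,4,5,3,2,6,5,3,1,2,3,6,2,3],
  [5,3,6,3,2,1,3,2,5,3,2,3,5,6,2,3,1,0,1],
  [2,1,4,3,2,1,6,3,5,6,3,2,4,3,5,4,1,2,0],
  [0,2,1,0,3,2,1,3,2,6,3,5,3,1],
  [2,1,3,2,3,6,3,2,3,2,6,3,4,0]]

/-- Data. -/
def witA : List (List Nat) := [
  [],
  [3,2,3,2,1,3,5,6,3,5,6,3,2,3,5,0],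
  [0,2,4,3,2,6,3,5,3,6],
  [0,2,4,6,3,2,1,3,2,6,5,3,6,2,3,2,0],
  [2,3,2,6,3,5,3,4],
  [2,1,3,6,3,2,3,4,3,2,6,3,2,3,0]]

/-- Data. -/
def witR : List (List Nat × Nat) := [([0,2,1,6,3,2,4,5,3],0),
  ([1,4,3,5,3,2,1,3,4],1),
  ([1,3,2,6,3,2,3,5,6,3,2,3,6,4,1,0],1),
  ([0,1,0,1,2,5,3,6,5,3,2,3],0),
  ([3,2,1,4,5,3,6,5,3,2,3],0),
  ([2,3,2,6,3,5,3,4],0),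
  ([0,2,1,4,3,2,1,5,3,2,6,3,5,4,1,0],0),
  ([5,6,3,2,3,2,6,5,3,2,1,3,2,3,5,0],0),
  ([3,2,1,3,5,6,3,2,1,3,2,1,3,2],0),
  ([0,2,1,3,4,3,2,3,5,3,2,3,5,6,3],0)]

/-- Data. -/
def pairs : List (Nat × Nat) := [(0,2),(0,3),(0,4),(0,6),(0,7),(0,9),(1,3),(1,4),(1,5),(1,7),(1,8),(1,9),(2,5),(2,6),(2,7),(2,8),(2,9),(3,4),(3,6),(3,8),(3,9),(4,5),(4,7),(4,8),(4,9),(5,6),(5,7),(5,8),(5,9),(6,7),(6,8),(6,9),(7,8),(7,9),(8,9)]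

/-- Data. -/
def witP : List (List Nat × Nat) := [([2,1,0,3,4,6,3,2,1,3,2,4,6,3,2,3,0],0),
  ([0,1,2,6,5,3,2,3,2,1,5,6,3,2,3,2,0,1],1),
  ([0,5,3,2,1,4,3,2,3,2,5,6,3,5,2,1],0),
  ([3,5,3,2,1,3,4,6],1),
  ([1,4,6,3,2,3,2,1,6,3,2,3,5,3,2,0,1,0],0),
  ([2,1,3,2,1,0,3,2,1,6,3,5,6,2,3],0),
  ([0,1,2,1,3],0),
  ([0,2,1,3,2,4,3,6,3,5,3,2,3,6,4],1),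
  ([2,1,0,6,3,5,6,3,2,1,3,2,3,6,3,4,3,1],1),
  ([1,5,3,6,3,2,1,3,6,5,3,2,3,4,0,1],0),
  ([1,3,4,3,2,3,2,1],1),
  ([3,2,1,3,5,6,3,2,4,5,3],0),
  ([0,4,3,2,3,2,1,5,3,4,6,3,2,3],1),
  ([5,6,3,2,3,2,5,3,4,6,3,2,3,1,2,3,1,2,3,5,0,1],1),
  ([4,3,2,1,3,6,3,5,3,2,1,4,3,2,3,5,3,4,0,1],1),
  ([2,3,2,6,3,5,3,6],0),
  ([4,3,2,1,3,2,3,6,5,3,2,3,2,3,1,2,3,5,6,2,1,0],0),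
  ([2,1,0,3,2,6,3,5,3,2,1,3,2,3,5,6,3,4,1,0],1),
  ([0,1,4,3,5,3,2,3,5,6,3,2],0),
  ([2,5,3,2,4,3,2,1,6,3,2,3,6,5,3,1,2,3,5,4,3,6,1,0],0),
  ([2,3,2,1,3,4,6,3,2,4,3,2,5,3,1,2,3,2,3,6,3,1,2,3,1,0],0),
  ([3,2,1,0,1,5,3,2,3,6,3,2,3,5],0),
  ([3,4,3,5,3,2,3,5,6,3,2,3,4,1,2,3,2,3,5,3,2,0],0),
  ([0,1,4,5,3,2,3,2,3,6,3,2,4],1),
  ([1,0,1,3,2,5,3,6,5,3,2,3,6,0],0),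
  ([1,0,2,4,3,2,1,3,2,3,2,1,0],0),
  ([0,6],0),
  ([0,3,2,1,0,3,5,6,3,2,4,5,3],0),
  ([4,3,2,5,3,2,3,6,3,2,3,4,5,1],1),
  ([1,2,3,2,1,6,3,2,3,2,1,6,3,2,3,6,3,4,0],1),
  ([0,1,5,3,2,1,0,3,2,1,6,3,5,2,3,4,0],0),
  ([0,2,4,6,3,2,1,3,2,6,5,3,2,3,6,3,2],0),
  ([0,3,2,1,5,3,4,6,3,2,5,6,3,4,0],1),
  ([0,2,3,4,6,3,2,1,4,5,3,2,3,6,3,5,3,2,3,6,4],0),
  ([0,1,3,5,3,2,1,4,3,2,6],0)]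

/-- Data. -/
def p17 : List (List Nat) := [
  [0,1,6,3,2,5,3],
  [0,1,2,4,3,2,6,3,2,1,3,2,3,6,3,2,3,5,6,1,2,3,5,4,1,0]]

/-- Data. -/
def p5 : List (List Nat) := [
  [0,1,0,3,2,3,5,3,2,4,3],
  [4,6,3,2,1,5,3,4,6,3,2,3,6,4,3,5,4,1,2],
  [3,5,3,2,1,3,2,4,3,2,1,3,2,3,5,3,6,0]]

/-- Data. -/
def p3 : List (List Nat) := [
  [6,5,3,2,3,2,1,4,3,2,3,2,3,1,2,3,6,4,2,3,5,6,0],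
  [6,5,3,4,6,3,2,3,2,3,6,5],
  [3,5,3,2,1,3,4,3,2,3,5,3,2,3,4,0,1,2,3,5],
  [0,1,0,1,4,3,5,3,4],
  [0,1,0,1,4,3,5,3,4],
  [0,1,0,1,4,3,5,3,4],
  [0,1,0,1,4,3,5,3,4],
  [0,3]]

/-- Data. -/
def p7 : List (List Nat) := [
  [0,1,0,2,3,2,1,3,4,5,3,2,3,5,1,2,3],
  [0,1,2,1,5,3,2,1,3,4,5,3,2,3,1,2,3,6,4,3,1,2,3,6,1,2,1,0],
  [1,4,6,3,2,4,5,3,2,1,3,6,3,2,3,5,6,2],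
  [0,4,3,5,3,2,1,3,2,3,2,6,3,5,1,2,3,4,3,2,3,5,3,2],
  [1,5,3,6,3,2,1,3,2,3,4,6,3,5,6,1,2,3,0,1,2,3,1,2,3,4],
  [1,0,4,3,2,3,2,1,4,3],
  [1,0,4,3,2,3,2,1,4,3],
  [4,3,2,3,2,1,5,6,3,2,3,5,3,2,3,0,1,2,3,1,2]]

end Cfsg.Agent.ExtCert.He
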