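import Cfsg.Agent.Lib.Enum.HeMain
import Cfsg.Agent.Lib.SchurSplit.Two
import Cfsg.Agent.Lib.SchurSplit.Mathieu
import Cfsg.Agent.Lib.SchurSplit.SmallSylow
import Cfsg.Agent.Lib.SchurSplit.Chain
import Cfsg.Agent.Lib.ExtCert.HeMultData

/-!
The Held group has no stem extension with kernel of prime order.
-/

set_option autoImplicit false

namespace Cfsg.Agent.ExtCert.He

open Cfsg.Agent.Enum Cfsg.Agent.SchurSplit

local notation "Grp" => presHe.Grp
local notation "heTb" => HeA.table

/-- The element of a word, first letter rightmost. -/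
def el (w : List ℕ) : Grp := (w.map presHe.g).reverse.prod

theorem el_append (u w : List ℕ) : el (u ++ w) = el w * el u := by simp [el]

theorem el_nil : el [] = 1 := rfl

theorem el_reverse (w : List ℕ) : el w.reverse = (el w)⁻¹ := by
  rw [el, el, List.map_reverse, List.reverse_reverse, Data.reverse_prod _ presHe.g_mul_self,
    inv_inv]

/-- A chosen permutation representation. -/
noncomputable def rho : Grp →* Equiv.Perm (Fin HeA.table.N) := HeM.rep.choose

theorem rho_g (x : ℕ) : rho (presHe.g x) = HeA.table.permOf HeA.certified.invol x :=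
  HeM.rep.choose_spec.1 x

theorem rho_el (w : List ℕ) (i : Fin HeA.table.N) :
    rho (el w) i = ⟨HeA.table.imgWord w i, Table.imgWord_lt HeA.certified.invol w i.2⟩ := by
  rw [← Table.act_permOf heTb HeA.certified.invol w i, Data.act_eq, el, map_list_prod,
    List.map_reverse, List.map_map,
    show (w.map (rho ∘ presHe.g)) = w.map (Table.permOf heTb HeA.certified.invol) from
      List.map_congr_left fun x _ => rho_g x]
  rfl

/-- The base. -/
def baseN : List ℕ := [8, 80, 1, 0]

theorem baseN_lt : ∀ p ∈ baseN, p < HeA.table.N := by decide +kernel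

theorem levels_base : (HeA.levels.map Level.base).reverse = baseN := by decide +kernel

theorem prod_mul_le {G : Type*} [Group G] [Finite G] {g : ℕ → G} {t : Table}
    (hg : ∀ x, g x * g x = 1) (hinv : t.chkInvol = true) (φ : G →* Equiv.Perm (Fin t.N))
    (hφ : ∀ x, φ (g x) = t.permOf hinv x) :
    ∀ (ps : List ℕ) (ls : List Level), Level.chain ps ls = true → ls.all (Level.chk t) = true →
      (ls.map Level.n).prod * Nat.card (Level.fixer φ ((ls.map Level.base).reverse ++ ps)) ≤
        Nat.card (Level.fixer φ ps)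
  | ps, [], _, _ => by simp
  | ps, l :: ls, hc, hall => by
    simp only [Level.chain, Bool.and_eq_true, beq_iff_eq] at hc
    simp only [List.all_cons, Bool.and_eq_true] at hall
    have h1 := prod_mul_le hg hinv φ hφ (l.base :: ps) ls hc.2 hall.2
    have h2 := Level.mul_card_le hg hinv φ hφ l hall.1
    rw [hc.1] at h2
    rw [List.map_cons, List.prod_cons, List.map_cons, List.reverse_cons, List.append_assoc,
      List.singleton_append, mul_assoc]
    exact (Nat.mul_le_mul_left _ h1).trans h2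

theorem eq_one_of_fix {a : Grp} (h : ∀ p ∈ baseN, ∀ hp : p < HeA.table.N,
    rho a ⟨p, hp⟩ = ⟨p, hp⟩) : a = 1 := by
  have h1 := prod_mul_le presHe.g_mul_self HeA.certified.invol rho rho_g [] HeA.levels
    HeA.levels_chain HeA.levels_ok
  rw [HeA.levels_prod, List.append_nil, levels_base] at h1
  have h2 := h1.trans (Subgroup.card_le_card_group _)
  rw [HeM.card_grp] at h2
  have h3 : Nat.card (Level.fixer rho baseN) ≤ 1 :=
    Nat.le_of_mul_le_mul_left (by rw [mul_one]; exact h2) (by norm_num)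
  haveI : Subsingleton (Level.fixer rho baseN) := (Finite.card_le_one_iff_subsingleton).1 h3
  exact congrArg Subtype.val (Subsingleton.elim (⟨a, h⟩ : Level.fixer rho baseN) 1)

/-- The images of the base. -/
noncomputable def codeG (a : Grp) : List ℕ :=
  baseN.attach.map fun p => (rho a ⟨p.1, baseN_lt p.1 p.2⟩ : ℕ)

/-- The images of the base under a word. -/
def code (w : List ℕ) : List ℕ := baseN.map (HeA.table.imgWord w)

theorem codeG_el (w : List ℕ) : codeG (el w) = code w := by
  simp only [codeG, code, rho_el]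
  exact List.attach_map_val

theorem codeG_inj {a b : Grp} (h : codeG a = codeG b) : a = b := by
  refine (inv_mul_eq_one.1 (eq_one_of_fix (a := b⁻¹ * a) fun p hp hlt => ?_)).symm
  have h1 := (List.map_inj_left.1 h) ⟨p, hp⟩ (List.mem_attach _ _)
  rw [map_mul, map_inv, Equiv.Perm.mul_apply, Fin.ext h1]
  exact (rho b).symm_apply_apply _

/-- A product of words as one word. -/
def pr (xs : List (List ℕ)) : List ℕ := xs.reverse.flatten

theorem el_pr : ∀ xs : List (List ℕ), el (pr xs) = (xs.map el).prod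
  | [] => rfl
  | x :: xs => by
    rw [pr, List.reverse_cons, List.flatten_append, el_append, List.map_cons, List.prod_cons,
      ← el_pr xs]
    simp [pr]

/-- Check that two products agree. -/
def chk (xs ys : List (List ℕ)) : Bool := code (pr xs) == code (pr ys)

theorem eq_of_chk {xs ys : List (List ℕ)} (h : chk xs ys = true) :
    (xs.map el).prod = (ys.map el).prod := by
  rw [← el_pr, ← el_pr]
  exact codeG_inj (by rw [codeG_el, codeG_el]; exact beq_iff_eq.1 h)

/-! ### Lower bounds for subgroups -/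

/-- Iterated translates. -/
def layers {α : Type*} (f : α → α) : ℕ → List α → List α
  | 0, c => c
  | n + 1, c => c ++ layers f n (c.map f)

theorem layers_map {α β : Type*} (f : α → α) (g : β → β) (φ : α → β)
    (h : ∀ a, φ (f a) = g (φ a)) : ∀ (n : ℕ) (c : List α),
    (layers f n c).map φ = layers g n (c.map φ)
  | 0, _ => rfl
  | n + 1, c => by
    rw [layers, layers, List.map_append, layers_map f g φ h n]
    congr 2
    simp [List.map_map, Function.comp_def, h]

theorem layers_length {α : Type*} (f : α → α) : ∀ (n : ℕ) (c : List α),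
    (layers f n c).length = (n + 1) * c.length
  | 0, c => by simp [layers]
  | n + 1, c => by
    rw [layers, List.length_append, layers_length f n, List.length_map]; ring

theorem layers_mem {α : Type*} (f : α → α) {P : α → Prop} (hf : ∀ a, P a → P (f a)) :
    ∀ (n : ℕ) (c : List α), (∀ a ∈ c, P a) → ∀ a ∈ layers f n c, P a
  | 0, _, hc => hc
  | n + 1, c, hc => by
    intro a ha
    rcases List.mem_append.1 ha with h | h
    · exact hc a h
    · refine layers_mem f hf n _ ?_ a h
      intro b hb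
      obtain ⟨b', hb', rfl⟩ := List.mem_map.1 hb
      exact hf _ (hc _ hb')

/-- Normal-form products. -/
noncomputable def elsOf (n : ℕ) : List (List ℕ) → List Grp
  | [] => [1]
  | x :: xs => layers (el x * ·) n (elsOf n xs)

/-- Their images of the base. -/
def cfg (n : ℕ) : List (List ℕ) → List (List ℕ)
  | [] => [baseN]
  | x :: xs => layers (List.map (HeA.table.imgWord x)) n (cfg n xs)

theorem cfg_eq (n : ℕ) : ∀ xs, (elsOf n xs).map codeG = cfg n xs
  | [] => by rw [elsOf, cfg, List.map_singleton, ← el_nil, codeG_el]; rfl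
  | x :: xs => by
    rw [elsOf, cfg, layers_map (el x * ·) (List.map (HeA.table.imgWord x)) codeG ?_, cfg_eq n xs]
    intro a
    simp only [codeG, List.map_map]
    refine List.map_congr_left fun p _ => ?_
    simp only [Function.comp, map_mul, Equiv.Perm.mul_apply, rho_el]

/-- A code as a number. -/
def enc (q : List ℕ) : ℕ := q.foldl (fun a v => a * 4096 + v) 0

/-- Distinctness check. -/
def nodupB : List ℕ → Bool
  | [] => true
  | x :: xs => xs.all (fun y => !Nat.beq x y) && nodupB xs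

theorem nodupB_spec : ∀ {l : List ℕ}, nodupB l = true → l.Nodup
  | [], _ => List.nodup_nil
  | x :: xs, h => by
    simp only [nodupB, Bool.and_eq_true, List.all_eq_true] at h
    refine List.nodup_cons.2 ⟨fun hx => ?_, nodupB_spec h.2⟩
    have := h.1 x hx
    simp at this

theorem card_ge {n : ℕ} {xs : List (List ℕ)} (h : nodupB ((cfg n xs).map enc) = true)
    (H : Subgroup Grp) (hm : ∀ x ∈ xs, el x ∈ H) : (n + 1) ^ xs.length ≤ Nat.card H := by
  classical
  have hnd : (elsOf n xs).Nodup :=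
    List.Nodup.of_map codeG (by rw [cfg_eq]; exact List.Nodup.of_map enc (nodupB_spec h))
  have hlen : ∀ ys, (elsOf n ys).length = (n + 1) ^ ys.length := by
    intro ys
    induction ys with
    | nil => simp [elsOf]
    | cons y ys ih => rw [elsOf, layers_length, ih, List.length_cons, pow_succ']
  have hmem : ∀ ys, (∀ x ∈ ys, el x ∈ H) → ∀ a ∈ elsOf n ys, a ∈ H := by
    intro ys
    induction ys with
    | nil => intro _ a ha; rw [elsOf, List.mem_singleton] at ha; rw [ha]; exact one_mem H
    | cons y ys ih =>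
      intro hy
      exact layers_mem _ (fun a ha => mul_mem (hy y (List.mem_cons_self ..)) ha) n _
        (ih fun x hx => hy x (List.mem_cons_of_mem _ hx))
  haveI := Fintype.ofFinite H
  let l : List H := (elsOf n xs).attach.map fun a => ⟨a.1, hmem xs hm a.1 a.2⟩
  have hl : l.Nodup := (List.nodup_attach.2 hnd).map fun a b e => by
    exact Subtype.ext (congrArg (fun z : H => (z : Grp)) e)
  have h1 := hl.length_le_card
  rw [List.length_map, List.length_attach, hlen, ← Nat.card_eq_fintype_card] at h1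
  exact h1

/-! ### The prime two -/

/-- An entry of a list of words. -/
def wd (l : List (List ℕ)) (i : ℕ) : List ℕ := l.getD i []

/-- The seven elements of an elementary abelian group of order eight. -/
def seven (e : List (List ℕ)) : List (List (List ℕ)) :=
  [[wd e 0], [wd e 1], [wd e 2], [wd e 0, wd e 1], [wd e 0, wd e 2], [wd e 1, wd e 2],
    [wd e 0, wd e 1, wd e 2]]

/-- The representative of a class of good involutions. -/
def repW (k : ℕ) : List ℕ := if k = 0 then wd e8B 0 else wd e8A 0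

/-- Check an element against a representative. -/
def witB2 (rep : List ℕ) (h : List ℕ) (xs : List (List ℕ)) : Bool :=
  chk (h :: xs) [rep, h] && chk (xs ++ xs) []

theorem witB_ok : ∀ i : Fin 7,
    witB2 (repW 0) (wd witB i.val) ((seven e8B).getD i.val []) = true := by decide +kernel

theorem witA_ok : ∀ i : Fin 6,
    witB2 (repW 0) (wd witA i.val) ((seven e8A).getD (i.val + 1) []) = true := by decide +kernel

theorem witR_ok : ∀ i : Fin 10, (witR.getD i.val ([], 0)).2 < 2 ∧
    witB2 (repW (witR.getD i.val ([], 0)).2) (witR.getD i.val ([], 0)).1 [wd roots i.val] = true := by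
  decide +kernel

theorem witP_ok : ∀ i : Fin 35, (witP.getD i.val ([], 0)).2 < 2 ∧
    witB2 (repW (witP.getD i.val ([], 0)).2) (witP.getD i.val ([], 0)).1
      [wd roots (pairs.getD i.val (0, 0)).1, wd roots (pairs.getD i.val (0, 0)).2] = true := by
  decide +kernel

/-- The six root squares. -/
def sqs : List (ℕ × ℕ × ℕ) := [(0, 1, 4), (1, 2, 5), (2, 3, 6), (0, 5, 7), (1, 6, 8), (0, 8, 9)]

theorem sqs_ok : ∀ i : Fin 6, chk
    [wd roots (sqs.getD i.val (0, 0, 0)).1, wd roots (sqs.getD i.val (0, 0, 0)).2.1,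
      wd roots (sqs.getD i.val (0, 0, 0)).1, wd roots (sqs.getD i.val (0, 0, 0)).2.1]
    [wd roots (sqs.getD i.val (0, 0, 0)).2.2] = true := by decide +kernel

/-- The order in which the roots are adjoined, newest first. -/
def chainW : List (List ℕ) := [3, 2, 1, 0, 5, 4, 6, 8, 7, 9].map fun i => wd roots i

theorem chainW_nodup : nodupB ((cfg 1 chainW).map enc) = true := by decide +kernel

theorem sq_one_of_six {E : Type*} [Group E] {A B C : E} (hB : B * B = 1) (hC : C * C = 1)
    (hBC : B * C = C * B) (h1 : A * B * (A * B) = 1) (h2 : A * C * (A * C) = 1)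
    (h3 : A * (B * C) * (A * (B * C)) = 1) : A * A = 1 := by
  have e1 : B * A * B = A⁻¹ := by
    rw [eq_inv_iff_mul_eq_one, mul_eq_one_comm, ← h1]; simp only [mul_assoc]
  have e2 : C * A * C = A⁻¹ := by
    rw [eq_inv_iff_mul_eq_one, mul_eq_one_comm, ← h2]; simp only [mul_assoc]
  have e3 : B * C * A * (B * C) = A⁻¹ := by
    rw [eq_inv_iff_mul_eq_one, mul_eq_one_comm, ← h3]; simp only [mul_assoc]
  have hBi : B⁻¹ = B := inv_eq_of_mul_eq_one_right hB
  have e4 : B * C * A * (B * C) = A := by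
    calc B * C * A * (B * C) = B * C * A * (C * B) := by rw [hBC]
      _ = B * (C * A * C) * B := by simp only [mul_assoc]
      _ = B * (B * A * B) * B := by rw [e2, e1]
      _ = B * B * A * (B * B) := by simp only [mul_assoc]
      _ = A := by rw [hB, one_mul, mul_one]
  rw [e4] at e3
  exact mul_eq_one_iff_eq_inv.2 e3

theorem sq_one_of_seven {E : Type*} [Group E] {A B C q : E} (hq : q * q = 1)
    (hqc : ∀ x, x * q = q * x)
    (hA : A * A = q) (hB : B * B = q) (hC : C * C = q) (h1 : A * B * (A * B) = q)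
    (h2 : A * C * (A * C) = q) (h3 : B * C * (B * C) = q)
    (h4 : A * B * C * (A * B * C) = q) : q = 1 := by
  have key : ∀ x y : E, x * x = q → y * y = q → x * y * (x * y) = q → y * x = q * (x * y) := by
    intro x y hxx hyy hxy
    have hyi : y⁻¹ = q * y := inv_eq_of_mul_eq_one_right (by rw [← mul_assoc, hqc, mul_assoc, hyy, hq])
    have hxi : x⁻¹ = q * x := inv_eq_of_mul_eq_one_right (by rw [← mul_assoc, hqc, mul_assoc, hxx, hq])
    calc y * x = x⁻¹ * (x * y * (x * y)) * y⁻¹ := by group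
      _ = x⁻¹ * q * y⁻¹ := by rw [hxy]
      _ = q * x * q * (q * y) := by rw [hxi, hyi]
      _ = q * x * (q * q) * y := by simp only [mul_assoc]
      _ = q * (x * y) := by rw [hq, mul_one, mul_assoc]
  have kAB := key A B hA hB h1
  have kAC := key A C hA hC h2
  have kBC := key B C hB hC h3
  rw [← h4]
  calc A * B * C * (A * B * C) = A * B * (C * A) * (B * C) := by simp only [mul_assoc]
    _ = A * B * (q * (A * C)) * (B * C) := by rw [kAC]
    _ = q * (A * (B * A) * (C * B) * C) := by
      rw [← mul_assoc (A * B) q, hqc]; simp only [mul_assoc]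
    _ = q * (A * (q * (A * B)) * (q * (B * C)) * C) := by rw [kAB, kBC]
    _ = q * (q * (A * A * B * q * B * (C * C))) := by
      rw [← mul_assoc A q, hqc A]; simp only [mul_assoc]
    _ = A * A * q * (B * B) * (C * C) := by
      rw [← mul_assoc q q, hq, one_mul, mul_assoc (A * A) B q, hqc B]; simp only [mul_assoc]
    _ = q * q * (q * q) := by rw [hA, hB, hC]; simp only [mul_assoc]
    _ = 1 := by rw [hq, one_mul]

section Two

variable {E : Type} [Group E] (π : E →* Grp) (hπ : Function.Surjective π)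
  (hc : π.ker ≤ Subgroup.center E) (hk : ∀ v ∈ π.ker, v * v = 1)

include hπ hc hk in
/-- Lifts of conjugate involutions have equal squares. -/
theorem sq_eq_of_wit {rep h : List ℕ} {xs : List (List ℕ)} (hw : witB2 rep h xs = true) {y z : E}
    (hy : π y = (xs.map el).prod) (hz : π z = el rep) : y * y = z * z := by
  simp only [witB2, Bool.and_eq_true] at hw
  have e1 := eq_of_chk hw.1
  have e2 := eq_of_chk hw.2
  simp only [List.map_cons, List.map_nil, List.prod_cons, List.prod_nil, mul_one, List.map_append,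
    List.prod_append] at e1 e2
  obtain ⟨h', hh⟩ := hπ (el h)
  obtain ⟨k, hk'⟩ : ∃ k, z⁻¹ * (h' * y * h'⁻¹) = k := ⟨_, rfl⟩
  have hkk : k ∈ π.ker := by
    rw [← hk', MonoidHom.mem_ker, map_mul, map_mul, map_mul, map_inv, map_inv, hh, hy, hz, e1]
    group
  have hyy : y * y ∈ π.ker := by rw [MonoidHom.mem_ker, map_mul, hy, e2]
  have hcen := fun v hv x => Subgroup.mem_center_iff.1 (hc (x := v) hv) x
  calc y * y = h' * (y * y) * h'⁻¹ := by rw [hcen _ hyy h', mul_inv_cancel_right]
    _ = (h' * y * h'⁻¹) * (h' * y * h'⁻¹) := by group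
    _ = z * k * (z * k) := by rw [← hk', mul_inv_cancel_left]
    _ = z * (k * z) * k := by simp only [mul_assoc]
    _ = z * (z * k) * k := by rw [hcen k hkk z]
    _ = z * z * (k * k) := by simp only [mul_assoc]
    _ = z * z := by rw [hk k hkk, mul_one]

include hπ hc hk in
theorem good_B : Good π (el (repW 0)) := by
  intro z hz
  obtain ⟨B, hB⟩ := hπ (el (wd e8B 1))
  obtain ⟨C, hC⟩ := hπ (el (wd e8B 2))
  have hA : π z = el (wd e8B 0) := hz
  have hsq : ∀ (i : Fin 7) (y : E), π y = (((seven e8B).getD i.val []).map el).prod →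
      y * y = z * z := fun i y hy => sq_eq_of_wit π hπ hc hk (witB_ok i) hy hz
  have hzz : z * z ∈ π.ker := by
    have h := witB_ok 0
    simp only [witB2, Bool.and_eq_true] at h
    have h2 := eq_of_chk h.2
    rw [MonoidHom.mem_ker, map_mul, hA]
    simpa [seven] using h2
  refine sq_one_of_seven (A := z) (B := B) (C := C) (hk _ hzz)
    (fun x => Subgroup.mem_center_iff.1 (hc hzz) x) rfl
    (hsq 1 B (by simp [seven, hB])) (hsq 2 C (by simp [seven, hC]))
    (hsq 3 _ (by simp [seven, hA, hB])) (hsq 4 _ (by simp [seven, hA, hC]))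
    (hsq 5 _ (by simp [seven, hB, hC])) (hsq 6 _ (by simp [seven, hA, hB, hC, mul_assoc]))

include hπ hc hk in
theorem good_A : Good π (el (repW 1)) := by
  intro z hz
  obtain ⟨B, hB⟩ := hπ (el (wd e8A 1))
  obtain ⟨C, hC⟩ := hπ (el (wd e8A 2))
  have hA : π z = el (wd e8A 0) := hz
  have hg : ∀ (i : Fin 6), Good π ((((seven e8A).getD (i.val + 1) []).map el).prod) := by
    intro i y hy
    obtain ⟨r, hr⟩ := hπ (el (repW 0))
    rw [sq_eq_of_wit π hπ hc hk (witA_ok i) hy hr]
    exact good_B π hπ hc hk r hr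
  have hb := hg 0
  have hc' := hg 1
  have hab := hg 2
  have hac := hg 3
  have hbc := hg 4
  have habc := hg 5
  simp [seven] at hb hc' hab hac hbc habc
  exact sq_one_of_six (hb B hB) (hc' C hC) (comm_of_good hb hc' hbc hB hC)
    (hab _ (by rw [map_mul, hA, hB])) (hac _ (by rw [map_mul, hA, hC]))
    (habc _ (by rw [map_mul, map_mul, hA, hB, hC]))

include hπ hc hk in
theorem good_of_wit {k : ℕ} {h : List ℕ} {xs : List (List ℕ)} (hk2 : k < 2)
    (hw : witB2 (repW k) h xs = true) : Good π (xs.map el).prod := by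
  intro y hy
  obtain ⟨r, hr⟩ := hπ (el (repW k))
  rw [sq_eq_of_wit π hπ hc hk hw hy hr]
  interval_cases k
  · exact good_B π hπ hc hk r hr
  · exact good_A π hπ hc hk r hr

end Two

theorem noExt_two : NoExt Grp 2 := by
  intro E _ _ π hπ hc hcard hd
  have hk : ∀ v ∈ π.ker, v * v = 1 := by
    intro v hv
    have h := pow_card_eq_one' (x := (⟨v, hv⟩ : π.ker))
    rw [hcard] at h
    simpa [pow_two, Subtype.ext_iff] using h
  choose L hL using fun i => hπ (el (wd roots i))
  have hgood : ∀ i : Fin 10, Good π (el (wd roots i.val)) := by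
    intro i
    simpa using good_of_wit π hπ hc hk (witR_ok i).1 (witR_ok i).2
  have hcm : ∀ (i : Fin 35) (x y : E), π x = el (wd roots (pairs.getD i.val (0, 0)).1) →
      π y = el (wd roots (pairs.getD i.val (0, 0)).2) → x * y = y * x := by
    intro i x y hx hy
    have hlt : ∀ i : Fin 35, (pairs.getD i.val (0, 0)).1 < 10 ∧ (pairs.getD i.val (0, 0)).2 < 10 := by
      decide +kernel
    refine comm_of_good (hgood ⟨_, (hlt i).1⟩) (hgood ⟨_, (hlt i).2⟩) ?_ hx hy
    simpa using good_of_wit π hπ hc hk (witP_ok i).1 (witP_ok i).2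
  have hs : ∀ (i : Fin 6) (x y : E), π x = el (wd roots (sqs.getD i.val (0, 0, 0)).1) →
      π y = el (wd roots (sqs.getD i.val (0, 0, 0)).2.1) →
      π (x * y * (x * y)) = el (wd roots (sqs.getD i.val (0, 0, 0)).2.2) := by
    intro i x y hx hy
    have h := eq_of_chk (sqs_ok i)
    simp only [List.map_cons, List.map_nil, List.prod_cons, List.prod_nil, mul_one] at h
    rw [← h, map_mul, map_mul, hx, hy]; simp only [mul_assoc]
  obtain ⟨a, pa⟩ : ∃ a, π a = el (wd roots 0) := hπ _
  obtain ⟨b, pb⟩ : ∃ b, π b = el (wd roots 1) := hπ _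
  obtain ⟨c, pc⟩ : ∃ c, π c = el (wd roots 2) := hπ _
  obtain ⟨d, pd⟩ : ∃ d, π d = el (wd roots 3) := hπ _
  obtain ⟨u, hu⟩ : ∃ u, u = a * b * (a * b) := ⟨_, rfl⟩
  obtain ⟨w, hw⟩ : ∃ w, w = b * c * (b * c) := ⟨_, rfl⟩
  obtain ⟨v, hv⟩ : ∃ v, v = c * d * (c * d) := ⟨_, rfl⟩
  obtain ⟨t, ht⟩ : ∃ t, t = a * w * (a * w) := ⟨_, rfl⟩
  obtain ⟨s, hs'⟩ : ∃ s, s = b * v * (b * v) := ⟨_, rfl⟩
  obtain ⟨r, hr⟩ : ∃ r, r = a * s * (a * s) := ⟨_, rfl⟩
  have pu : π u = el (wd roots 4) := hu ▸ hs 0 a b pa pb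
  have pw : π w = el (wd roots 5) := hw ▸ hs 1 b c pb pc
  have pv : π v = el (wd roots 6) := hv ▸ hs 2 c d pc pd
  have pt : π t = el (wd roots 7) := ht ▸ hs 3 a w pa pw
  have ps : π s = el (wd roots 8) := hs' ▸ hs 4 b v pb pv
  have prr : π r = el (wd roots 9) := hr ▸ hs 5 a s pa ps
  have a2 := hgood 0 a pa
  have b2 := hgood 1 b pb
  have c2 := hgood 2 c pc
  have d2 := hgood 3 d pd
  have u2 := hgood 4 u pu
  have w2 := hgood 5 w pw
  have v2 := hgood 6 v pv
  have t2 := hgood 7 t pt
  have s2 := hgood 8 s ps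
  have r2 := hgood 9 r prr
  have cac : a * c = c * a := hcm 0 a c pa pc
  have cad : a * d = d * a := hcm 1 a d pa pd
  have cau : a * u = u * a := hcm 2 a u pa pu
  have cav : a * v = v * a := hcm 3 a v pa pv
  have cat : a * t = t * a := hcm 4 a t pa pt
  have car : a * r = r * a := hcm 5 a r pa prr
  have cbd : b * d = d * b := hcm 6 b d pb pd
  have cbu : b * u = u * b := hcm 7 b u pb pu
  have cbw : b * w = w * b := hcm 8 b w pb pw
  have cbt : b * t = t * b := hcm 9 b t pb pt
  have cbs : b * s = s * b := hcm 10 b s pb ps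
  have cbr : b * r = r * b := hcm 11 b r pb prr
  have ccw : c * w = w * c := hcm 12 c w pc pw
  have ccv : c * v = v * c := hcm 13 c v pc pv
  have cct : c * t = t * c := hcm 14 c t pc pt
  have ccs : c * s = s * c := hcm 15 c s pc ps
  have ccr : c * r = r * c := hcm 16 c r pc prr
  have cdu : d * u = u * d := hcm 17 d u pd pu
  have cdv : d * v = v * d := hcm 18 d v pd pv
  have cds : d * s = s * d := hcm 19 d s pd ps
  have cdr : d * r = r * d := hcm 20 d r pd prr
  have cuw : u * w = w * u := hcm 21 u w pu pw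
  have cut : u * t = t * u := hcm 22 u t pu pt
  have cus : u * s = s * u := hcm 23 u s pu ps
  have cur : u * r = r * u := hcm 24 u r pu prr
  have cwv : w * v = v * w := hcm 25 w v pw pv
  have cwt : w * t = t * w := hcm 26 w t pw pt
  have cws : w * s = s * w := hcm 27 w s pw ps
  have cwr : w * r = r * w := hcm 28 w r pw prr
  have cvt : v * t = t * v := hcm 29 v t pv pt
  have cvs : v * s = s * v := hcm 30 v s pv ps
  have cvr : v * r = r * v := hcm 31 v r pv prr
  have cts : t * s = s * t := hcm 32 t s pt ps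
  have ctr : t * r = r * t := hcm 33 t r pt prr
  have csr : s * r = r * s := hcm 34 s r ps prr
  have duc : u * c * (u * c) = t :=
    derived_relation a2 b2 c2 cac hu hw w2 u2 ht cbw cbt cat
  have dwd : w * d * (w * d) = s :=
    derived_relation b2 c2 d2 cbd hw hv v2 w2 hs' ccv ccs cbs
  have duv : u * v * (u * v) = r :=
    derived_relation a2 b2 v2 cav hu hs' s2 u2 hr cbs cbr car
  have dtd : t * d * (t * d) = r :=
    derived_relation a2 w2 d2 cad ht dwd.symm s2 t2 hr cws cwr car
  have cxy : ∀ {x y z : E}, x * x = 1 → x * y = y * x → z = y → x * y * x = z := by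
    intro x y z hx h hz
    rw [h, mul_assoc, hx, mul_one, hz]
  have conR : ∀ {x y z : E}, x * x = 1 → x * y * (x * y) = z → y * x * y = x * z := by
    intro x y z hx h
    rw [← h]; simp only [← mul_assoc]; rw [hx, one_mul]
  have conL : ∀ {x y z : E}, y * y = 1 → x * y * (x * y) = z → x * y * x = z * y := by
    intro x y z hy h
    rw [← h]; simp only [mul_assoc]; rw [hy, mul_one]
  let S1 : Set E := insert r ∅
  let S2 : Set E := insert t S1
  let S3 : Set E := insert s S2
  let S4 : Set E := insert v S3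
  let S5 : Set E := insert u S4
  let S6 : Set E := insert w S5
  let S7 : Set E := insert a S6
  let S8 : Set E := insert b S7
  let S9 : Set E := insert c S8
  let S10 : Set E := insert d S9
  have hb1 : Nat.card (Subgroup.closure S1) ≤ Nat.card (Subgroup.closure (∅ : Set E)) * 2 :=
    card_closure_insert_le ∅ r r2 fun y hy => hy.elim
  have hb2 : Nat.card (Subgroup.closure S2) ≤ Nat.card (Subgroup.closure S1) * 2 :=
    card_closure_insert_le S1 t t2 fun y hy => by
    rcases hy with rfl | hy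
    · rw [cxy t2 (ctr) rfl]; exact (Subgroup.subset_closure (Or.inl rfl))
    · exact hy.elim
  have hb3 : Nat.card (Subgroup.closure S3) ≤ Nat.card (Subgroup.closure S2) * 2 :=
    card_closure_insert_le S2 s s2 fun y hy => by
    rcases hy with rfl | rfl | hy
    · rw [cxy s2 (cts.symm) rfl]; exact (Subgroup.subset_closure (Or.inl rfl))
    · rw [cxy s2 (csr) rfl]; exact (Subgroup.subset_closure (Or.inr (Or.inl rfl)))
    · exact hy.elim
  have hb4 : Nat.card (Subgroup.closure S4) ≤ Nat.card (Subgroup.closure S3) * 2 :=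
    card_closure_insert_le S3 v v2 fun y hy => by
    rcases hy with rfl | rfl | rfl | hy
    · rw [cxy v2 (cvs) rfl]; exact (Subgroup.subset_closure (Or.inl rfl))
    · rw [cxy v2 (cvt) rfl]; exact (Subgroup.subset_closure (Or.inr (Or.inl rfl)))
    · rw [cxy v2 (cvr) rfl]; exact (Subgroup.subset_closure (Or.inr (Or.inr (Or.inl rfl))))
    · exact hy.elim
  have hb5 : Nat.card (Subgroup.closure S5) ≤ Nat.card (Subgroup.closure S4) * 2 :=
    card_closure_insert_le S4 u u2 fun y hy => by
    rcases hy with rfl | rfl | rfl | rfl | hy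
    · rw [conL v2 (duv)]; exact mul_mem (Subgroup.subset_closure (Or.inr (Or.inr (Or.inr (Or.inl rfl))))) (Subgroup.subset_closure (Or.inl rfl))
    · rw [cxy u2 (cus) rfl]; exact (Subgroup.subset_closure (Or.inr (Or.inl rfl)))
    · rw [cxy u2 (cut) rfl]; exact (Subgroup.subset_closure (Or.inr (Or.inr (Or.inl rfl))))
    · rw [cxy u2 (cur) rfl]; exact (Subgroup.subset_closure (Or.inr (Or.inr (Or.inr (Or.inl rfl)))))
    · exact hy.elim
  have hb6 : Nat.card (Subgroup.closure S6) ≤ Nat.card (Subgroup.closure S5) * 2 :=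
    card_closure_insert_le S5 w w2 fun y hy => by
    rcases hy with rfl | rfl | rfl | rfl | rfl | hy
    · rw [cxy w2 (cuw.symm) rfl]; exact (Subgroup.subset_closure (Or.inl rfl))
    · rw [cxy w2 (cwv) rfl]; exact (Subgroup.subset_closure (Or.inr (Or.inl rfl)))
    · rw [cxy w2 (cws) rfl]; exact (Subgroup.subset_closure (Or.inr (Or.inr (Or.inl rfl))))
    · rw [cxy w2 (cwt) rfl]; exact (Subgroup.subset_closure (Or.inr (Or.inr (Or.inr (Or.inl rfl)))))
    · rw [cxy w2 (cwr) rfl]; exact (Subgroup.subset_closure (Or.inr (Or.inr (Or.inr (Or.inr (Or.inl rfl))))))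
    · exact hy.elim
  have hb7 : Nat.card (Subgroup.closure S7) ≤ Nat.card (Subgroup.closure S6) * 2 :=
    card_closure_insert_le S6 a a2 fun y hy => by
    rcases hy with rfl | rfl | rfl | rfl | rfl | rfl | hy
    · rw [conL w2 (ht.symm)]; exact mul_mem (Subgroup.subset_closure (Or.inr (Or.inr (Or.inr (Or.inr (Or.inl rfl)))))) (Subgroup.subset_closure (Or.inl rfl))
    · rw [cxy a2 (cau) rfl]; exact (Subgroup.subset_closure (Or.inr (Or.inl rfl)))
    · rw [cxy a2 (cav) rfl]; exact (Subgroup.subset_closure (Or.inr (Or.inr (Or.inl rfl))))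
    · rw [conL s2 (hr.symm)]; exact mul_mem (Subgroup.subset_closure (Or.inr (Or.inr (Or.inr (Or.inr (Or.inr (Or.inl rfl))))))) (Subgroup.subset_closure (Or.inr (Or.inr (Or.inr (Or.inl rfl)))))
    · rw [cxy a2 (cat) rfl]; exact (Subgroup.subset_closure (Or.inr (Or.inr (Or.inr (Or.inr (Or.inl rfl))))))
    · rw [cxy a2 (car) rfl]; exact (Subgroup.subset_closure (Or.inr (Or.inr (Or.inr (Or.inr (Or.inr (Or.inl rfl)))))))
    · exact hy.elim
  have hb8 : Nat.card (Subgroup.closure S8) ≤ Nat.card (Subgroup.closure S7) * 2 :=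
    card_closure_insert_le S7 b b2 fun y hy => by
    rcases hy with rfl | rfl | rfl | rfl | rfl | rfl | rfl | hy
    · rw [conR a2 (hu.symm)]; exact mul_mem (Subgroup.subset_closure (Or.inl rfl)) (Subgroup.subset_closure (Or.inr (Or.inr (Or.inl rfl))))
    · rw [cxy b2 (cbw) rfl]; exact (Subgroup.subset_closure (Or.inr (Or.inl rfl)))
    · rw [cxy b2 (cbu) rfl]; exact (Subgroup.subset_closure (Or.inr (Or.inr (Or.inl rfl))))
    · rw [conL v2 (hs'.symm)]; exact mul_mem (Subgroup.subset_closure (Or.inr (Or.inr (Or.inr (Or.inr (Or.inl rfl)))))) (Subgroup.subset_closure (Or.inr (Or.inr (Or.inr (Or.inl rfl)))))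
    · rw [cxy b2 (cbs) rfl]; exact (Subgroup.subset_closure (Or.inr (Or.inr (Or.inr (Or.inr (Or.inl rfl))))))
    · rw [cxy b2 (cbt) rfl]; exact (Subgroup.subset_closure (Or.inr (Or.inr (Or.inr (Or.inr (Or.inr (Or.inl rfl)))))))
    · rw [cxy b2 (cbr) rfl]; exact (Subgroup.subset_closure (Or.inr (Or.inr (Or.inr (Or.inr (Or.inr (Or.inr (Or.inl rfl))))))))
    · exact hy.elim
  have hb9 : Nat.card (Subgroup.closure S9) ≤ Nat.card (Subgroup.closure S8) * 2 :=
    card_closure_insert_le S8 c c2 fun y hy => by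
    rcases hy with rfl | rfl | rfl | rfl | rfl | rfl | rfl | rfl | hy
    · rw [conR b2 (hw.symm)]; exact mul_mem (Subgroup.subset_closure (Or.inl rfl)) (Subgroup.subset_closure (Or.inr (Or.inr (Or.inl rfl))))
    · rw [cxy c2 (cac.symm) rfl]; exact (Subgroup.subset_closure (Or.inr (Or.inl rfl)))
    · rw [cxy c2 (ccw) rfl]; exact (Subgroup.subset_closure (Or.inr (Or.inr (Or.inl rfl))))
    · rw [conR u2 (duc)]; exact mul_mem (Subgroup.subset_closure (Or.inr (Or.inr (Or.inr (Or.inl rfl))))) (Subgroup.subset_closure (Or.inr (Or.inr (Or.inr (Or.inr (Or.inr (Or.inr (Or.inl rfl))))))))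
    · rw [cxy c2 (ccv) rfl]; exact (Subgroup.subset_closure (Or.inr (Or.inr (Or.inr (Or.inr (Or.inl rfl))))))
    · rw [cxy c2 (ccs) rfl]; exact (Subgroup.subset_closure (Or.inr (Or.inr (Or.inr (Or.inr (Or.inr (Or.inl rfl)))))))
    · rw [cxy c2 (cct) rfl]; exact (Subgroup.subset_closure (Or.inr (Or.inr (Or.inr (Or.inr (Or.inr (Or.inr (Or.inl rfl))))))))
    · rw [cxy c2 (ccr) rfl]; exact (Subgroup.subset_closure (Or.inr (Or.inr (Or.inr (Or.inr (Or.inr (Or.inr (Or.inr (Or.inl rfl)))))))))
    · exact hy.elim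
  have hb10 : Nat.card (Subgroup.closure S10) ≤ Nat.card (Subgroup.closure S9) * 2 :=
    card_closure_insert_le S9 d d2 fun y hy => by
    rcases hy with rfl | rfl | rfl | rfl | rfl | rfl | rfl | rfl | rfl | hy
    · rw [conR c2 (hv.symm)]; exact mul_mem (Subgroup.subset_closure (Or.inl rfl)) (Subgroup.subset_closure (Or.inr (Or.inr (Or.inr (Or.inr (Or.inr (Or.inl rfl)))))))
    · rw [cxy d2 (cbd.symm) rfl]; exact (Subgroup.subset_closure (Or.inr (Or.inl rfl)))
    · rw [cxy d2 (cad.symm) rfl]; exact (Subgroup.subset_closure (Or.inr (Or.inr (Or.inl rfl))))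
    · rw [conR w2 (dwd)]; exact mul_mem (Subgroup.subset_closure (Or.inr (Or.inr (Or.inr (Or.inl rfl))))) (Subgroup.subset_closure (Or.inr (Or.inr (Or.inr (Or.inr (Or.inr (Or.inr (Or.inl rfl))))))))
    · rw [cxy d2 (cdu) rfl]; exact (Subgroup.subset_closure (Or.inr (Or.inr (Or.inr (Or.inr (Or.inl rfl))))))
    · rw [cxy d2 (cdv) rfl]; exact (Subgroup.subset_closure (Or.inr (Or.inr (Or.inr (Or.inr (Or.inr (Or.inl rfl)))))))
    · rw [cxy d2 (cds) rfl]; exact (Subgroup.subset_closure (Or.inr (Or.inr (Or.inr (Or.inr (Or.inr (Or.inr (Or.inl rfl))))))))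
    · rw [conR t2 (dtd)]; exact mul_mem (Subgroup.subset_closure (Or.inr (Or.inr (Or.inr (Or.inr (Or.inr (Or.inr (Or.inr (Or.inl rfl))))))))) (Subgroup.subset_closure (Or.inr (Or.inr (Or.inr (Or.inr (Or.inr (Or.inr (Or.inr (Or.inr (Or.inl rfl))))))))))
    · rw [cxy d2 (cdr) rfl]; exact (Subgroup.subset_closure (Or.inr (Or.inr (Or.inr (Or.inr (Or.inr (Or.inr (Or.inr (Or.inr (Or.inl rfl))))))))))
    · exact hy.elim
  have hb0 : Nat.card (Subgroup.closure (∅ : Set E)) = 1 := by
    rw [Subgroup.closure_empty, Subgroup.card_bot]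
  let T := Subgroup.closure S10
  have hTle : Nat.card T ≤ 1024 := by
    show Nat.card (Subgroup.closure S10) ≤ 1024
    omega
  have hTge : 1024 ≤ Nat.card (T.map π) := by
    refine card_ge (n := 1) chainW_nodup _ fun x hx => ?_
    simp only [chainW, List.map_cons, List.map_nil, List.mem_cons, List.not_mem_nil, or_false] at hx
    rcases hx with rfl | rfl | rfl | rfl | rfl | rfl | rfl | rfl | rfl | rfl
    · exact ⟨d, (Subgroup.subset_closure (Or.inl rfl)), pd⟩
    · exact ⟨c, (Subgroup.subset_closure (Or.inr (Or.inl rfl))), pc⟩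
    · exact ⟨b, (Subgroup.subset_closure (Or.inr (Or.inr (Or.inl rfl)))), pb⟩
    · exact ⟨a, (Subgroup.subset_closure (Or.inr (Or.inr (Or.inr (Or.inl rfl))))), pa⟩
    · exact ⟨w, (Subgroup.subset_closure (Or.inr (Or.inr (Or.inr (Or.inr (Or.inl rfl)))))), pw⟩
    · exact ⟨u, (Subgroup.subset_closure (Or.inr (Or.inr (Or.inr (Or.inr (Or.inr (Or.inl rfl))))))), pu⟩
    · exact ⟨v, (Subgroup.subset_closure (Or.inr (Or.inr (Or.inr (Or.inr (Or.inr (Or.inr (Or.inl rfl)))))))), pv⟩
    · exact ⟨s, (Subgroup.subset_closure (Or.inr (Or.inr (Or.inr (Or.inr (Or.inr (Or.inr (Or.inr (Or.inl rfl))))))))), ps⟩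
    · exact ⟨t, (Subgroup.subset_closure (Or.inr (Or.inr (Or.inr (Or.inr (Or.inr (Or.inr (Or.inr (Or.inr (Or.inl rfl)))))))))), pt⟩
    · exact ⟨r, (Subgroup.subset_closure (Or.inr (Or.inr (Or.inr (Or.inr (Or.inr (Or.inr (Or.inr (Or.inr (Or.inr (Or.inl rfl))))))))))), prr⟩
  refine false_of_split π hπ hc Nat.prime_two hcard hd T (hTle.trans hTge) ?_
  have h1 := Subgroup.card_mul_index (T.map π)
  have hle : Nat.card (T.map π) ≤ Nat.card T :=
    Nat.card_le_card_of_surjective _ (π.subgroupMap_surjective T)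
  rw [show Nat.card (T.map π) = 1024 by omega, HeM.card_grp] at h1
  rw [show (T.map π).index = 3935925 by omega]
  decide +kernel

/-! ### Odd primes -/

/-- Lifts of commuting elements commute when some element acts on them by powers `r`, `s` with
`r s ≢ 1`. -/
theorem comm_pow {E G : Type*} [Group E] [Group G] (π : E →* G) (hπ : Function.Surjective π)
    (hc : π.ker ≤ Subgroup.center E) {p : ℕ} (hp : p.Prime) (hk : ∀ v ∈ π.ker, v ^ p = 1)
    {x y g : G} {r s : ℕ} (hrs : ¬ p ∣ r * s - 1) (hrs1 : 1 ≤ r * s) (hxy : x * y = y * x)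
    (hgx : g * x = x ^ r * g) (hgy : g * y = y ^ s * g) {X Y : E} (hX : π X = x) (hY : π Y = y) :
    X * Y = Y * X := by
  obtain ⟨g', rfl⟩ := hπ g
  obtain ⟨m, hm⟩ : ∃ m, X * Y * X⁻¹ * Y⁻¹ = m := ⟨_, rfl⟩
  have cen : ∀ v ∈ π.ker, ∀ z : E, Commute v z := fun v hv z =>
    (Subgroup.mem_center_iff.1 (hc hv) z).symm
  have hmk : m ∈ π.ker := by
    rw [← hm, MonoidHom.mem_ker]
    simp only [map_mul, map_inv, hX, hY, hxy]
    group
  have hXY : X * Y = m * (Y * X) := by rw [← hm]; group
  obtain ⟨k1, hk1'⟩ : ∃ k, (X ^ r)⁻¹ * (g' * X * g'⁻¹) = k := ⟨_, rfl⟩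
  obtain ⟨k2, hk2'⟩ : ∃ k, (Y ^ s)⁻¹ * (g' * Y * g'⁻¹) = k := ⟨_, rfl⟩
  have hk1 : k1 ∈ π.ker := by
    rw [← hk1', MonoidHom.mem_ker]
    simp only [map_mul, map_inv, map_pow, hX, hgx]
    group
  have hk2 : k2 ∈ π.ker := by
    rw [← hk2', MonoidHom.mem_ker]
    simp only [map_mul, map_inv, map_pow, hY, hgy]
    group
  have e1 : g' * X * g'⁻¹ = k1 * X ^ r := by
    rw [(cen k1 hk1 (X ^ r)).eq, ← hk1']; group
  have e2 : g' * Y * g'⁻¹ = k2 * Y ^ s := by
    rw [(cen k2 hk2 (Y ^ s)).eq, ← hk2']; group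
  have p1 : ∀ n : ℕ, X ^ n * Y = m ^ n * (Y * X ^ n) := by
    intro n
    induction n with
    | zero => simp
    | succ n ih =>
      calc X ^ (n + 1) * Y = X * (X ^ n * Y) := by rw [pow_succ', mul_assoc]
        _ = X * m ^ n * (Y * X ^ n) := by rw [ih, mul_assoc]
        _ = m ^ n * X * (Y * X ^ n) := by rw [((cen m hmk X).pow_left n).eq]
        _ = m ^ n * (X * Y) * X ^ n := by simp only [mul_assoc]
        _ = m ^ n * (m * (Y * X)) * X ^ n := by rw [hXY]
        _ = m ^ (n + 1) * (Y * X ^ (n + 1)) := by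
          rw [pow_succ, pow_succ' X]; simp only [mul_assoc]
  have p2 : ∀ n : ℕ, X ^ r * Y ^ n = m ^ (r * n) * (Y ^ n * X ^ r) := by
    intro n
    induction n with
    | zero => simp
    | succ n ih =>
      calc X ^ r * Y ^ (n + 1) = X ^ r * Y ^ n * Y := by rw [pow_succ, mul_assoc]
        _ = m ^ (r * n) * (Y ^ n * (X ^ r * Y)) := by rw [ih]; simp only [mul_assoc]
        _ = m ^ (r * n) * ((Y ^ n * m ^ r) * (Y * X ^ r)) := by rw [p1]; simp only [mul_assoc]
        _ = m ^ (r * n) * ((m ^ r * Y ^ n) * (Y * X ^ r)) := by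
          rw [((cen m hmk (Y ^ n)).pow_left r).eq]
        _ = m ^ (r * (n + 1)) * (Y ^ (n + 1) * X ^ r) := by
          rw [mul_add, mul_one, pow_add, pow_succ]; simp only [mul_assoc]
  have hconj : (g' * X * g'⁻¹) * (g' * Y * g'⁻¹) = m * ((g' * Y * g'⁻¹) * (g' * X * g'⁻¹)) := by
    calc (g' * X * g'⁻¹) * (g' * Y * g'⁻¹) = g' * (X * Y) * g'⁻¹ := by group
      _ = g' * m * (Y * X) * g'⁻¹ := by rw [hXY, mul_assoc g' m]
      _ = m * g' * (Y * X) * g'⁻¹ := by rw [(cen m hmk g').eq]
      _ = m * ((g' * Y * g'⁻¹) * (g' * X * g'⁻¹)) := by group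
  rw [e1, e2] at hconj
  have h2 : k1 * k2 * (m ^ (r * s) * (Y ^ s * X ^ r)) = k1 * k2 * (m * (Y ^ s * X ^ r)) := by
    calc k1 * k2 * (m ^ (r * s) * (Y ^ s * X ^ r)) = k1 * (k2 * X ^ r) * Y ^ s := by
          rw [← p2 s]; simp only [mul_assoc]
      _ = k1 * (X ^ r * k2) * Y ^ s := by rw [(cen k2 hk2 (X ^ r)).eq]
      _ = k1 * X ^ r * (k2 * Y ^ s) := by simp only [mul_assoc]
      _ = m * (k2 * Y ^ s * (k1 * X ^ r)) := hconj
      _ = m * (k2 * (Y ^ s * k1) * X ^ r) := by simp only [mul_assoc]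
      _ = m * (k2 * k1) * (Y ^ s * X ^ r) := by
          rw [← (cen k1 hk1 (Y ^ s)).eq]; simp only [mul_assoc]
      _ = k1 * k2 * (m * (Y ^ s * X ^ r)) := by
          rw [(cen m hmk (k2 * k1)).eq, (cen k2 hk2 k1).eq]; simp only [mul_assoc]
  have h3 : m ^ (r * s) = m := mul_right_cancel (mul_left_cancel h2)
  have h4 : m ^ (r * s - 1) = 1 := by
    have : m ^ (r * s - 1) * m = 1 * m := by
      rw [← pow_succ, Nat.sub_add_cancel hrs1, h3, one_mul]
    exact mul_right_cancel this
  have h5 := (pow_gcd_eq_one (a := m)).mpr ⟨hk m hmk, h4⟩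
  rw [(Nat.Prime.coprime_iff_not_dvd hp).2 hrs, pow_one] at h5
  rw [hXY, h5, one_mul]

theorem ker_pow {E G : Type*} [Group E] [Group G] (π : E →* G) {p : ℕ}
    (hcard : Nat.card π.ker = p) : ∀ v ∈ π.ker, v ^ p = 1 := by
  intro v hv
  have h := pow_card_eq_one' (x := (⟨v, hv⟩ : π.ker))
  rw [hcard] at h
  simpa [Subtype.ext_iff] using h

/-- Check an action by powers. -/
def actOK (g q : List ℕ) (r : ℕ) : Bool := chk [g, q] (List.replicate r q ++ [g])

theorem of_actOK {g q : List ℕ} {r : ℕ} (h : actOK g q r = true) : el g * el q = el q ^ r * el g := by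
  simpa [List.map_replicate, List.prod_replicate] using eq_of_chk h

/-- Check the order. -/
def ordOK (q : List ℕ) (p : ℕ) : Bool := chk (List.replicate p q) []

theorem of_ordOK {q : List ℕ} {p : ℕ} (h : ordOK q p = true) : el q ^ p = 1 := by
  simpa [List.map_replicate, List.prod_replicate] using eq_of_chk h

theorem of_commOK {x y : List ℕ} (h : chk [x, y] [y, x] = true) : el x * el y = el y * el x := by
  simpa using eq_of_chk h

/-- Check the data of an extraspecial Sylow subgroup. -/
def cubeOK (l : List (List ℕ)) (p ra rb sa sb ta tb tz : ℕ) : Bool :=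
  ordOK (wd l 0) p && ordOK (wd l 1) p && ordOK (wd l 2) p &&
    actOK (wd l 3) (wd l 0) ra && actOK (wd l 5) (wd l 1) rb &&
    actOK (wd l 4) (wd l 0) sa && actOK (wd l 4) (wd l 2) ta &&
    actOK (wd l 6) (wd l 1) sb && actOK (wd l 6) (wd l 2) tb &&
    actOK (wd l 7) (wd l 2) tz &&
    chk [wd l 2, wd l 0] [wd l 0, wd l 2] && chk [wd l 2, wd l 1] [wd l 1, wd l 2] &&
    chk [wd l 1, wd l 0] [wd l 2, wd l 0, wd l 1]

theorem noExt_cube {p : ℕ} (hp : p.Prime) (l : List (List ℕ)) (ra rb sa sb ta tb tz : ℕ)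
    (hOK : cubeOK l p ra rb sa sb ta tb tz = true)
    (h1 : ¬ p ∣ ra - 1 ∧ 1 ≤ ra) (h2 : ¬ p ∣ rb - 1 ∧ 1 ≤ rb) (h3 : ¬ p ∣ sa * ta - 1 ∧ 1 ≤ sa * ta)
    (h4 : ¬ p ∣ sb * tb - 1 ∧ 1 ≤ sb * tb) (h5 : ¬ p ∣ tz - 1 ∧ 1 ≤ tz)
    (hnd : nodupB ((cfg (p - 1) [wd l 1, wd l 0, wd l 2]).map enc) = true)
    (hidx : Nat.Coprime p (4030387200 / p ^ 3)) : NoExt Grp p := by
  intro E _ _ π hπ hc hcard hd
  have hk := ker_pow π hcard
  simp only [cubeOK, Bool.and_eq_true] at hOK
  obtain ⟨⟨⟨⟨⟨⟨⟨⟨⟨⟨⟨⟨oa, ob⟩, oz⟩, ga⟩, gb⟩, ga1⟩, ga2⟩, gb1⟩, gb2⟩, gz⟩, za⟩, zb⟩, zdef⟩ := hOK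
  obtain ⟨A, hA⟩ := hπ (el (wd l 0))
  obtain ⟨B, hB⟩ := hπ (el (wd l 1))
  obtain ⟨Z, hZ'⟩ : ∃ Z, Z = B * A * B⁻¹ * A⁻¹ := ⟨_, rfl⟩
  have hZ : π Z = el (wd l 2) := by
    have h := eq_of_chk zdef
    simp only [List.map_cons, List.map_nil, List.prod_cons, List.prod_nil, mul_one] at h
    rw [hZ', map_mul, map_mul, map_mul, map_inv, map_inv, hA, hB, h]
    group
  have A1 := pow_lift_eq_one π hπ hc hp hk (of_ordOK oa) h1.1 h1.2 (of_actOK ga) hA
  have B1 := pow_lift_eq_one π hπ hc hp hk (of_ordOK ob) h2.1 h2.2 (of_actOK gb) hB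
  have Z1 := pow_lift_eq_one π hπ hc hp hk (of_ordOK oz) h5.1 h5.2 (of_actOK gz) hZ
  have cA : A * Z = Z * A :=
    comm_pow π hπ hc hp hk h3.1 h3.2 (of_commOK za).symm (of_actOK ga1) (of_actOK ga2) hA hZ
  have cB : B * Z = Z * B :=
    comm_pow π hπ hc hp hk h4.1 h4.2 (of_commOK zb).symm (of_actOK gb1) (of_actOK gb2) hB hZ
  let S1 : Set E := insert Z ∅
  let S2 : Set E := insert A S1
  let S3 : Set E := insert B S2
  have hb1 : Nat.card (Subgroup.closure S1) ≤ Nat.card (Subgroup.closure (∅ : Set E)) * p :=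
    card_closure_insert_pow_le ∅ Z hp.pos Z1 fun y hy => hy.elim
  have hb2 : Nat.card (Subgroup.closure S2) ≤ Nat.card (Subgroup.closure S1) * p :=
    card_closure_insert_pow_le S1 A hp.pos A1 fun y hy => by
      rcases hy with rfl | hy
      · rw [cA, mul_inv_cancel_right]; exact Subgroup.subset_closure (Or.inl rfl)
      · exact hy.elim
  have hb3 : Nat.card (Subgroup.closure S3) ≤ Nat.card (Subgroup.closure S2) * p :=
    card_closure_insert_pow_le S2 B hp.pos B1 fun y hy => by
      rcases hy with rfl | rfl | hy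
      · rw [show B * y * B⁻¹ = Z * y by rw [hZ']; group]
        exact mul_mem (Subgroup.subset_closure (Or.inr (Or.inl rfl)))
          (Subgroup.subset_closure (Or.inl rfl))
      · rw [cB, mul_inv_cancel_right]; exact Subgroup.subset_closure (Or.inr (Or.inl rfl))
      · exact hy.elim
  have b0 : Nat.card (Subgroup.closure (∅ : Set E)) = 1 := by
    rw [Subgroup.closure_empty, Subgroup.card_bot]
  rw [b0, one_mul] at hb1
  let T := Subgroup.closure S3
  have hTle : Nat.card T ≤ p ^ 3 := by
    refine hb3.trans ((Nat.mul_le_mul_right p (hb2.trans (Nat.mul_le_mul_right p hb1))).trans ?_)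
    exact le_of_eq (by ring)
  have hTge : p ^ 3 ≤ Nat.card (T.map π) := by
    have h := card_ge hnd (T.map π) fun x hx => ?_
    · rwa [Nat.sub_add_cancel hp.one_le] at h
    simp only [List.mem_cons, List.not_mem_nil, or_false] at hx
    rcases hx with rfl | rfl | rfl
    · exact ⟨B, Subgroup.subset_closure (Or.inl rfl), hB⟩
    · exact ⟨A, Subgroup.subset_closure (Or.inr (Or.inl rfl)), hA⟩
    · exact ⟨Z, Subgroup.subset_closure (Or.inr (Or.inr (Or.inl rfl))), hZ⟩
  refine false_of_split π hπ hc hp hcard hd T (hTle.trans hTge) ?_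
  have h1' := Subgroup.card_mul_index (T.map π)
  have hle : Nat.card (T.map π) ≤ Nat.card T :=
    Nat.card_le_card_of_surjective _ (π.subgroupMap_surjective T)
  rw [le_antisymm (hle.trans hTle) hTge, HeM.card_grp] at h1'
  rw [← h1', Nat.mul_div_cancel_left _ (pow_pos hp.pos 3)] at hidx
  exact hidx

theorem noExt_three : NoExt Grp 3 :=
  noExt_cube (by norm_num) p3 2 2 2 2 1 1 2 (by decide +kernel) (by norm_num) (by norm_num)
    (by norm_num) (by norm_num) (by norm_num) (by decide +kernel) (by decide +kernel)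

theorem noExt_seven : NoExt Grp 7 :=
  noExt_cube (by norm_num) p7 4 4 2 4 3 1 2 (by decide +kernel) (by norm_num) (by norm_num)
    (by norm_num) (by norm_num) (by norm_num) (by decide +kernel) (by decide +kernel)

theorem noExt_five : NoExt Grp 5 := by
  intro E _ _ π hπ hc hcard hd
  have hp : Nat.Prime 5 := by norm_num
  have hk := ker_pow π hcard
  obtain ⟨A, hA⟩ := hπ (el (wd p5 0))
  obtain ⟨B, hB⟩ := hπ (el (wd p5 1))
  have ga := of_actOK (g := wd p5 2) (q := wd p5 0) (r := 2) (by decide +kernel)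
  have gb := of_actOK (g := wd p5 2) (q := wd p5 1) (r := 2) (by decide +kernel)
  have A1 := pow_lift_eq_one π hπ hc hp hk (of_ordOK (by decide +kernel)) (by norm_num) (by norm_num) ga hA
  have B1 := pow_lift_eq_one π hπ hc hp hk (of_ordOK (by decide +kernel)) (by norm_num) (by norm_num) gb hB
  have cAB : B * A = A * B :=
    comm_pow π hπ hc hp hk (r := 2) (s := 2) (by norm_num) (by norm_num)
      (of_commOK (by decide +kernel)) gb ga hB hA
  let S1 : Set E := insert A ∅
  let S2 : Set E := insert B S1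
  have hb1 : Nat.card (Subgroup.closure S1) ≤ Nat.card (Subgroup.closure (∅ : Set E)) * 5 :=
    card_closure_insert_pow_le ∅ A hp.pos A1 fun y hy => hy.elim
  have hb2 : Nat.card (Subgroup.closure S2) ≤ Nat.card (Subgroup.closure S1) * 5 :=
    card_closure_insert_pow_le S1 B hp.pos B1 fun y hy => by
      rcases hy with rfl | hy
      · rw [cAB, mul_inv_cancel_right]; exact Subgroup.subset_closure (Or.inl rfl)
      · exact hy.elim
  have b0 : Nat.card (Subgroup.closure (∅ : Set E)) = 1 := by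
    rw [Subgroup.closure_empty, Subgroup.card_bot]
  let T := Subgroup.closure S2
  have hTle : Nat.card T ≤ 25 := by
    show Nat.card (Subgroup.closure S2) ≤ 25
    omega
  have hTge : 25 ≤ Nat.card (T.map π) := by
    refine card_ge (n := 4) (xs := [wd p5 1, wd p5 0]) (by decide +kernel) (T.map π) fun x hx => ?_
    simp only [List.mem_cons, List.not_mem_nil, or_false] at hx
    rcases hx with rfl | rfl
    · exact ⟨B, Subgroup.subset_closure (Or.inl rfl), hB⟩
    · exact ⟨A, Subgroup.subset_closure (Or.inr (Or.inl rfl)), hA⟩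
  refine false_of_split π hπ hc hp hcard hd T (hTle.trans hTge) ?_
  have h1 := Subgroup.card_mul_index (T.map π)
  have hle : Nat.card (T.map π) ≤ Nat.card T :=
    Nat.card_le_card_of_surjective _ (π.subgroupMap_surjective T)
  rw [show Nat.card (T.map π) = 25 by omega, HeM.card_grp] at h1
  rw [show (T.map π).index = 161215488 by omega]
  decide +kernel

theorem noExt_seventeen : NoExt Grp 17 := by
  intro E _ _ π hπ hc hcard hd
  have hp : Nat.Prime 17 := by norm_num
  have hk := ker_pow π hcard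
  obtain ⟨A, hA⟩ := hπ (el (wd p17 0))
  have A1 := pow_lift_eq_one π hπ hc hp hk (of_ordOK (by decide +kernel)) (by norm_num) (by norm_num)
    (of_actOK (g := wd p17 1) (q := wd p17 0) (r := 8) (by decide +kernel)) hA
  have hb1 : Nat.card (Subgroup.closure (insert A (∅ : Set E))) ≤
      Nat.card (Subgroup.closure (∅ : Set E)) * 17 :=
    card_closure_insert_pow_le ∅ A hp.pos A1 fun y hy => hy.elim
  rw [Subgroup.closure_empty, Subgroup.card_bot, one_mul] at hb1
  let T := Subgroup.closure (insert A (∅ : Set E))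
  have hTge : 17 ≤ Nat.card (T.map π) := by
    refine card_ge (n := 16) (xs := [wd p17 0]) (by decide +kernel) (T.map π) fun x hx => ?_
    simp only [List.mem_cons, List.not_mem_nil, or_false] at hx
    rw [hx]
    exact ⟨A, Subgroup.subset_closure (Or.inl rfl), hA⟩
  refine false_of_split π hπ hc hp hcard hd T (hb1.trans hTge) ?_
  have h1 := Subgroup.card_mul_index (T.map π)
  have hle : Nat.card (T.map π) ≤ Nat.card T :=
    Nat.card_le_card_of_surjective _ (π.subgroupMap_surjective T)
  rw [le_antisymm (hle.trans hb1) hTge, HeM.card_grp] at h1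
  rw [show (T.map π).index = 237081600 by omega]
  decide +kernel

theorem trivial_multiplier : Cfsg.HasCyclicSchurMultiplier Grp 1 := by
  refine trivial_of_noExt fun p hp => ?_
  by_cases h : p ∣ 4030387200
  · have hcases : p = 2 ∨ p = 3 ∨ p = 5 ∨ p = 7 ∨ p = 17 := by
      have h' : p ∣ 2 ^ 10 * 3 ^ 3 * 5 ^ 2 * 7 ^ 3 * 17 := h.trans (by norm_num)
      rcases (Nat.Prime.dvd_mul hp).1 h' with h' | h'
      · rcases (Nat.Prime.dvd_mul hp).1 h' with h' | h'
        · rcases (Nat.Prime.dvd_mul hp).1 h' with h' | h'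
          · rcases (Nat.Prime.dvd_mul hp).1 h' with h' | h'
            · left; exact (Nat.prime_dvd_prime_iff_eq hp Nat.prime_two).1 (hp.dvd_of_dvd_pow h')
            · right; left; exact (Nat.prime_dvd_prime_iff_eq hp Nat.prime_three).1 (hp.dvd_of_dvd_pow h')
          · right; right; left
            exact (Nat.prime_dvd_prime_iff_eq hp (by norm_num)).1 (hp.dvd_of_dvd_pow h')
        · right; right; right; left
          exact (Nat.prime_dvd_prime_iff_eq hp (by norm_num)).1 (hp.dvd_of_dvd_pow h')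
      · right; right; right; right
        exact (Nat.prime_dvd_prime_iff_eq hp (by norm_num)).1 h'
    rcases hcases with rfl | rfl | rfl | rfl | rfl
    · exact noExt_two
    · exact noExt_three
    · exact noExt_five
    · exact noExt_seven
    · exact noExt_seventeen
  · intro E _ _ π hπ hc hcard hd
    exact false_of_not_dvd π hπ hc hp hcard hd (by rw [HeM.card_grp]; exact h)

end Cfsg.Agent.ExtCert.He

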