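import Cfsg.Agent.Lib.ExtCert.Central
import Cfsg.Agent.Lib.SchurSplit.Core
import Cfsg.Agent.Lib.Golay.SylowM12

/-!
The linear certificate for the 2-part of the multiplier of M₁₂: in every central extension a
single value `λ` with `2mλ = 0` (m odd) is left, and if it vanishes there is no stem extension
with kernel of order two.
-/

set_option autoImplicit false

namespace Cfsg.Agent.ExtCert.M12

noncomputable section

open Cfsg
open Cfsg.Agent.Golay24
open Cfsg.Agent.ExtCert.Central

universe u

/-- The certificate. -/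
structure Data where
  aP : List ℕ
  wds : List (List ℕ)
  tab : List (List (List ℤ × ℕ))
  conjs : List ℕ
  slots : List (ℕ × ℕ × ℕ)
  eqs : List (ℕ × ℕ × ℕ)
  ceqs : List (ℕ × List ℕ × List ℕ)
  lam : List ℤ
  mult : ℕ
  two : List (ℕ × ℤ)
  D : List (List ℤ)
  combs : List (List (ℕ × ℤ))

/-- The index of a relation. -/
def pairIx (i t : ℕ) : ℕ := i * (11 - i) / 2 + t

/-- A word applied to a position. -/
def runL (a : ℕ → ℕ) (ks : List ℕ) (x : ℕ) : ℕ := ks.foldr (fun k y => app (a k) y) x

namespace Data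

variable (C : Data)

/-- The generators. -/
def gen (i : ℕ) : ℕ := C.aP.getD i 0

/-- The right sides. -/
def wd (i t : ℕ) : ℕ := (C.wds.getD i []).getD t 0

/-- The presentation. -/
def pres : CPres where
  n := 6
  wd := C.wd
  uF := fun i t => fvar (pairIx i t)

/-- The presentation with trivial values. -/
def pres0 : CPres where
  n := 6
  wd := C.wd
  uF := fun _ _ => []

/-- The table. -/
def T (i e : ℕ) : Option (List ℤ × ℕ) :=
  if Nat.blt i 6 && Nat.blt e 64 then some ((C.tab.getD i []).getD e ([], 0)) else none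

/-- The table of normal forms. -/
def T0 (i e : ℕ) : Option (List ℤ × ℕ) :=
  if Nat.blt i 6 && Nat.blt e 64 then some ([], ((C.tab.getD i []).getD e ([], 0)).2) else none

/-- A slot. -/
def slot (s : ℕ) : ℕ × ℕ × ℕ := C.slots.getD s (0, 0, 0)

/-- The derived rows. -/
def rows : List (List ℤ) :=
  (C.eqs.map fun x => (C.pres.eqS C.T x.1 x.2.1 x.2.2).getD []) ++
    (C.ceqs.map fun x => (C.pres.eqC C.T (fun s => (C.slot s).2.1) (fun s => (C.slot s).2.2)
      (fun s => fvar (21 + s)) x.2.1 x.2.2).getD [])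

/-- The permutations. -/
def okPerm : Bool :=
  (List.range 6).all (fun i => inM24 (C.gen i) && img (C.gen i) sqDod == sqDod) &&
  (List.range 6).all (fun i => (List.range 6).all fun t => !Nat.ble i t ||
    (List.range 24).all fun x => app (C.gen t) (app (C.gen i) x) ==
      runL C.gen (preL i t ++ letters 6 (C.wd i t)) x) &&
  C.conjs.all (fun g => inM24 g && img g sqDod == sqDod) &&
  C.slots.all (fun s => Nat.blt s.1 C.conjs.length && (List.range 24).all fun x =>
    app (C.conjs.getD s.1 0) (runL C.gen (letters 6 s.2.1) x) ==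
      runL C.gen (letters 6 s.2.2) (app (C.conjs.getD s.1 0) x))

/-- All coefficients vanish. -/
def fZero (a : List ℤ) : Bool := a.all (· == 0)

/-- The tables and the normal forms. -/
def okTab : Bool :=
  C.pres.chk C.T && C.pres0.chk C.T0 && (List.range 6).all (fun i => (List.range 64).all fun e =>
    Nat.blt ((C.tab.getD i []).getD e ([], 0)).2 64) &&
  decide (((List.range 64).map fun e =>
    (List.range 24).map fun x => runL C.gen (letters 6 e) x).Nodup)

/-- The linear algebra. -/
def okLin : Bool :=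
  C.eqs.all (fun x => Nat.ble x.2.1 x.2.2 && Nat.blt x.2.2 6) &&
  C.ceqs.all (fun x => (x.2.1 ++ x.2.2).all fun s =>
    Nat.blt s C.slots.length && (C.slot s).1 == x.1) &&
  C.mult % 2 == 1 &&
  fZero (fsub (fsmul (2 * (C.mult : ℤ)) C.lam) (fcombo C.rows C.two)) &&
  (List.range 6).all (fun i => (List.range 6).all fun t => !Nat.ble i t ||
    fEven (fsub (C.pres.resid (fun k => C.D.getD k []) i t)
      (fcombo (C.rows ++ [C.lam]) (C.combs.getD (pairIx i t) []))))

end Data

theorem evF_fZero {M : Type*} [AddCommGroup M] : ∀ (ν : ℕ → M) (a : List ℤ),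
    Data.fZero a = true → evF ν a = 0
  | _, [], _ => rfl
  | ν, x :: l, h => by
    simp only [Data.fZero, List.all_cons, Bool.and_eq_true, beq_iff_eq] at h
    rw [evF, h.1, zero_smul, zero_add, evF_fZero _ l h.2]

variable {C : Data} {E : Type u} [Group E] (π : E →* ↥Spor.M12)

/-- Lifts and values of the unknowns. -/
structure Vals (C : Data) (π : E →* ↥Spor.M12) (A G : ℕ → E) (ν : ℕ → Cen E) : Prop where
  lift : ∀ i < 6, (π (A i)).1 = toPerm (C.gen i)
  rel : ∀ i t, i ≤ t → t < 6 →
    A t * A i = cι (ν (pairIx i t)) * ((preL i t).map A).prod * cProd 6 A (C.wd i t)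
  slot : ∀ s < C.slots.length, G (C.slot s).1 * cProd 6 A (C.slot s).2.1 =
    cι (ν (21 + s)) * cProd 6 A (C.slot s).2.2 * G (C.slot s).1
  ker : ∀ r, π (cι (ν r)) = 1

theorem gen_facts (h : C.okPerm = true) {i : ℕ} (hi : i < 6) :
    validP (C.gen i) = true ∧ toPerm (C.gen i) ∈ Spor.M12 := by
  simp only [Data.okPerm, Bool.and_eq_true, List.all_eq_true, List.mem_range] at h
  have := h.1.1.1 i hi
  exact ⟨valid_of_inM24 this.1, m12SylHyp.mem _ (by simp only [m12SylHyp, Bool.and_eq_true]; exact this)⟩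

theorem π_run (h : C.okPerm = true) {A : ℕ → E}
    (hA : ∀ i < 6, (π (A i)).1 = toPerm (C.gen i)) : ∀ (ks : List ℕ), (∀ k ∈ ks, k < 6) →
      ∀ x : GolayPt, (idx ((π (ks.map A).prod).1 x) : ℕ) = runL C.gen ks (idx x)
  | [], _, x => by simp [runL]
  | k :: ks, hk, x => by
    have hk6 := hk k (List.mem_cons_self ..)
    rw [List.map_cons, List.prod_cons, map_mul, Subgroup.coe_mul, Equiv.Perm.mul_apply, hA k hk6,
      idx_toPerm (gen_facts h hk6).1,
      π_run h hA ks fun y hy => hk y (List.mem_cons_of_mem _ hy)]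
    rfl

theorem exists_cen (hc : π.ker ≤ Subgroup.center E) {x y : E} (h : π x = π y) :
    ∃ v : Cen E, π (cι v) = 1 ∧ x = cι v * y :=
  have hk : x * y⁻¹ ∈ π.ker := MonoidHom.mem_ker.2 (by rw [map_mul, map_inv, h, mul_inv_cancel])
  ⟨Additive.ofMul ⟨x * y⁻¹, hc hk⟩, hk, (inv_mul_cancel_right x y).symm⟩

theorem exists_vals (hπ : Function.Surjective π) (hc : π.ker ≤ Subgroup.center E)
    (h : C.okPerm = true) : ∃ A G ν, Vals C π A G ν := by
  have h' := h
  simp only [Data.okPerm, Bool.and_eq_true, List.all_eq_true, List.mem_range, beq_iff_eq,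
    Bool.or_eq_true, Bool.not_eq_true', Nat.blt_eq] at h'
  obtain ⟨⟨⟨-, hrel⟩, hconj⟩, hslot⟩ := h'
  have hA : ∀ i, ∃ x, i < 6 → (π x).1 = toPerm (C.gen i) := fun i => by
    by_cases hi : i < 6
    · obtain ⟨x, hx⟩ := hπ ⟨_, (gen_facts h hi).2⟩
      exact ⟨x, fun _ => by rw [hx]⟩
    · exact ⟨1, fun h => absurd h hi⟩
  choose A hA using hA
  have hG : ∀ k, ∃ x, k < C.conjs.length → (π x).1 = toPerm (C.conjs.getD k 0) ∧
      validP (C.conjs.getD k 0) = true := fun k => by
    by_cases hk : k < C.conjs.length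
    · have hm := hconj _ (List.getD_eq_getElem C.conjs 0 hk ▸ List.getElem_mem hk)
      obtain ⟨x, hx⟩ := hπ ⟨_, m12SylHyp.mem (C.conjs.getD k 0)
        (by simp only [m12SylHyp, Bool.and_eq_true, beq_iff_eq]; exact hm)⟩
      exact ⟨x, fun _ => ⟨by rw [hx], valid_of_inM24 hm.1⟩⟩
    · exact ⟨1, fun h => absurd h hk⟩
  choose G hG using hG
  have hlt : ∀ i < 6, ∀ t < 6, i ≤ t → pairIx i t < 21 := by decide +kernel
  have hinj' : ∀ a ∈ List.range 36, ∀ b ∈ List.range 36, a / 6 ≤ a % 6 → b / 6 ≤ b % 6 →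
      pairIx (b / 6) (b % 6) = pairIx (a / 6) (a % 6) → b = a := by decide +kernel
  have hν : ∀ r, ∃ v : Cen E, π (cι v) = 1 ∧ (∀ i t, i ≤ t → t < 6 → pairIx i t = r →
      A t * A i = cι v * ((preL i t).map A).prod * cProd 6 A (C.wd i t)) ∧
      (∀ s < C.slots.length, 21 + s = r → G (C.slot s).1 * cProd 6 A (C.slot s).2.1 =
        cι v * cProd 6 A (C.slot s).2.2 * G (C.slot s).1) := by
    intro r
    have hpair : ∀ i < 6, ∀ t < 6, i ≤ t → pairIx i t < 21 ∧
        ∀ j < 6, ∀ u < 6, j ≤ u → pairIx j u = pairIx i t → j = i ∧ u = t := by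
      intro i hi t ht hit
      refine ⟨hlt i hi t ht hit, fun j hj u hu hju he => ?_⟩
      have := hinj' (6 * i + t) (List.mem_range.2 (by omega)) (6 * j + u) (List.mem_range.2 (by omega))
        (by omega) (by omega) (by
          rw [show (6 * j + u) / 6 = j by omega, show (6 * j + u) % 6 = u by omega,
            show (6 * i + t) / 6 = i by omega, show (6 * i + t) % 6 = t by omega]
          exact he)
      omega
    by_cases hr : ∃ i t, i ≤ t ∧ t < 6 ∧ pairIx i t = r
    · obtain ⟨i, t, hit, ht, rfl⟩ := hr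
      have hi : i < 6 := lt_of_le_of_lt hit ht
      have hperm := (hrel i hi t ht).resolve_left
        (fun hh => by rw [Nat.ble_eq_true_of_le hit] at hh; simp at hh)
      obtain ⟨v, hv, he⟩ := exists_cen π hc (x := A t * A i)
          (y := ((preL i t).map A).prod * cProd 6 A (C.wd i t)) (Subtype.ext (Equiv.ext fun x =>
        idx_inj.1 (Fin.ext (by
          rw [map_mul, Subgroup.coe_mul, Equiv.Perm.mul_apply, hA t ht, hA i hi,
            idx_toPerm (gen_facts h ht).1, idx_toPerm (gen_facts h hi).1,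
            hperm _ (idx x).isLt, cProd, ← List.prod_append, ← List.map_append,
            π_run π h hA]
          intro k hk
          rcases List.mem_append.1 hk with hk | hk
          · unfold preL at hk
            split at hk <;> simp at hk
            exact hk ▸ hi
          · exact lt_of_mem_letters hk))))
      refine ⟨v, hv, fun j u hju hu hp => ?_, fun s _ hs => ?_⟩
      · obtain ⟨rfl, rfl⟩ := (hpair i hi t ht hit).2 j (by omega) u hu hju hp
        rw [mul_assoc]; exact he
      · have := (hpair i hi t ht hit).1; omega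
    · by_cases hs : ∃ s < C.slots.length, 21 + s = r
      · obtain ⟨s, hs, rfl⟩ := hs
        obtain ⟨hc', hsl⟩ := hslot _ (List.getD_eq_getElem C.slots (0, 0, 0) hs ▸ List.getElem_mem hs)
        change (C.slot s).1 < C.conjs.length at hc'
        obtain ⟨hG1, hG2⟩ := hG _ hc'
        obtain ⟨v, hv, he⟩ := exists_cen π hc (x := G (C.slot s).1 * cProd 6 A (C.slot s).2.1)
            (y := cProd 6 A (C.slot s).2.2 * G (C.slot s).1) (Subtype.ext (Equiv.ext fun x =>
          idx_inj.1 (Fin.ext (by
            rw [map_mul, map_mul, Subgroup.coe_mul, Subgroup.coe_mul, Equiv.Perm.mul_apply,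
              Equiv.Perm.mul_apply, hG1, idx_toPerm hG2, cProd, cProd,
              π_run π h hA _ fun _ => lt_of_mem_letters, π_run π h hA _ fun _ => lt_of_mem_letters,
              idx_toPerm hG2]
            exact hsl _ (idx x).isLt))))
        refine ⟨v, hv, fun j u hju hu hp => absurd ⟨j, u, hju, hu, hp⟩ hr, fun s' _ hs' => ?_⟩
        obtain rfl : s' = s := by omega
        rw [mul_assoc]; exact he
      · exact ⟨0, by rw [cι_zero, map_one], fun j u hju hu hp => absurd ⟨j, u, hju, hu, hp⟩ hr,
          fun s h1 h2 => absurd ⟨s, h1, h2⟩ hs⟩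
  choose ν hν1 hν2 hν3 using hν
  exact ⟨A, G, ν, hA, fun i t hit ht => hν2 _ i t hit ht rfl, fun s hs => hν3 _ s hs rfl, hν1⟩

section

variable {π} {A G : ℕ → E} {ν : ℕ → Cen E}

theorem rows_zero (hV : Vals C π A G ν) (h2 : C.okTab = true) (h3 : C.okLin = true) :
    ∀ r, evF ν (C.rows.getD r []) = 0 := by
  simp only [Data.okTab, Bool.and_eq_true] at h2
  simp only [Data.okLin, Bool.and_eq_true, List.all_eq_true, Nat.ble_eq, Nat.blt_eq,
    beq_iff_eq] at h3
  obtain ⟨⟨⟨⟨heqs, hceqs⟩, -⟩, -⟩, -⟩ := h3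
  have hr : RelHyp ν A C.pres := fun i t hit ht => by
    show A t * A i = cι (evF ν (fvar (pairIx i t))) * _ * _
    rw [evF_var]
    exact hV.rel i t hit ht
  have hT := CPres.chk_sound hr (T := C.T) (fun i e r h => by
    unfold Data.T at h
    split at h
    · next hh => simpa [Data.pres] using hh
    · exact absurd h (by simp)) h2.1.1.1
  have hrow : ∀ F ∈ C.rows, evF ν F = 0 := by
    intro F hF
    simp only [Data.rows, List.mem_append, List.mem_map] at hF
    rcases hF with ⟨x, hx, rfl⟩ | ⟨x, hx, rfl⟩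
    · cases hF' : C.pres.eqS C.T x.1 x.2.1 x.2.2 with
      | none => rfl
      | some F => exact CPres.eqS_sound hr hT (heqs x hx).1 (heqs x hx).2 hF'
    · cases hF' : C.pres.eqC C.T (fun s => (C.slot s).2.1) (fun s => (C.slot s).2.2)
          (fun s => fvar (21 + s)) x.2.1 x.2.2 with
      | none => rfl
      | some F =>
        refine CPres.eqC_sound (G := G x.1) hT (fun s hs => ?_) hF'
        obtain ⟨s1, s2⟩ := hceqs x hx s hs
        have := hV.slot s s1
        rw [s2] at this
        rw [evF_var]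
        exact this
  intro r
  by_cases hr' : r < C.rows.length
  · exact hrow _ (List.getD_eq_getElem C.rows [] hr' ▸ List.getElem_mem hr')
  · rw [List.getD_eq_default _ _ (not_lt.1 hr')]; rfl

/-- The remaining value is killed by twice an odd number. -/
theorem lam_torsion (hV : Vals C π A G ν) (h2 : C.okTab = true) (h3 : C.okLin = true) :
    (2 * (C.mult : ℤ)) • evF ν C.lam = 0 ∧ C.mult % 2 = 1 := by
  have hz := rows_zero hV h2 h3
  simp only [Data.okLin, Bool.and_eq_true, beq_iff_eq] at h3
  refine ⟨?_, h3.1.1.2⟩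
  have := evF_fZero ν _ h3.1.2
  rwa [evF_sub, evF_smul, evF_combo ν hz, sub_zero] at this

/-- With the remaining value zero there is no stem extension with kernel of order two. -/
theorem false_of_lam [Finite E] (hπ : Function.Surjective π) (hc : π.ker ≤ Subgroup.center E)
    (hcard : Nat.card π.ker = 2) (hd : π.ker ≤ commutator E) (h1 : C.okPerm = true)
    (h2 : C.okTab = true) (h3 : C.okLin = true) (hV : Vals C π A G ν)
    (hlam : evF ν C.lam = 0) : False := by
  have hz := rows_zero hV h2 h3
  simp only [Data.okTab, Bool.and_eq_true, List.all_eq_true, List.mem_range, Nat.blt_eq,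
    decide_eq_true_eq] at h2
  obtain ⟨⟨⟨-, hT0⟩, hnf⟩, hnodup⟩ := h2
  simp only [Data.okLin, Bool.and_eq_true, List.all_eq_true, List.mem_range, Bool.or_eq_true,
    Bool.not_eq_true'] at h3
  have hres := h3.2
  have h2ν : ∀ r, ν r + ν r = 0 := by
    intro r
    have hk : ((ν r).toMul : E) ∈ π.ker := hV.ker r
    have := pow_card_eq_one' (x := (⟨_, hk⟩ : π.ker))
    rw [hcard] at this
    exact Additive.toMul.injective (Subtype.ext ((pow_two _).symm.trans (congrArg Subtype.val this)))
  have hrows' : ∀ r, evF ν ((C.rows ++ [C.lam]).getD r []) = 0 := by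
    intro r
    rcases Nat.lt_trichotomy r C.rows.length with hr | hr | hr
    · rw [List.getD_append _ _ _ _ hr]; exact hz r
    · rw [hr, List.getD_append_right _ _ _ _ le_rfl, Nat.sub_self]; exact hlam
    · rw [List.getD_eq_default _ _ (by simp; omega)]; rfl
  have hr : RelHyp ν A C.pres := fun i t hit ht => by
    show A t * A i = cι (evF ν (fvar (pairIx i t))) * _ * _
    rw [evF_var]
    exact hV.rel i t hit ht
  let B : ℕ → E := fun k => cι (evF ν (C.D.getD k [])) * A k
  have hπν : ∀ l, π (cι (evF ν l)) = 1 := by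
    intro l
    have : ∀ (ν : ℕ → Cen E), (∀ r, π (cι (ν r)) = 1) → π (cι (evF ν l)) = 1 := by
      induction l with
      | nil => intro ν _; rw [evF, cι_zero, map_one]
      | cons x l ih =>
        intro ν hν
        rw [evF, cι_add, map_mul, ih _ (fun r => hν (r + 1)), mul_one]
        show π ((((ν 0).toMul) ^ x : ↥(Subgroup.center E)) : E) = 1
        rw [Subgroup.coe_zpow, map_zpow, show π ((ν 0).toMul : E) = 1 from hν 0, one_zpow]
    exact this ν hV.ker
  have hB : ∀ i < 6, (π (B i)).1 = toPerm (C.gen i) := fun i hi => by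
    show (π (_ * A i)).1 = _
    rw [map_mul, hπν, one_mul, hV.lift i hi]
  have hrB : RelHyp (fun _ => 0) B C.pres0 := by
    intro i t hit ht
    show _ = cι (evF _ []) * _ * _
    rw [evF, cι_zero, one_mul]
    refine CPres.changed_rel hr (fun k => C.D.getD k []) hit ht ?_
    have he := evF_even ν h2ν _ ((hres i (lt_of_le_of_lt hit ht) t ht).resolve_left
      (fun hh => by rw [Nat.ble_eq_true_of_le hit] at hh; simp at hh))
    rwa [evF_sub, evF_combo ν hrows', sub_zero] at he
  have hGood := CPres.chk_sound hrB (T := C.T0) (fun i e r h => by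
    unfold Data.T0 at h
    split at h
    · next hh => simpa [Data.pres0] using hh
    · exact absurd h (by simp)) hT0
  have hclosed : ∀ i < 6, ∀ e < 64, ∃ e' < 64, cProd 6 B e * B i = cProd 6 B e' := by
    intro i hi e he
    refine ⟨_, hnf i hi e he, ?_⟩
    have hsome : C.T0 i e = some ([], ((C.tab.getD i []).getD e ([], 0)).2) := if_pos (by simp [hi, he])
    have h' := hGood i e _ hsome
    change cProd 6 B e * B i = cι (evF _ []) * cProd 6 B _ at h'
    rwa [evF, cι_zero, one_mul] at h'
  let T : Subgroup E := Subgroup.closure {x | ∃ i < 6, B i = x}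
  have hT : ∀ x ∈ T, ∃ e < 64, cProd 6 B e = x := by
    intro x hx'
    rw [← Subgroup.mem_toSubmonoid, Subgroup.closure_toSubmonoid_of_finite] at hx'
    induction hx' using Submonoid.closure_induction_right with
    | one => exact ⟨0, by norm_num, cProd_zero ..⟩
    | mul_right x hx'' y hy ih =>
      obtain ⟨e, he, rfl⟩ := ih
      obtain ⟨i, hi, rfl⟩ := hy
      obtain ⟨e', he', h'⟩ := hclosed i hi e he
      exact ⟨e', he', h'.symm⟩
  have hmem : ∀ e, cProd 6 B e ∈ T := fun e => list_prod_mem fun y hy => by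
    obtain ⟨k, hk, rfl⟩ := List.mem_map.1 hy
    exact Subgroup.subset_closure ⟨k, lt_of_mem_letters hk, rfl⟩
  have hinj : ∀ e < 64, ∀ f < 64, π (cProd 6 B e) = π (cProd 6 B f) → e = f := by
    intro e he f hf hef
    refine List.inj_on_of_nodup_map hnodup (List.mem_range.2 he) (List.mem_range.2 hf) ?_
    refine List.map_congr_left fun x hx' => ?_
    have k1 := π_run π h1 hB (letters 6 e) (fun _ => lt_of_mem_letters) (pt ⟨x, List.mem_range.1 hx'⟩)
    have k2 := π_run π h1 hB (letters 6 f) (fun _ => lt_of_mem_letters) (pt ⟨x, List.mem_range.1 hx'⟩)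
    rw [idx_pt] at k1 k2
    rw [← k1, ← k2]
    exact congrArg (fun σ : ↥Spor.M12 => (idx (σ.1 (pt ⟨x, List.mem_range.1 hx'⟩)) : ℕ)) hef
  have hcT : Nat.card T ≤ 64 := by
    classical
    have hsub : (T : Set E) ⊆ ↑((Finset.range 64).image (cProd 6 B)) := fun x hx => by
      obtain ⟨e, he, rfl⟩ := hT x hx
      exact Finset.mem_coe.2 (Finset.mem_image_of_mem _ (Finset.mem_range.2 he))
    calc Nat.card T = (T : Set E).ncard := Nat.card_coe_set_eq _
      _ ≤ _ := Set.ncard_le_ncard hsub (Finset.finite_toSet _)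
      _ ≤ 64 := by rw [Set.ncard_coe_finset]; exact Finset.card_image_le.trans (by simp)
  have hcM : 64 ≤ Nat.card (T.map π) := by
    have hsub : (fun e => π (cProd 6 B e)) '' ↑(Finset.range 64) ⊆
        ((T.map π : Subgroup ↥Spor.M12) : Set ↥Spor.M12) := by
      rintro x ⟨e, -, rfl⟩
      exact ⟨_, hmem e, rfl⟩
    have hio : Set.InjOn (fun e => π (cProd 6 B e)) ↑(Finset.range 64) := fun e he f hf =>
      hinj e (Finset.mem_range.1 he) f (Finset.mem_range.1 hf)
    have h := Set.ncard_le_ncard hsub (Set.toFinite _)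
    rw [hio.ncard_image, Set.ncard_coe_finset, Finset.card_range, ← Nat.card_coe_set_eq] at h
    exact h
  have hle := Nat.card_le_card_of_surjective _ (π.subgroupMap_surjective T)
  change Nat.card (T.map π) ≤ _ at hle
  have hidx := Subgroup.card_mul_index (T.map π)
  rw [card_M12, show Nat.card (T.map π) = 64 by omega] at hidx
  refine SchurSplit.false_of_split π hπ hc Nat.prime_two hcard hd T (by omega) ?_
  rw [show (T.map π).index = 1485 by omega]
  norm_num

/-- Values in a quotient. -/
theorem Vals.map (hV : Vals C π A G ν) {Q : Type u} [Group Q] (f : E →* Q) (g : Cen E →+ Cen Q)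
    (hg : ∀ v, cι (g v) = f (cι v)) (π' : Q →* ↥Spor.M12) (hπ' : ∀ x, π' (f x) = π x) :
    Vals C π' (fun i => f (A i)) (fun k => f (G k)) (fun r => g (ν r)) := by
  have hp : ∀ ks : List ℕ, (ks.map fun i => f (A i)).prod = f (ks.map A).prod := fun ks => by
    rw [map_list_prod, List.map_map]; rfl
  refine ⟨fun i hi => by rw [hπ']; exact hV.lift i hi, fun i t hit ht => ?_, fun s hs => ?_,
    fun r => by rw [hg, hπ']; exact hV.ker r⟩
  · rw [cProd, hp, hp, hg, ← map_mul, ← map_mul, ← map_mul]
    exact congrArg f (hV.rel i t hit ht)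
  · rw [cProd, cProd, hp, hp, hg, ← map_mul, ← map_mul, ← map_mul]
    exact congrArg f (hV.slot s hs)

end

end

end Cfsg.Agent.ExtCert.M12
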