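import Cfsg.Agent.Lib.Golay.SylowM12
import Cfsg.Agent.Lib.ExtCert.M12DoubleData
import Cfsg.Prelude.Def_KGroupFacts

/-!
A stem extension of M₁₂ by a group of order two: monomial automorphisms of a ternary code
of length 12 on the dodecad.
-/

set_option autoImplicit false

namespace Cfsg.Agent.ExtCert.M12

noncomputable section

open Cfsg
open Cfsg.Agent.Golay24
open scoped Pointwise commutatorElement

theorem perm_apply_inv {α : Type*} (σ : Equiv.Perm α) (x : α) : σ (σ⁻¹ x) = x :=
  σ.apply_symm_apply x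

theorem perm_inv_apply {α : Type*} (σ : Equiv.Perm α) (x : α) : σ⁻¹ (σ x) = x :=
  σ.symm_apply_apply x

/-- Ternary words. -/
abbrev W3 : Type := GolayPt → ZMod 3

/-- A basis word. -/
def rowW (j : Fin 6) : W3 := fun x => (((codeRows.getD j.val []).getD (idx x) 0 : ℕ) : ZMod 3)

/-- A pivot. -/
def pv (j : Fin 6) : GolayPt := pt ⟨dodPos.getD j.val 0 % 24, Nat.mod_lt _ (by norm_num)⟩

/-- The ternary code. -/
def code3 : Submodule (ZMod 3) W3 := Submodule.span (ZMod 3) (Set.range rowW)

/-- Monomial condition. -/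
def Mono (p : ↥Spor.M12 × Equiv.Perm W3) (d : W3) : Prop :=
  (∀ x, d x * d x = 1) ∧ (∀ x, x ∉ setOf sqDod → d x = 1) ∧
    (∀ w x, p.2 w x = d x * w (p.1.1⁻¹ x)) ∧ ∀ w ∈ code3, p.2 w ∈ code3

theorem symm_not_mem (σ : ↥Spor.M12) {x : GolayPt} (hx : x ∉ setOf sqDod) :
    σ.1⁻¹ x ∉ setOf sqDod := by
  intro h
  apply hx
  have hs : σ.1 • Spor.squareDodecad = Spor.squareDodecad := σ.2.2
  rw [setOf_sqDod] at h ⊢
  rw [← hs]
  exact Finset.mem_smul_finset.2 ⟨_, h, by simp⟩

/-- The double cover. -/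
def cover : Subgroup (↥Spor.M12 × Equiv.Perm W3) where
  carrier := {p | ∃ d, Mono p d}
  one_mem' := ⟨1, fun _ => one_mul 1, fun _ _ => rfl, fun w x => (one_mul _).symm, fun _ h => h⟩
  mul_mem' := by
    rintro ⟨σ, g⟩ ⟨τ, h⟩ ⟨d, hd1, hd2, hd3, hd4⟩ ⟨e, he1, he2, he3, he4⟩
    refine ⟨fun x => d x * e (σ.1⁻¹ x), fun x => ?_, fun x hx => ?_, fun w x => ?_,
      fun w hw => hd4 _ (he4 w hw)⟩
    · show d x * e (σ.1⁻¹ x) * (d x * e (σ.1⁻¹ x)) = 1
      rw [mul_mul_mul_comm, hd1, he1, one_mul]
    · show d x * e (σ.1⁻¹ x) = 1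
      rw [hd2 x hx, he2 _ (symm_not_mem σ hx), one_mul]
    · show g (h w) x = d x * e (σ.1⁻¹ x) * w ((σ * τ).1⁻¹ x)
      rw [hd3, he3, ← mul_assoc, Subgroup.coe_mul, mul_inv_rev, Equiv.Perm.mul_apply]
  inv_mem' := by
    rintro ⟨σ, g⟩ ⟨d, hd1, hd2, hd3, hd4⟩
    refine ⟨fun x => d (σ.1 x), fun x => hd1 _, fun x hx => hd2 _ ?_, fun w x => ?_, fun w hw => ?_⟩
    · have := symm_not_mem σ⁻¹ hx
      simpa using this
    · show g⁻¹ w x = d (σ.1 x) * w ((σ⁻¹).1⁻¹ x)
      have := congrFun (perm_apply_inv g w) (σ.1 x)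
      rw [hd3] at this
      simp only [perm_inv_apply] at this
      rw [Subgroup.coe_inv, inv_inv, ← this, ← mul_assoc, hd1, one_mul]
    · obtain ⟨v, hv⟩ := Finite.injective_iff_surjective.1
        (show Function.Injective (fun v : code3 => (⟨g v.1, hd4 _ v.2⟩ : code3)) from
          fun a b hab => Subtype.ext (g.injective (Subtype.ext_iff.1 hab))) ⟨w, hw⟩
      have hgv : g v.1 = w := congrArg Subtype.val hv
      show g⁻¹ w ∈ code3
      rw [← hgv, perm_inv_apply]
      exact v.2

/-- The projection. -/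
def coverProj : ↥cover →* ↥Spor.M12 := (MonoidHom.fst _ _).comp cover.subtype

/-- A generator as a packed code. -/
def gP (k : ℕ) : ℕ := genPerms.getD k 0

/-- The signs of a generator. -/
def gS (k : ℕ) : W3 := fun x => (((genSigns.getD k []).getD (idx x) 1 : ℕ) : ZMod 3)

/-- The position sent to a position. -/
def back (p q : ℕ) : Fin 24 :=
  ⟨(((List.range 24).filter fun i => app p i == q).getD 0 0) % 24, Nat.mod_lt _ (by norm_num)⟩

theorem double_checks :
    (∀ k ∈ List.range 4, inM24 (gP k) = true ∧ img (gP k) sqDod = sqDod) ∧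
    (∀ k ∈ List.range 4, ∀ x : GolayPt, gS k x * gS k x = 1) ∧
    (∀ k ∈ List.range 4, ∀ x : GolayPt, x ∉ setOf sqDod → gS k x = 1) ∧
    (∀ k ∈ List.range 4, ∀ j : Fin 6, ∀ y : GolayPt,
      gS k (appPt (gP k) y) * rowW j y =
        ∑ i : Fin 6, (gS k (pv i) * rowW j (pt (back (gP k) (idx (pv i))))) *
          rowW i (appPt (gP k) y)) ∧
    (∀ k ∈ List.range 2, gP k = m12Cert.gens.getD k 0) ∧ m12Cert.gens.length = 2 ∧
    (∀ i ∈ List.range 24, app (gP 2) (app (gP 3) i) = app (gP 3) (app (gP 2) i)) ∧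
    (∃ y : GolayPt, gS 2 (appPt (gP 2) (appPt (gP 3) y)) * gS 3 (appPt (gP 3) y) ≠
      gS 3 (appPt (gP 3) (appPt (gP 2) y)) * gS 2 (appPt (gP 2) y)) := by
  decide +kernel

theorem code3_checks :
    (∀ j k : Fin 6, ∑ x, rowW j x * rowW k x = 0) ∧
    (∀ x ∈ setOf sqDod, ∃ i ∈ List.range 12, x = pt ⟨dodPos.getD i 0 % 24, Nat.mod_lt _ (by norm_num)⟩) ∧
    (∀ i ∈ List.range 11, ∀ x : GolayPt,
      ∑ j : Fin 6, ∑ k : Fin 6, (if j ≤ k then
        ((((spanCombs.getD i []).getD (j.val * (11 - j.val) / 2 + k.val) 0 : ℕ) : ZMod 3) *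
          rowW j x * rowW k x) else 0) =
        (if idx x = ⟨dodPos.getD 0 0 % 24, Nat.mod_lt _ (by norm_num)⟩ then 1 else 0) -
          (if idx x = ⟨dodPos.getD (i + 1) 0 % 24, Nat.mod_lt _ (by norm_num)⟩ then 1 else 0)) := by
  decide +kernel

theorem gP_mem (k : ℕ) (hk : k < 4) : toPerm (gP k) ∈ Spor.M12 :=
  m12SylHyp.mem _ (by
    obtain ⟨h1, h2⟩ := double_checks.1 k (List.mem_range.2 hk)
    simp only [m12SylHyp, Bool.and_eq_true, beq_iff_eq]
    exact ⟨h1, h2⟩)

/-- The monomial map of a generator. -/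
def gMap (k : ℕ) : Equiv.Perm W3 :=
  if h : ∀ x, gS k x * gS k x = 1 then
    { toFun := fun w x => gS k x * w ((toPerm (gP k))⁻¹ x)
      invFun := fun w x => gS k (toPerm (gP k) x) * w (toPerm (gP k) x)
      left_inv := fun w => funext fun x => by
        show gS k _ * (gS k _ * w ((toPerm (gP k))⁻¹ (toPerm (gP k) x))) = w x
        rw [← mul_assoc, h, one_mul, perm_inv_apply]
      right_inv := fun w => funext fun x => by
        show gS k x * (gS k (toPerm (gP k) ((toPerm (gP k))⁻¹ x)) *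
          w (toPerm (gP k) ((toPerm (gP k))⁻¹ x))) = w x
        rw [perm_apply_inv, ← mul_assoc, h, one_mul] }
  else 1

theorem gMap_apply {k : ℕ} (hk : k < 4) (w : W3) (x : GolayPt) :
    gMap k w x = gS k x * w ((toPerm (gP k))⁻¹ x) := by
  rw [gMap, dif_pos (double_checks.2.1 k (List.mem_range.2 hk))]
  rfl

/-- The lift of a generator. -/
def gLift (k : ℕ) (hk : k < 4) : ↥cover :=
  ⟨(⟨toPerm (gP k), gP_mem k hk⟩, gMap k), gS k, double_checks.2.1 k (List.mem_range.2 hk),
    double_checks.2.2.1 k (List.mem_range.2 hk), fun w x => gMap_apply hk w x, fun w hw => by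
    have hv := valid_of_inM24 (double_checks.1 k (List.mem_range.2 hk)).1
    induction hw using Submodule.span_induction with
    | mem w hw =>
      obtain ⟨j, rfl⟩ := hw
      have e : gMap k (rowW j) = ∑ i : Fin 6,
          (gS k (pv i) * rowW j (pt (back (gP k) (idx (pv i))))) • rowW i := by
        funext x
        obtain ⟨y, rfl⟩ := (toPerm (gP k)).surjective x
        rw [gMap_apply hk, perm_inv_apply, toPerm_apply hv,
          double_checks.2.2.2.1 k (List.mem_range.2 hk) j y, Finset.sum_apply]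
        simp only [Pi.smul_apply, smul_eq_mul]
      show gMap k (rowW j) ∈ code3
      rw [e]
      exact Submodule.sum_mem _ fun i _ => Submodule.smul_mem _ _ (Submodule.subset_span ⟨i, rfl⟩)
    | zero =>
      show gMap k 0 ∈ code3
      rw [show gMap k (0 : W3) = 0 from funext fun x => by rw [gMap_apply hk]; simp]
      exact zero_mem _
    | add u v _ _ hu hv' =>
      show gMap k (u + v) ∈ code3
      rw [show gMap k (u + v) = gMap k u + gMap k v from funext fun x => by
        simp only [gMap_apply hk, Pi.add_apply, mul_add]]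
      exact add_mem hu hv'
    | smul c u _ hu =>
      show gMap k (c • u) ∈ code3
      rw [show gMap k (c • u) = c • gMap k u from funext fun x => by
        simp only [gMap_apply hk, Pi.smul_apply, smul_eq_mul]; ring]
      exact Submodule.smul_mem _ _ hu⟩

theorem coverProj_surjective : Function.Surjective coverProj := by
  have hle : Spor.M12 ≤ coverProj.range.map Spor.M12.subtype := by
    refine m12_grp.ge.trans ?_
    rw [GenCert.grp, Subgroup.closure_le]
    rintro _ ⟨p, hp, rfl⟩
    obtain ⟨k, hk, rfl⟩ := List.mem_iff_getElem.1 hp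
    have hk2 : k < 2 := double_checks.2.2.2.2.2.1 ▸ hk
    refine ⟨⟨toPerm (gP k), gP_mem k (by omega)⟩, ⟨gLift k (by omega), rfl⟩, ?_⟩
    show toPerm (gP k) = toPerm _
    rw [double_checks.2.2.2.2.1 k (List.mem_range.2 hk2), List.getD_eq_getElem _ _ hk]
  intro σ
  obtain ⟨τ, ⟨g, rfl⟩, e⟩ := hle σ.2
  exact ⟨g, Subtype.ext e⟩

theorem code3_dot {v : W3} (hv : v ∈ code3) (k : Fin 6) : ∑ x, v x * rowW k x = 0 := by
  induction hv using Submodule.span_induction with
  | mem w hw => obtain ⟨j, rfl⟩ := hw; exact code3_checks.1 j k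
  | zero => simp
  | add u v _ _ hu hv => simp [add_mul, Finset.sum_add_distrib, hu, hv]
  | smul c u _ hu => simp [mul_assoc, ← Finset.mul_sum, hu]

/-- The sign of a kernel element at the first pivot decides it. -/
theorem ker_ext {a b : ↥cover} (ha : coverProj a = 1) (hb : coverProj b = 1) {d e : W3}
    (hd : Mono a.1 d) (he : Mono b.1 e)
    (h0 : d (pt ⟨dodPos.getD 0 0 % 24, Nat.mod_lt _ (by norm_num)⟩) =
      e (pt ⟨dodPos.getD 0 0 % 24, Nat.mod_lt _ (by norm_num)⟩)) : a = b := by
  have hconst : ∀ (c : ↥cover) (d : W3), coverProj c = 1 → Mono c.1 d → ∀ x ∈ setOf sqDod,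
      d x = d (pt ⟨dodPos.getD 0 0 % 24, Nat.mod_lt _ (by norm_num)⟩) := by
    intro c d hc hd x hx
    obtain ⟨i, hi, rfl⟩ := code3_checks.2.1 x hx
    rcases i with _ | i
    · rfl
    have hi' : i ∈ List.range 11 := List.mem_range.2 (by have := List.mem_range.1 hi; omega)
    have hz : ∀ j k : Fin 6, ∑ x, d x * (rowW j x * rowW k x) = 0 := by
      intro j k
      have h1 := code3_dot (hd.2.2.2 _ (Submodule.subset_span ⟨j, rfl⟩)) k
      have hc' : c.1.1 = 1 := hc
      simp only [hd.2.2.1, hc', Subgroup.coe_one, inv_one, Equiv.Perm.one_apply] at h1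
      simpa [mul_assoc] using h1
    have h2 : ∑ x, d x * ((if idx x = ⟨dodPos.getD 0 0 % 24, Nat.mod_lt _ (by norm_num)⟩ then 1 else 0) -
        (if idx x = ⟨dodPos.getD (i + 1) 0 % 24, Nat.mod_lt _ (by norm_num)⟩ then 1 else 0)) = 0 := by
      simp only [← code3_checks.2.2 i hi', Finset.mul_sum]
      rw [Finset.sum_comm]
      refine Finset.sum_eq_zero fun j _ => ?_
      rw [Finset.sum_comm]
      refine Finset.sum_eq_zero fun k _ => ?_
      by_cases hjk : j ≤ k
      · simp only [if_pos hjk]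
        generalize (((spanCombs.getD i []).getD (j.val * (11 - j.val) / 2 + k.val) 0 : ℕ) : ZMod 3) = c
        rw [Finset.sum_congr rfl (fun x _ =>
          show d x * (c * rowW j x * rowW k x) = c * (d x * (rowW j x * rowW k x)) by ring),
          ← Finset.mul_sum, hz, mul_zero]
      · simp [if_neg hjk]
    have hs : ∀ q : Fin 24, ∑ x, d x * (if idx x = q then 1 else 0) = d (pt q) := by
      intro q
      rw [Finset.sum_eq_single (pt q)]
      · rw [idx_pt, if_pos rfl, mul_one]
      · intro x _ hx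
        rw [if_neg (fun e => hx (by rw [← e, pt_idx])), mul_zero]
      · simp
    simp only [mul_sub, Finset.sum_sub_distrib, hs, sub_eq_zero] at h2
    exact h2.symm
  have hde : d = e := by
    funext x
    by_cases hx : x ∈ setOf sqDod
    · rw [hconst a d ha hd x hx, hconst b e hb he x hx, h0]
    · rw [hd.2.1 x hx, he.2.1 x hx]
  have h1 : a.1.1 = b.1.1 := ha.trans hb.symm
  refine Subtype.ext (Prod.ext h1 (Equiv.ext fun w => funext fun x => ?_))
  rw [hd.2.2.1, he.2.2.1, hde, h1]

/-- The commutator of the two commuting generators' lifts. -/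
def negOne : ↥cover :=
  ⁅gLift 2 (by norm_num), gLift 3 (by norm_num)⁆

theorem negOne_spec : coverProj negOne = 1 ∧ negOne ≠ 1 := by
  obtain ⟨hin, -, -, -, -, -, hcomm, y, hy⟩ := double_checks
  have hv2 := valid_of_inM24 (hin 2 (by simp)).1
  have hv3 := valid_of_inM24 (hin 3 (by simp)).1
  constructor
  · rw [negOne, map_commutatorElement, commutatorElement_eq_one_iff_mul_comm]
    refine Subtype.ext (Equiv.ext fun x => idx_inj.1 (Fin.ext ?_))
    show (idx (toPerm (gP 2) (toPerm (gP 3) x)) : ℕ) = idx (toPerm (gP 3) (toPerm (gP 2) x))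
    rw [idx_toPerm hv2, idx_toPerm hv3, idx_toPerm hv3, idx_toPerm hv2]
    exact hcomm _ (List.mem_range.2 (idx x).isLt)
  · rw [negOne, Ne, commutatorElement_eq_one_iff_mul_comm]
    intro h
    apply hy
    have hc : appPt (gP 2) (appPt (gP 3) y) = appPt (gP 3) (appPt (gP 2) y) :=
      idx_inj.1 (Fin.ext (by
        rw [← toPerm_apply hv2, ← toPerm_apply hv3, ← toPerm_apply hv3, ← toPerm_apply hv2,
          idx_toPerm hv2, idx_toPerm hv3, idx_toPerm hv3, idx_toPerm hv2]
        exact hcomm _ (List.mem_range.2 (idx y).isLt)))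
    have h' := congrArg (fun g : ↥cover => g.1.2 (fun _ => 1) (appPt (gP 2) (appPt (gP 3) y))) h
    change gMap 2 (gMap 3 fun _ => 1) _ = gMap 3 (gMap 2 fun _ => 1) _ at h'
    rw [gMap_apply (by norm_num), gMap_apply (by norm_num)] at h'
    conv_rhs at h' => rw [gMap_apply (by norm_num), gMap_apply (by norm_num), hc]
    simp only [mul_one, ← toPerm_apply hv2, ← toPerm_apply hv3, perm_inv_apply] at h' ⊢
    exact h'

theorem card_coverProj_ker : Nat.card coverProj.ker = 2 := by
  obtain ⟨hn1, hn2⟩ := negOne_spec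
  rw [show Nat.card coverProj.ker = Nat.card ↥({1, negOne} : Set ↥cover) from
    Nat.card_congr (Equiv.setCongr ?_), Nat.card_coe_set_eq, Set.ncard_pair hn2.symm]
  ext a
  constructor
  · intro ha
    obtain ⟨d, hd⟩ := a.2
    obtain ⟨e, he⟩ := negOne.2
    obtain ⟨o, ho⟩ := (1 : ↥cover).2
    let p0 : GolayPt := pt ⟨dodPos.getD 0 0 % 24, Nat.mod_lt _ (by norm_num)⟩
    have hne : e p0 ≠ o p0 := fun h => hn2 (ker_ext hn1 (map_one _) he ho h)
    have h1 := hd.1 p0
    have h2 := he.1 p0
    have h3 := ho.1 p0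
    have key : ∀ u v w : ZMod 3, u * u = 1 → v * v = 1 → w * w = 1 → v ≠ w → u = w ∨ u = v := by
      decide
    rcases key _ _ _ h1 h2 h3 hne with h | h
    · exact Or.inl (ker_ext ha (map_one _) hd ho h)
    · exact Or.inr (ker_ext ha hn1 hd he h)
  · rintro (rfl | rfl)
    · exact map_one coverProj
    · exact hn1

/-- The double cover is a stem extension. -/
theorem cover_stem : IsStemExtension coverProj := by
  obtain ⟨hn1, hn2⟩ := negOne_spec
  have hker : coverProj.ker = Subgroup.zpowers negOne := by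
    symm
    apply Subgroup.eq_of_le_of_card_ge (Subgroup.zpowers_le.2 hn1)
    rw [card_coverProj_ker, Nat.card_zpowers]
    have : orderOf negOne ≠ 1 := fun h => hn2 (orderOf_eq_one_iff.1 h)
    have := orderOf_pos negOne
    omega
  refine ⟨coverProj_surjective, ?_, ?_⟩
  · rw [hker, Subgroup.zpowers_le, Subgroup.mem_center_iff]
    intro g
    have hN : g * negOne * g⁻¹ ∈ coverProj.ker := coverProj.normal_ker.conj_mem _ hn1 g
    have h2 := card_coverProj_ker
    have hpair : ∀ a ∈ coverProj.ker, a = 1 ∨ a = negOne := by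
      intro a ha
      by_contra hcon
      push_neg at hcon
      have hle : ({1, negOne, a} : Set ↥cover) ⊆ coverProj.ker := by
        rintro x (rfl | rfl | rfl)
        · exact one_mem _
        · exact hn1
        · exact ha
      have := Set.ncard_le_ncard hle (Set.toFinite _)
      rw [Set.ncard_insert_of_notMem (by simp [hn2.symm, hcon.1.symm]) (Set.toFinite _),
        Set.ncard_pair hcon.2.symm] at this
      change 3 ≤ Set.ncard (coverProj.ker : Set ↥cover) at this
      rw [← Nat.card_coe_set_eq] at this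
      change 3 ≤ Nat.card coverProj.ker at this
      omega
    rcases hpair _ hN with h | h
    · exact absurd (by simpa [mul_inv_eq_one] using h) hn2
    · exact mul_inv_eq_iff_eq_mul.1 h
  · rw [hker, Subgroup.zpowers_le]
    exact Subgroup.commutator_mem_commutator (Subgroup.mem_top _) (Subgroup.mem_top _)

end

end Cfsg.Agent.ExtCert.M12
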