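import Cfsg.Agent.Lib.SchurSplit.MainM24
import Cfsg.Agent.Lib.SchurSplit.SmallMain
import Cfsg.Agent.Lib.Golay.SylowM12
import Cfsg.Agent.Lib.ExtCert.M12DoubleData

/-!
The 3-part of the multiplier of M₁₂ is trivial (the argument for M₂₄ on a group 3^(1+2)).
-/

set_option autoImplicit false

namespace Cfsg.Agent.ExtCert.M12

noncomputable section

open Cfsg
open Cfsg.Agent.Golay24
open Cfsg.Agent.SchurSplit
open scoped commutatorElement

/-- Membership test. -/
def m12Test : InTest Spor.M12 where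
  inH := m12SylHyp.inH
  valid p hp := by
    simp only [m12SylHyp, Bool.and_eq_true] at hp
    exact valid_of_inM24 hp.1
  mem := m12SylHyp.mem

theorem m12_idP : m12Test.inH idP = true := by decide +kernel

/-- Named element. -/
def m12ThreeA : ℕ := threePerms.getD 0 0
/-- Named element. -/
def m12ThreeB : ℕ := threePerms.getD 1 0
/-- Named element. -/
def m12ThreeZ : ℕ := threePerms.getD 2 0
/-- Named element. -/
def m12ThreeGA : ℕ := threePerms.getD 3 0
/-- Named element. -/
def m12ThreeGZ : ℕ := threePerms.getD 4 0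

theorem m12_three_in : ((m12Test.inH m12ThreeA) && (m12Test.inH m12ThreeB) && (m12Test.inH m12ThreeZ) && (m12Test.inH m12ThreeGA) && (m12Test.inH m12ThreeGA) && (m12Test.inH m12ThreeGZ) && (m12Test.inH (compP m12ThreeB m12ThreeA)) && (m12Test.inH (compP m12ThreeZ m12ThreeA))) = true := by decide +kernel

theorem m12_three_eqs :
    (isIdP (powP m12ThreeA 3) && isIdP (powP m12ThreeB 3) && isIdP (powP m12ThreeZ 3) &&
    (compP m12ThreeB m12ThreeA == compP (compP m12ThreeZ m12ThreeA) m12ThreeB) &&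
    (compP m12ThreeA m12ThreeZ == compP m12ThreeZ m12ThreeA) &&
    (compP m12ThreeB m12ThreeZ == compP m12ThreeZ m12ThreeB) &&
    (compP m12ThreeGA m12ThreeA == compP (powP m12ThreeA 2) m12ThreeGA) &&
    (compP m12ThreeGA m12ThreeB == compP (powP m12ThreeB 2) m12ThreeGA) &&
    (compP m12ThreeGZ m12ThreeZ == compP (powP m12ThreeZ 2) m12ThreeGZ) &&
    (compP m12ThreeGA m12ThreeZ == compP m12ThreeZ m12ThreeGA) &&
    (compP m12ThreeGA m12ThreeZ == compP m12ThreeZ m12ThreeGA) &&
    !(isIdP m12ThreeZ)) = true := by decide +kernel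

/-- Words for the 27 products. -/
def m12ThreeWords : List (List ℕ) :=
  (List.range 27).map fun n =>
    List.replicate (n / 9) 0 ++ List.replicate (n / 3 % 3) 1 ++ List.replicate (n % 3) 2

/-- The value of a word. -/
def wordVal (base : List ℕ) (w : List ℕ) : ℕ := w.foldl (fun acc i => compP acc (base.getD i 0)) idP

theorem m12_three_words :
    (([m12ThreeZ, m12ThreeA, m12ThreeB].all m12Test.inH) &&
    ((m12ThreeWords.map (wordVal [m12ThreeZ, m12ThreeA, m12ThreeB])).zip m12ThreeWords).all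
      (fun q => wordOk m12Test.inH [m12ThreeZ, m12ThreeA, m12ThreeB] q.2 idP q.1) &&
    (m12ThreeWords.map (wordVal [m12ThreeZ, m12ThreeA, m12ThreeB])).all
      (fun p => m12Test.inH p && (compP p idP == p))) = true ∧
    (m12ThreeWords.map (wordVal [m12ThreeZ, m12ThreeA, m12ThreeB])).Nodup ∧
    (m12ThreeWords.map (wordVal [m12ThreeZ, m12ThreeA, m12ThreeB])).length = 27 ∧
    m12ThreeWords.length = 27 := by
  decide +kernel

theorem m12_three {E : Type*} [Group E] [Finite E] (π : E →* Spor.M12)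
    (hs : Function.Surjective π) (hc : π.ker ≤ Subgroup.center E) (hcard : Nat.card π.ker = 3)
    (hd : π.ker ≤ commutator E) : False := by
  have hk : ∀ v ∈ π.ker, v ^ 3 = 1 := fun v hv => by
    have := pow_card_eq_one' (x := (⟨v, hv⟩ : π.ker))
    rw [hcard] at this
    simpa [Subtype.ext_iff] using this
  have hin := m12_three_in
  have heq := m12_three_eqs
  simp only [Bool.and_eq_true, beq_iff_eq, Bool.not_eq_true'] at hin heq
  obtain ⟨⟨⟨⟨⟨⟨⟨iA, iB⟩, iZ⟩, iGA⟩, iGB⟩, iGZ⟩, iBA⟩, iZA⟩ := hin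
  obtain ⟨⟨⟨⟨⟨⟨⟨⟨⟨⟨⟨pA, pB⟩, pZ⟩, eBA⟩, eAZ⟩, eBZ⟩, eGA⟩, eGB⟩, eGZ⟩, eGAZ⟩, eGBZ⟩, -⟩ := heq
  have cA := el_inv_of_cube m12Test iA pA
  have cB := el_inv_of_cube m12Test iB pB
  have cZ := el_inv_of_cube m12Test iZ pZ
  have hba : el Spor.M12 m12ThreeB * el Spor.M12 m12ThreeA =
      el Spor.M12 m12ThreeZ * el Spor.M12 m12ThreeA * el Spor.M12 m12ThreeB := by
    rw [m12Test.el_mul iZ iA iZA rfl]
    exact m12Test.el_mul_eq iB iA iZA iB eBA
  have hAZ := m12Test.el_mul_eq iA iZ iZ iA eAZ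
  have hBZ := m12Test.el_mul_eq iB iZ iZ iB eBZ
  have hGAZ := m12Test.el_mul_eq iGA iZ iZ iGA eGAZ
  have hGBZ := m12Test.el_mul_eq iGB iZ iZ iGB eGBZ
  have hGA := el_conj_sq m12Test iA iGA eGA
  have hGB := el_conj_sq m12Test iB iGB eGB
  have hGZ := el_conj_sq m12Test iZ iGZ eGZ
  have inv2 : ∀ x : Spor.M12, x ^ 3 = 1 → x ^ 2 = x⁻¹ := fun x hx =>
    (inv_eq_of_mul_eq_one_left (by rw [← pow_succ, hx])).symm
  obtain ⟨a, ha⟩ := hs (el Spor.M12 m12ThreeA)
  obtain ⟨b, hb⟩ := hs (el Spor.M12 m12ThreeB)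
  obtain ⟨z, hz⟩ : ∃ z, b * a * b⁻¹ * a⁻¹ = z := ⟨_, rfl⟩
  have hz' : π z = el Spor.M12 m12ThreeZ := by
    rw [← hz, map_mul, map_mul, map_mul, map_inv, map_inv, ha, hb, hba]
    group
  have hp : (3 : ℕ).Prime := Nat.prime_three
  have a3 := pow_lift_eq_one π hs hc hp hk cA (r := 2) (by norm_num) (by norm_num) hGA ha
  have b3 := pow_lift_eq_one π hs hc hp hk cB (r := 2) (by norm_num) (by norm_num) hGB hb
  have z3 := pow_lift_eq_one π hs hc hp hk cZ (r := 2) (by norm_num) (by norm_num) hGZ hz'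
  have az : a * z = z * a := lift_comm_of_inverted π hs hc hp (by norm_num) hk hAZ
    (by rw [hGA, inv2 _ cA]) hGAZ ha hz'
  have bz : b * z = z * b := lift_comm_of_inverted π hs hc hp (by norm_num) hk hBZ
    (by rw [hGB, inv2 _ cB]) hGBZ hb hz'
  have b1 : Nat.card (Subgroup.closure ({z} : Set E)) ≤ 3 := by
    rw [← Subgroup.zpowers_eq_closure, Nat.card_zpowers]
    exact Nat.le_of_dvd (by norm_num) (orderOf_dvd_of_pow_eq_one z3)
  have b2 : Nat.card (Subgroup.closure (insert a ({z} : Set E))) ≤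
      Nat.card (Subgroup.closure ({z} : Set E)) * 3 :=
    card_closure_insert_pow_le _ a (by norm_num) a3 fun s hs => by
      rw [Set.mem_singleton_iff] at hs
      subst hs
      rw [az, mul_inv_cancel_right]
      exact Subgroup.subset_closure rfl
  have b3' : Nat.card (Subgroup.closure (insert b (insert a ({z} : Set E)))) ≤
      Nat.card (Subgroup.closure (insert a ({z} : Set E))) * 3 :=
    card_closure_insert_pow_le _ b (by norm_num) b3 fun s hs => by
      rcases hs with rfl | hs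
      · have : b * s * b⁻¹ = z * s := by rw [← hz]; group
        rw [this]
        exact mul_mem (Subgroup.subset_closure (Or.inr rfl)) (Subgroup.subset_closure (Or.inl rfl))
      · rw [Set.mem_singleton_iff] at hs
        subst hs
        rw [bz, mul_inv_cancel_right]
        exact Subgroup.subset_closure (Or.inr rfl)
  obtain ⟨T, hT⟩ : ∃ T, Subgroup.closure (insert b (insert a ({z} : Set E))) = T := ⟨_, rfl⟩
  rw [hT] at b3'
  obtain ⟨hw, hnd, hlen, hwl⟩ := m12_three_words
  rw [Bool.and_eq_true, Bool.and_eq_true] at hw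
  have hge := card_ge_of_words m12Test hw.1.1 m12_idP (T.map π) (by
    intro g hg
    simp only [List.mem_cons, List.not_mem_nil, or_false] at hg
    rw [← hT]
    rcases hg with rfl | rfl | rfl
    · exact ⟨z, Subgroup.subset_closure (Or.inr (Or.inr rfl)), hz'⟩
    · exact ⟨a, Subgroup.subset_closure (Or.inr (Or.inl rfl)), ha⟩
    · exact ⟨b, Subgroup.subset_closure (Or.inl rfl), hb⟩) m12ThreeWords _ (by rw [hlen, hwl])
    hw.1.2 hw.2 hnd
  rw [hlen] at hge
  have hle : Nat.card (T.map π) ≤ Nat.card T :=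
    Nat.card_le_card_of_surjective _ (π.subgroupMap_surjective T)
  have hge' : 27 ≤ Nat.card ↥(T.map π) := hge
  have h6 : Nat.card (T.map π) = 27 := by omega
  have h5 := Subgroup.card_mul_index (T.map π)
  rw [card_M12, h6] at h5
  refine false_of_split π hs hc hp hcard hd T (by omega) ?_
  rw [show (T.map π).index = 3520 by omega]
  norm_num

theorem m12_noExt_odd (p : ℕ) (hp : p.Prime) (h2 : p ≠ 2) : NoExt ↥Spor.M12 p := by
  by_cases h : p ^ 2 ∣ Nat.card ↥Spor.M12
  swap
  · exact noExt_of_sq_not_dvd hp h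
  rw [card_M12] at h
  have hle : p < 309 := (Nat.pow_lt_pow_iff_left two_ne_zero).1
    (lt_of_le_of_lt (Nat.le_of_dvd (by norm_num) h) (by norm_num : 95040 < 309 ^ 2))
  have hall : ∀ q : Fin 309, (q : ℕ) ^ 2 ∣ 95040 → (q : ℕ) ∈ [1, 2, 3, 4, 6, 8, 12, 24] := by
    decide +kernel
  have h3 : p = 3 := by
    have := hall ⟨p, hle⟩ h
    simp only [List.mem_cons, List.not_mem_nil, or_false] at this
    rcases this with e | e | e | e | e | e | e | e <;> subst e <;> first | rfl | (exfalso; first | exact h2 rfl | norm_num at hp)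
  subst h3
  exact fun E _ _ π hπ hc hcard hd => m12_three π hπ hc hcard hd

end

end Cfsg.Agent.ExtCert.M12
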