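import Cfsg.Agent.Lib.ExtCert.M12Data
import Cfsg.Agent.Lib.ExtCert.M12Three
import Cfsg.Agent.Lib.ExtCert.M12Double

/-!
The multiplier of M₁₂ is cyclic of order two.
-/

set_option autoImplicit false

namespace Cfsg.Agent.ExtCert.M12

noncomputable section

open Cfsg
open Cfsg.Agent.ExtCert.Central

universe u

theorem m12Data_ok : m12Data.okPerm = true ∧ m12Data.okTab = true ∧ m12Data.okLin = true :=
  ⟨by decide +kernel, by decide +kernel, by decide +kernel⟩

/-- A quotient of a stem extension with kernel of a given prime order. -/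
theorem exists_quot {Γ G : Type u} [Group Γ] [Finite Γ] [Group G] {σ : Γ →* G}
    (hσ : IsStemExtension σ) (L : Subgroup ↥σ.ker) {p : ℕ} (hp : p.Prime) (hdvd : p ∣ L.index) :
    ∃ (Q : Type u) (_ : Group Q) (_ : Finite Q) (f : Γ →* Q) (π : Q →* G),
      Function.Surjective f ∧ Function.Surjective π ∧ (∀ x, π (f x) = σ x) ∧
      π.ker ≤ Subgroup.center Q ∧ Nat.card π.ker = p ∧ π.ker ≤ commutator Q ∧
      ∀ x ∈ L, f x.1 = 1 := by
  obtain ⟨hsurj, hc, hd⟩ := hσ
  haveI : IsMulCommutative ↥σ.ker :=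
    ⟨⟨fun a b => Subtype.ext (Subgroup.mem_center_iff.1 (hc b.2) a)⟩⟩
  obtain ⟨K₀, hLK, hK₀⟩ : ∃ K₀ : Subgroup ↥σ.ker, L ≤ K₀ ∧ K₀.index = p := by
    obtain ⟨K, hKmem, hmax⟩ := Set.exists_max_image {K : Subgroup ↥σ.ker | L ≤ K ∧ p ∣ K.index}
      (fun K => Nat.card K) (Set.toFinite _) ⟨L, le_rfl, hdvd⟩
    refine ⟨K, hKmem.1, ?_⟩
    haveI : K.Normal := ⟨fun x hx g => by
      have : g * x = x * g := IsMulCommutative.is_comm.comm g x
      rwa [this, mul_inv_cancel_right]⟩
    by_contra hne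
    obtain ⟨c, hc'⟩ : p ∣ K.index := hKmem.2
    have hc1 : c ≠ 1 := by rintro rfl; exact hne (by rw [hc', mul_one])
    obtain ⟨r, hr, hrc⟩ := Nat.exists_prime_and_dvd hc1
    haveI : Fact r.Prime := ⟨hr⟩
    obtain ⟨y, hy⟩ := exists_prime_orderOf_dvd_card' (G := ↥σ.ker ⧸ K) r
      (by rw [← Subgroup.index_eq_card, hc']; exact hrc.mul_left p)
    let R : Subgroup ↥σ.ker := (Subgroup.zpowers y).comap (QuotientGroup.mk' K)
    have hRi : R.index * r = K.index := by
      rw [Subgroup.index_comap_of_surjective _ (QuotientGroup.mk'_surjective K), ← hy,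
        ← Nat.card_zpowers, mul_comm, Subgroup.card_mul_index, Subgroup.index_eq_card]
    have hKR : K ≤ R := fun x hx => by
      show QuotientGroup.mk' K x ∈ Subgroup.zpowers y
      rw [QuotientGroup.mk'_apply, (QuotientGroup.eq_one_iff x).2 hx]
      exact one_mem _
    have hRp : p ∣ R.index := by
      obtain ⟨d, rfl⟩ := hrc
      refine ⟨d, Nat.eq_of_mul_eq_mul_right hr.pos ?_⟩
      rw [hRi, hc']; ring
    have h1 := hmax R ⟨hKmem.1.trans hKR, hRp⟩
    have h2 := Subgroup.card_mul_index R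
    have h3 := Subgroup.card_mul_index K
    rw [← hRi, ← h2] at h3
    have hRpos : 0 < R.index := Nat.pos_of_ne_zero Subgroup.index_ne_zero_of_finite
    have h4 : Nat.card K * r = Nat.card R :=
      Nat.eq_of_mul_eq_mul_right hRpos (by rw [← h3]; ring)
    have h5 : 0 < Nat.card K := Nat.card_pos
    have h6 : 2 ≤ r := hr.two_le
    nlinarith
  let K : Subgroup Γ := K₀.map σ.ker.subtype
  have hKle : K ≤ σ.ker := Subgroup.map_subtype_le _
  haveI : K.Normal := ⟨fun x hx g => by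
    have := Subgroup.mem_center_iff.1 (hc (hKle hx)) g
    rwa [this, mul_inv_cancel_right]⟩
  let π : Γ ⧸ K →* G := QuotientGroup.lift K σ hKle
  have hker : π.ker = σ.ker.map (QuotientGroup.mk' K) := by
    ext q
    obtain ⟨x, rfl⟩ := QuotientGroup.mk_surjective q
    constructor
    · intro hx; exact ⟨x, hx, rfl⟩
    · rintro ⟨y, hy, he⟩
      rw [← he]; exact hy
  refine ⟨Γ ⧸ K, inferInstance, inferInstance, QuotientGroup.mk' K, π,
    QuotientGroup.mk'_surjective K, fun g => by obtain ⟨x, rfl⟩ := hsurj g; exact ⟨QuotientGroup.mk x, rfl⟩,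
    fun x => rfl, ?_, ?_, ?_, fun x hx => (QuotientGroup.eq_one_iff x.1).2 ⟨x, hLK hx, rfl⟩⟩
  · rw [hker]
    rintro _ ⟨y, hy, rfl⟩
    rw [Subgroup.mem_center_iff]
    intro q
    obtain ⟨x, rfl⟩ := QuotientGroup.mk_surjective q
    show ((x * y : Γ) : Γ ⧸ K) = ((y * x : Γ) : Γ ⧸ K)
    rw [Subgroup.mem_center_iff.1 (hc hy) x]
  · let φ : ↥σ.ker →* Γ ⧸ K := (QuotientGroup.mk' K).comp σ.ker.subtype
    have hφk : φ.ker = K₀ := by
      ext x
      show (QuotientGroup.mk' K) (x : Γ) = 1 ↔ _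
      rw [QuotientGroup.mk'_apply, QuotientGroup.eq_one_iff]
      exact Subgroup.mem_map_iff_mem σ.ker.subtype_injective
    have hφr : φ.range = π.ker := by
      rw [hker, MonoidHom.range_comp, Subgroup.range_subtype]
    rw [← hφr, ← Nat.card_congr (QuotientGroup.quotientKerEquivRange φ).toEquiv, hφk]
    exact hK₀
  · rw [hker]
    refine (Subgroup.map_mono hd).trans ?_
    rw [commutator_def, Subgroup.map_commutator, commutator_def]
    exact Subgroup.commutator_mono le_top le_top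

/-- Central values along a surjection. -/
def mapCen {Γ Q : Type u} [Group Γ] [Group Q] (f : Γ →* Q) (hf : Function.Surjective f) :
    Cen Γ →+ Cen Q :=
  AddMonoidHom.mk'
    (fun v => Additive.ofMul ⟨f (cι v), Subgroup.mem_center_iff.2 fun q => by
      obtain ⟨x, rfl⟩ := hf q
      rw [← map_mul, ← map_mul, cι_comm]⟩)
    fun a b => Additive.toMul.injective (Subtype.ext (by
      show f (cι (a + b)) = f (cι a) * f (cι b)
      rw [cι_add, map_mul]))

theorem card_ker_dvd_two {Γ : Type} [Group Γ] [Finite Γ] {σ : Γ →* ↥Spor.M12}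
    (hσ : IsStemExtension σ) : Nat.card σ.ker ∣ 2 := by
  obtain ⟨h1, h2, h3⟩ := m12Data_ok
  obtain ⟨A, G, ν, hV⟩ := exists_vals σ hσ.1 hσ.2.1 h1
  obtain ⟨htor, hmul⟩ := lam_torsion hV h2 h3
  have hodd : ∀ p, p.Prime → p ∣ Nat.card σ.ker → p = 2 := by
    intro p hp hdvd
    by_contra hne
    obtain ⟨Q, _, _, f, π, -, hπ, -, hc, hcard, hd, -⟩ :=
      exists_quot hσ ⊥ hp (by rwa [Subgroup.index_bot])
    exact m12_noExt_odd p hp hne Q π hπ hc hcard hd
  have hlk : cι (evF ν m12Data.lam) ∈ σ.ker := by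
    rw [MonoidHom.mem_ker]
    generalize m12Data.lam = l
    have : ∀ (ν : ℕ → Cen Γ), (∀ r, σ (cι (ν r)) = 1) → σ (cι (evF ν l)) = 1 := by
      induction l with
      | nil => intro ν _; rw [evF, cι_zero, map_one]
      | cons x l ih =>
        intro ν hν
        rw [evF, cι_add, map_mul, ih _ (fun r => hν (r + 1)), mul_one]
        show σ ((((ν 0).toMul) ^ x : ↥(Subgroup.center Γ)) : Γ) = 1
        rw [Subgroup.coe_zpow, map_zpow, show σ ((ν 0).toMul : Γ) = 1 from hν 0, one_zpow]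
    exact this ν hV.ker
  let l : ↥σ.ker := ⟨_, hlk⟩
  have htop : Subgroup.zpowers l = ⊤ := by
    by_contra hne
    have hi : (Subgroup.zpowers l).index ≠ 1 := fun h => hne (Subgroup.index_eq_one.1 h)
    obtain ⟨p, hp, hdvd⟩ := Nat.exists_prime_and_dvd hi
    obtain ⟨Q, _, _, f, π, hf, hπ, hfac, hc, hcard, hd, hL⟩ := exists_quot hσ _ hp hdvd
    obtain rfl := hodd p hp (hdvd.trans (Subgroup.index_dvd_card _))
    refine false_of_lam hπ hc hcard hd h1 h2 h3 (hV.map f (mapCen f hf) (fun v => rfl) π hfac) ?_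
    rw [evF_map]
    exact Additive.toMul.injective (Subtype.ext (hL l (Subgroup.mem_zpowers l)))
  have hcardl : Nat.card σ.ker = orderOf l := by
    rw [← Nat.card_zpowers, htop, Subgroup.card_top]
  have hdiv : Nat.card σ.ker ∣ 2 * m12Data.mult := by
    rw [hcardl]
    apply orderOf_dvd_of_pow_eq_one
    apply Subtype.ext
    rw [Subgroup.coe_pow, Subgroup.coe_one]
    have h := congrArg cι htor
    rw [cι_zero] at h
    rw [show (2 * (m12Data.mult : ℤ)) = ((2 * m12Data.mult : ℕ) : ℤ) by push_cast; ring,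
      natCast_zsmul] at h
    exact h
  refine (Nat.Coprime.dvd_of_dvd_mul_right ?_ hdiv)
  refine Nat.coprime_of_dvd fun q hq hq1 hq2 => ?_
  have := hodd q hq hq1
  subst this
  omega

theorem m12_multiplier : Cfsg.HasCyclicSchurMultiplier ↥Spor.M12 2 := by
  refine ⟨⟨↥cover, inferInstance, inferInstance, coverProj, cover_stem, ?_⟩, ?_⟩
  · haveI : Fact (Nat.Prime 2) := ⟨Nat.prime_two⟩
    exact ⟨mulEquivOfPrimeCardEq (p := 2) card_coverProj_ker (by simp)⟩
  · intro Γ _ _ σ hσ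
    haveI : Fact (Nat.Prime 2) := ⟨Nat.prime_two⟩
    rcases (Nat.dvd_prime Nat.prime_two).1 (card_ker_dvd_two hσ) with h | h
    · haveI : Subsingleton σ.ker := (Nat.card_eq_one_iff_unique.1 h).1
      exact ⟨1, fun x => ⟨1, Subsingleton.elim _ _⟩⟩
    · let e : Multiplicative (ZMod 2) ≃* σ.ker := mulEquivOfPrimeCardEq (p := 2) (by simp) h
      exact ⟨e.toMonoidHom, e.surjective⟩

end

end Cfsg.Agent.ExtCert.M12
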