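import Cfsg.Agent.Lib.ExtCert.Unique
import Cfsg.Agent.Lib.ExtCert.CodeData
import Cfsg.Agent.Lib.ExtCert.CocodeData
import Cfsg.Agent.Lib.Golay.CocodeExtGroup

/-!
The code module and the cocode module of M₂₃ in coordinates, and their certificates.
-/

set_option autoImplicit false

namespace Cfsg.Agent.ExtCert

noncomputable section

open Cfsg
open Cfsg.Agent.Golay24 Cfsg.Agent.CocodeExt

attribute [local irreducible] ev dotLin
set_option maxHeartbeats 400000

theorem wordL_add (bs : List ℕ) (u v : V) : wordL bs (u + v) = wordL bs u + wordL bs v := by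
  simp [wordL, add_smul, Finset.sum_add_distrib]

/-- Coordinates are exact. -/
def dualOk (bs ds : List ℕ) : Bool :=
  (List.finRange 11).all fun j => (List.finRange 11).all fun k => decide
    (dotLin (wordOf (ds.getD j.val 0)) (wordOf (bs.getD k.val 0)) = if j = k then 1 else 0)

theorem coord_word {bs ds : List ℕ} (h : dualOk bs ds = true) (v : V) :
    coordP ds (wordL bs v) = v := by
  simp only [dualOk, List.all_eq_true, List.mem_finRange, forall_const, decide_eq_true_eq] at h
  funext j
  show dotLin _ (∑ k : Fin 11, _) = _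
  rw [map_sum, Finset.sum_eq_single j]
  · rw [map_smul, h, if_pos rfl, smul_eq_mul, mul_one]
  · intro k _ hk
    rw [map_smul, h, if_neg (Ne.symm hk), smul_zero]
  · simp

/-- The defect of coordinates on a word. -/
def defect (bs ds : List ℕ) (w : W) : W := wordL bs (coordP ds w) + w

theorem defect_add (bs ds : List ℕ) (a b : W) :
    defect bs ds (a + b) = defect bs ds a + defect bs ds b := by
  unfold defect
  rw [show coordP ds (a + b) = coordP ds a + coordP ds b from funext fun j => map_add (dotLin (wordOf (ds.getD j.val 0))) a b,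
    wordL_add]
  abel

/-- The coordinates fix the short code. -/
def FixesCode0 (bs ds : List ℕ) : Prop :=
  ∀ i : Fin 12, defect bs ds (basisWord i) = basisWord i none • defect bs ds (basisWord 0)

theorem wordL_coord {bs ds : List ℕ} (h : FixesCode0 bs ds) {x : W} (hx : x ∈ golayCode)
    (hx0 : x none = 0) : wordL bs (coordP ds x) = x := by
  let f : W →+ W := AddMonoidHom.mk' (defect bs ds) (defect_add bs ds)
  have hf : f x = x none • defect bs ds (basisWord 0) := by
    conv_lhs => rw [← code_expand hx]
    conv_rhs => rw [← code_expand hx, Finset.sum_apply, Finset.sum_smul]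
    rw [map_sum]
    refine Finset.sum_congr rfl fun i _ => ?_
    rcases zmod2_cases (x (pivot i)) with e | e <;> rw [e]
    · simp
    · simp only [one_smul, Pi.smul_apply]; exact h i
  rw [hx0, zero_smul] at hf
  have hf' : wordL bs (coordP ds x) + x = 0 := hf
  exact funext fun p => CharTwo.add_eq_zero.1 (congrFun hf' p)

theorem code_ok : dualOk codeCert.bs codeCert.ds = true ∧
    ((List.finRange 11).all fun k => inM0 (codeCert.bs.getD k.val 0)) = true := by
  decide +kernel

theorem code_fixes : FixesCode0 codeCert.bs codeCert.ds := by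
  unfold FixesCode0
  decide +kernel

theorem cocode_ok : dualOk cocodeCert.bs cocodeCert.ds = true ∧
    ((List.finRange 11).all fun k => inM0 (cocodeCert.ds.getD k.val 0)) = true := by
  decide +kernel

theorem cocode_fixes : FixesCode0 cocodeCert.ds cocodeCert.bs := by
  unfold FixesCode0
  decide +kernel

theorem codeCert_ok : codeCert.okPerm = true ∧ codeCert.okTab = true ∧ codeCert.okNF = true ∧
    codeCert.okLin = true ∧ codeCert.extra = [] :=
  ⟨by decide +kernel, by decide +kernel, by decide +kernel, by decide +kernel, rfl⟩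

theorem cocodeCert_ok : cocodeCert.okPerm = true ∧ cocodeCert.okTab = true ∧
    cocodeCert.okNF = true ∧ cocodeCert.okLin = true :=
  ⟨by decide +kernel, by decide +kernel, by decide +kernel, by decide +kernel⟩

/-- The only extra row. -/
def cocodeExtra : ℕ := cocodeCert.extra.getD 0 0

theorem cocodeExtra_spec : cocodeCert.extra = [cocodeExtra] ∧
    ∀ c : Fin 11, c ≠ 0 → blk cocodeExtra c.val = 0 := by decide +kernel

variable {E : Type*} [Group E] (N : Subgroup E) [N.Normal] (φ : E ⧸ N ≃* ↥Spor.M23)

/-- The permutation of an element. -/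
def projM23 : E →* Equiv.Perm GolayPt :=
  Spor.M23.subtype.comp (φ.toMonoidHom.comp (QuotientGroup.mk' N))

theorem projM23_eq_one (x : E) : projM23 N φ x = 1 ↔ x ∈ N := by
  show ((φ (QuotientGroup.mk x) : Spor.M23) : Equiv.Perm GolayPt) = 1 ↔ _
  rw [OneMemClass.coe_eq_one, map_eq_one_iff _ φ.injective, QuotientGroup.eq_one_iff]

theorem projM23_ker : (projM23 N φ).ker = N := Subgroup.ext fun x => projM23_eq_one N φ x

theorem projM23_range (σ : Equiv.Perm GolayPt) : (∃ x, projM23 N φ x = σ) ↔ σ ∈ Spor.M23 := by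
  constructor
  · rintro ⟨x, rfl⟩; exact (φ (QuotientGroup.mk x)).2
  · intro h
    obtain ⟨q, hq⟩ := φ.surjective ⟨σ, h⟩
    obtain ⟨x, rfl⟩ := QuotientGroup.mk_surjective q
    exact ⟨x, congrArg Subtype.val hq⟩

theorem code_word_mem (v : V) : wordL codeCert.bs v ∈ code0 := by
  have h : ∀ k : Fin 11, wordOf (codeCert.bs.getD k.val 0) ∈ code0 := fun k =>
    mem_code0_of_inM0 (List.all_eq_true.1 code_ok.2 k (List.mem_finRange k))
  refine sum_mem fun k _ => ?_
  rcases zmod2_cases (v k) with e | e <;> rw [e]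
  · rw [zero_smul]; exact zero_mem _
  · rw [one_smul]; exact h k

/-- An extension by the code module as a setup. -/
def codeSetup (ψ : Additive ↥N →+ W) (hinj : Function.Injective ψ)
    (hrange : ∀ w : W, w ∈ Set.range ψ ↔ (w ∈ golayCode ∧ w none = 0))
    (hψ : ∀ (g : E) (n : ↥N), ψ (Additive.ofMul ⟨g * n * g⁻¹, ‹N.Normal›.conj_mem n n.2 g⟩) =
      ψ (Additive.ofMul n) ∘ ⇑(((φ (QuotientGroup.mk g) : ↥Spor.M23) : Equiv.Perm GolayPt)⁻¹)) :
    Setup E codeCert.bs codeCert.ds where
  ι v := ((Classical.choose ((hrange _).2 (code_word_mem v))).toMul : E)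
  map_add u v := by
    rw [← Subgroup.coe_mul, ← toMul_add]
    refine congrArg (fun a : Additive ↥N => (a.toMul : E)) (hinj ?_)
    rw [map_add, Classical.choose_spec ((hrange _).2 (code_word_mem (u + v))),
      Classical.choose_spec ((hrange _).2 (code_word_mem u)),
      Classical.choose_spec ((hrange _).2 (code_word_mem v)), wordL_add]
  inj u v h := by
    have h' : wordL codeCert.bs u = wordL codeCert.bs v := by
      rw [← Classical.choose_spec ((hrange _).2 (code_word_mem u)),
        ← Classical.choose_spec ((hrange _).2 (code_word_mem v))]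
      exact congrArg ψ (Additive.toMul.injective (Subtype.ext h))
    rw [← coord_word code_ok.1 u, h', coord_word code_ok.1 v]
  π := projM23 N φ
  ker x := by
    rw [projM23_eq_one]
    refine ⟨fun hx => ?_, fun ⟨v, hv⟩ => hv ▸ SetLike.coe_mem _⟩
    obtain ⟨h1, h2⟩ := (hrange _).1 ⟨Additive.ofMul ⟨x, hx⟩, rfl⟩
    refine ⟨coordP codeCert.ds (ψ (Additive.ofMul ⟨x, hx⟩)), ?_⟩
    refine congrArg (fun a : Additive ↥N => (a.toMul : E))
      (hinj (a₂ := Additive.ofMul ⟨x, hx⟩) ?_)
    rw [Classical.choose_spec ((hrange _).2 (code_word_mem _)), wordL_coord code_fixes h1 h2]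
  range := projM23_range N φ
  conj x v := by
    refine mul_inv_eq_iff_eq_mul.1 ?_
    symm
    show _ = x * ((Classical.choose ((hrange _).2 (code_word_mem v))).toMul : E) * x⁻¹
    have hσ : projM23 N φ x ∈ Spor.M23 := (projM23_range N φ _).1 ⟨x, rfl⟩
    refine congrArg (fun a : Additive ↥N => (a.toMul : E))
      (hinj (a₂ := Additive.ofMul ⟨_, ‹N.Normal›.conj_mem _
        (Classical.choose ((hrange _).2 (code_word_mem v))).toMul.2 x⟩) ?_)
    rw [hψ, Classical.choose_spec ((hrange _).2 (code_word_mem _)), ofMul_toMul,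
      Classical.choose_spec ((hrange _).2 (code_word_mem v))]
    exact wordL_coord code_fixes (act_mem (m23_le hσ) (code_word_mem v).1)
      ((act_none hσ _).trans (code_word_mem v).2)

theorem cocode_ker_iff (w : W) : (w ∈ golayCode ∨ w + Pi.single none 1 ∈ golayCode) ↔
    coordP cocodeCert.ds w = 0 := by
  rw [← thetaHom_eq_zero]
  have h1 : thetaHom w = 0 ↔ ∀ x : code0, dot w x.1 = 0 := by
    rw [← tau_eq_one]
    exact ⟨fun h => Additive.ofMul.injective h, fun h => congrArg Additive.ofMul h⟩
  rw [h1]
  constructor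
  · intro h
    funext j
    exact (dot_comm _ w).trans
      (h ⟨_, mem_code0_of_inM0 (List.all_eq_true.1 cocode_ok.2 j (List.mem_finRange j))⟩)
  · intro h x
    have e := wordL_coord cocode_fixes x.2.1 x.2.2
    rw [← e]
    show dotLin w (∑ k : Fin 11, _) = 0
    rw [map_sum]
    refine Finset.sum_eq_zero fun k _ => ?_
    rw [map_smul]
    have := (dot_comm w (wordOf (cocodeCert.ds.getD k.val 0))).trans (congrFun h k)
    show _ • dot w _ = 0
    rw [this, Pi.zero_apply, smul_zero]

theorem add_self_W (w : W) : w + w = 0 := funext fun p => CharTwo.add_self_eq_zero (w p)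

theorem theta_coord {A : Type*} [AddGroup A] (θ : W →+ A)
    (hker : ∀ w : W, θ w = 0 ↔ (w ∈ golayCode ∨ w + Pi.single none 1 ∈ golayCode)) (w : W) :
    θ (wordL cocodeCert.bs (coordP cocodeCert.ds w)) = θ w := by
  have h1 : θ (wordL cocodeCert.bs (coordP cocodeCert.ds w) + w) = 0 := by
    rw [hker, cocode_ker_iff]
    funext j
    show dotLin (wordOf (cocodeCert.ds.getD j.val 0)) (_ + _) = 0
    rw [map_add]
    have := congrFun (coord_word cocode_ok.1 (coordP cocodeCert.ds w)) j
    rw [show dotLin (wordOf (cocodeCert.ds.getD j.val 0))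
      (wordL cocodeCert.bs (coordP cocodeCert.ds w)) = _ from this]
    exact CharTwo.add_self_eq_zero _
  have h2 : θ w + θ w = 0 := by rw [← map_add, add_self_W, map_zero]
  rw [map_add] at h1
  exact (eq_neg_of_add_eq_zero_left h1).trans (neg_eq_of_add_eq_zero_left h2)

/-- An extension by the cocode module as a setup. -/
def cocodeSetup (θ : W →+ Additive ↥N) (hsurj : Function.Surjective θ)
    (hker : ∀ w : W, θ w = 0 ↔ (w ∈ golayCode ∨ w + Pi.single none 1 ∈ golayCode))
    (hθ : ∀ (g : E) (w : W),
      ((θ (w ∘ ⇑(((φ (QuotientGroup.mk g) : ↥Spor.M23) : Equiv.Perm GolayPt)⁻¹))).toMul : E)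
        = g * ((θ w).toMul : E) * g⁻¹) :
    Setup E cocodeCert.bs cocodeCert.ds where
  ι v := ((θ (wordL cocodeCert.bs v)).toMul : E)
  map_add u v := by rw [wordL_add, map_add, toMul_add, Subgroup.coe_mul]
  inj u v h := by
    have h' : θ (wordL cocodeCert.bs u + wordL cocodeCert.bs v) = 0 := by
      have e : θ (wordL cocodeCert.bs u) = θ (wordL cocodeCert.bs v) :=
        Additive.toMul.injective (Subtype.ext h)
      rw [map_add, e, ← map_add, add_self_W, map_zero]
    rw [hker, cocode_ker_iff, ← wordL_add, coord_word cocode_ok.1] at h'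
    exact funext fun c => CharTwo.add_eq_zero.1 (congrFun h' c)
  π := projM23 N φ
  ker x := by
    rw [projM23_eq_one]
    refine ⟨fun hx => ?_, fun ⟨v, hv⟩ => hv ▸ SetLike.coe_mem _⟩
    obtain ⟨w, hw⟩ := hsurj (Additive.ofMul ⟨x, hx⟩)
    refine ⟨coordP cocodeCert.ds w, ?_⟩
    show ((θ (wordL _ _)).toMul : E) = _
    rw [theta_coord θ hker, hw]
    rfl
  range := projM23_range N φ
  conj x v := by
    show _ = ((θ (wordL cocodeCert.bs (coordP cocodeCert.ds _))).toMul : E) * x
    rw [theta_coord θ hker]
    show _ = ((θ (wordL cocodeCert.bs v ∘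
      ⇑(((φ (QuotientGroup.mk x) : ↥Spor.M23) : Equiv.Perm GolayPt)⁻¹))).toMul : E) * x
    rw [hθ, inv_mul_cancel_right]

end

end Cfsg.Agent.ExtCert
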