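import Cfsg.Agent.S1093
import Cfsg.Agent.Lib.Forms.SpSimple
import Cfsg.Agent.Lib.Forms.SpOrder

/-!
`Sp₆(2)` as the Coxeter group `W(E₇)` modulo its longest element, and the consequence for groups
generated by lifts of the seven transvections.
-/

set_option autoImplicit false

namespace Cfsg.Agent.ExtCert.SpSix

open Cfsg.Agent.FormsLib

local notation "Vec" => Fin 3 ⊕ Fin 3 → ZMod 2
local notation "F7" => FreeGroup (Fin 7)

/-- The isometry group. -/
abbrev G0 : Type := ↥(SpIso 3 (ZMod 2))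

theorem G0_card : Nat.card G0 = 1451520 := by
  rw [← Nat.card_congr (spEquiv 3 (ZMod 2)).toEquiv, card_symplecticGroup, ZMod.card]
  decide +kernel

theorem G0_perfect : commutator G0 = ⊤ :=
  commutator_spIso_eq_top (perfect_hyp (Or.inl le_rfl))

/-- A vector from its bits. -/
def bitVec (n : ℕ) : Vec :=
  Sum.elim (fun i => ((n / 2 ^ i.val % 2 : ℕ) : ZMod 2))
    (fun i => ((n / 2 ^ (i.val + 3) % 2 : ℕ) : ZMod 2))

/-- The seven root vectors. -/
def rootN (i : ℕ) : ℕ := ([49, 12, 8, 1, 10, 16, 6] : List ℕ).getD i 0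

/-- The form on bit codes. -/
def formN (x y : ℕ) : ℕ :=
  ((x / 8 % 2) * (y % 2) + (x % 2) * (y / 8 % 2) +
    (x / 16 % 2) * (y / 2 % 2) + (x / 2 % 2) * (y / 16 % 2) +
    (x / 32 % 2) * (y / 4 % 2) + (x / 4 % 2) * (y / 32 % 2)) % 2

/-- A transvection on bit codes. -/
def stepN (i x : ℕ) : ℕ := bif formN x (rootN i) == 1 then x ^^^ rootN i else x

/-- A word on bit codes. -/
def runN (w : List (Fin 7)) (x : ℕ) : ℕ := w.foldr (fun i y => stepN i.val y) x

/-- The generators. -/
noncomputable def sgen (i : Fin 7) : G0 := spTau (bitVec (rootN i.val)) 1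

/-- The map from the free group. -/
noncomputable def toG : F7 →* G0 := FreeGroup.lift sgen

theorem spB_two (u v : Vec) :
    spB 3 (ZMod 2) u v = ∑ i : Fin 3, (u (.inr i) * v (.inl i) - u (.inl i) * v (.inr i)) :=
  spB_expand u v

theorem sgen_apply (i : Fin 7) (u : Vec) :
    (sgen i).1 u = u +
      (∑ k : Fin 3, (u (.inr k) * bitVec (rootN i.val) (.inl k) -
        u (.inl k) * bitVec (rootN i.val) (.inr k))) • bitVec (rootN i.val) := by
  rw [sgen, coe_spTau, tau_apply, one_mul, spB_two]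

theorem sgen_bit_table : ∀ i : Fin 7, ∀ x : Fin 64,
    stepN i.val x.val < 64 ∧ ∀ a : Fin 3 ⊕ Fin 3,
      (bitVec x.val + (∑ k : Fin 3, (bitVec x.val (.inr k) * bitVec (rootN i.val) (.inl k) -
        bitVec x.val (.inl k) * bitVec (rootN i.val) (.inr k))) • bitVec (rootN i.val)) a =
      bitVec (stepN i.val x.val) a := by
  decide +kernel

theorem sgen_bit (i : Fin 7) {x : ℕ} (hx : x < 64) :
    stepN i.val x < 64 ∧ (sgen i).1 (bitVec x) = bitVec (stepN i.val x) :=
  ⟨(sgen_bit_table i ⟨x, hx⟩).1, by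
    rw [sgen_apply]; exact funext (sgen_bit_table i ⟨x, hx⟩).2⟩

theorem bitVec_surj : ∀ u : Vec, ∃ x : Fin 64, bitVec x.val = u := by decide +kernel

theorem run_bit : ∀ (w : List (Fin 7)) {x : ℕ}, x < 64 →
    runN w x < 64 ∧ ((w.map sgen).prod).1 (bitVec x) = bitVec (runN w x)
  | [], x, hx => ⟨hx, rfl⟩
  | i :: w, x, hx => by
    obtain ⟨h1, h2⟩ := run_bit w hx
    obtain ⟨h3, h4⟩ := sgen_bit i h1
    refine ⟨h3, ?_⟩
    rw [List.map_cons, List.prod_cons]
    show (sgen i).1 (((w.map sgen).prod).1 (bitVec x)) = _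
    rw [h2, h4]
    rfl

/-- Words carrying the first root to every nonzero vector. -/
def pathW : List (List (Fin 7)) :=
  [[],
  [2,3,0,2],
  [5,6,4,5,3,4,1,3,0,2],
  [4,3,0,2],
  [0,2,3,4,5,6,1,3,4,5,2,3,4,1,3,2],
  [1,3,0,2],
  [5,6,4,5,3,4,2,3,0,2],
  [4,2,1,3,0,2],
  [0,2],
  [3,0,2],
  [3,4,2,3,0,2],
  [4,2,3,0,2],
  [3,2,1,3,0,2],
  [2,1,3,0,2],
  [3,4,1,3,0,2],
  [4,1,3,0,2],
  [4,5,3,4,2,3,0,2],
  [6,5,4,2,1,3,0,2],
  [6,4,5,3,4,1,3,0,2],
  [5,4,3,0,2],
  [4,5,3,4,1,3,0,2],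
  [6,5,4,3,0,2],
  [6,4,5,3,4,2,3,0,2],
  [5,4,2,1,3,0,2],
  [6,5,3,4,1,3,0,2],
  [6,5,4,1,3,0,2],
  [5,3,4,2,3,0,2],
  [5,4,2,3,0,2],
  [6,5,3,4,2,3,0,2],
  [6,5,4,2,3,0,2],
  [5,3,4,1,3,0,2],
  [5,4,1,3,0,2],
  [1,3,4,5,2,3,4,1,3,2],
  [6,5,2,3,4,1,3,2],
  [5,4,3,2],
  [6,4,5,3,4,1,3,2],
  [6,5,4,3,2],
  [4,5,3,4,1,3,2],
  [6,1,3,4,5,2,3,4,1,3,2],
  [5,2,3,4,1,3,2],
  [6,5,4,1,3,2],
  [6,5,3,4,1,3,2],
  [6,3,4,5,2,3,4,1,3,2],
  [6,4,5,2,3,4,1,3,2],
  [3,4,5,2,3,4,1,3,2],
  [4,5,2,3,4,1,3,2],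
  [5,4,1,3,2],
  [5,3,4,1,3,2],
  [4,5,6,3,4,5,2,3,4,1,3,2],
  [],
  [4,3,2],
  [5,6,4,5,3,4,1,3,2],
  [1,3,2],
  [2,3,4,5,6,1,3,4,5,2,3,4,1,3,2],
  [5,6,1,3,4,5,2,3,4,1,3,2],
  [2,3,4,1,3,2],
  [3,2],
  [2],
  [5,6,3,4,5,2,3,4,1,3,2],
  [5,6,4,5,2,3,4,1,3,2],
  [4,5,6,1,3,4,5,2,3,4,1,3,2],
  [3,4,5,6,1,3,4,5,2,3,4,1,3,2],
  [4,1,3,2],
  [3,4,1,3,2]]

theorem path_ok : ∀ x : Fin 64, x.val = 0 ∨ runN (pathW.getD x.val []) (rootN 0) = x.val := by
  decide +kernel

theorem sgen_mem_closure : Subgroup.closure (Set.range sgen) = (⊤ : Subgroup G0) := by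
  rw [eq_top_iff, ← closure_spTau, Subgroup.closure_le]
  rintro g ⟨u, c, rfl⟩
  have hc : c = 0 ∨ c = 1 := by revert c; decide
  rcases hc with rfl | rfl
  · rw [spTau_zero]; exact one_mem _
  obtain ⟨x, rfl⟩ := bitVec_surj u
  rcases path_ok x with hx | hx
  · have h0 : bitVec x.val = 0 := by rw [hx]; funext a; cases a <;> simp [bitVec]
    rw [h0, spTau_zero_vec]; exact one_mem _
  · have h := (run_bit (pathW.getD x.val []) (x := rootN 0) (by decide)).2
    rw [hx] at h
    rw [← h, ← spTau_conj]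
    have hm : ((pathW.getD x.val []).map sgen).prod ∈ Subgroup.closure (Set.range sgen) :=
      list_prod_mem fun y hy => by
        obtain ⟨k, -, rfl⟩ := List.mem_map.1 hy
        exact Subgroup.subset_closure ⟨k, rfl⟩
    exact mul_mem (mul_mem hm (Subgroup.subset_closure ⟨0, rfl⟩)) (inv_mem hm)

theorem toG_surjective : Function.Surjective toG := by
  rw [← MonoidHom.range_eq_top, toG, FreeGroup.range_lift_eq_closure, sgen_mem_closure]

theorem toG_mk (w : List (Fin 7)) : toG ((w.map FreeGroup.of).prod) = (w.map sgen).prod := by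
  rw [map_list_prod, List.map_map]
  congr 1

theorem word_eq_one {w : List (Fin 7)} (h : ∀ x : Fin 64, runN w x.val = x.val) :
    (w.map sgen).prod = 1 := by
  refine Subtype.ext (LinearEquiv.ext fun u => ?_)
  obtain ⟨x, rfl⟩ := bitVec_surj u
  rw [(run_bit w x.isLt).2, h x]
  rfl

/-- The label of a pair of nodes. -/
def lab (i j : Fin 7) : ℕ := CoxeterMatrix.E₇.M i j

/-- The Coxeter relations as words. -/
def relW (i j : Fin 7) : List (Fin 7) := (List.replicate (lab i j) [i, j]).flatten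

theorem relW_ok : ∀ i j : Fin 7, ∀ x : Fin 64, runN (relW i j) x.val = x.val := by decide +kernel

theorem prod_relW {M : Type*} [Monoid M] (g : Fin 7 → M) (i j : Fin 7) :
    ((relW i j).map g).prod = (g i * g j) ^ lab i j := by
  rw [relW]
  induction lab i j with
  | zero => simp
  | succ m ih => simp [List.replicate_succ, ih, pow_succ', mul_assoc]

theorem sgen_rel (i j : Fin 7) : (sgen i * sgen j) ^ lab i j = 1 := by
  rw [← prod_relW]; exact word_eq_one (relW_ok i j)

/-- The Coxeter group. -/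
abbrev W7 : Type := PresentedGroup CoxeterMatrix.E₇.relationsSet

/-- The projection to the Coxeter group. -/
def toW : F7 →* W7 := PresentedGroup.mk _

/-- The map to the symplectic group. -/
noncomputable def wToG : W7 →* G0 :=
  PresentedGroup.toGroup (f := sgen) (by
    rintro r ⟨⟨i, j⟩, rfl⟩
    rw [Function.uncurry_apply_pair, CoxeterMatrix.relation, map_pow, map_mul,
      FreeGroup.lift_apply_of, FreeGroup.lift_apply_of]
    exact sgen_rel i j)

theorem wToG_toW (w : F7) : wToG (toW w) = toG w := by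
  suffices h : wToG.comp toW = toG from DFunLike.congr_fun h w
  refine FreeGroup.ext_hom _ _ fun i => ?_
  show wToG (PresentedGroup.of i) = toG (FreeGroup.of i)
  rw [wToG, PresentedGroup.toGroup.of, toG, FreeGroup.lift_apply_of]

/-- The length as a homomorphism to the integers. -/
def degF : F7 →* Multiplicative ℤ := FreeGroup.lift fun _ => Multiplicative.ofAdd 1

/-- The sign of the Coxeter group. -/
def sgnW : W7 →* Multiplicative (ZMod 2) :=
  PresentedGroup.toGroup (f := fun _ => Multiplicative.ofAdd 1) (by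
    rintro r ⟨⟨i, j⟩, rfl⟩
    rw [Function.uncurry_apply_pair, CoxeterMatrix.relation, map_pow, map_mul,
      FreeGroup.lift_apply_of, FreeGroup.lift_apply_of,
      show Multiplicative.ofAdd (1 : ZMod 2) * Multiplicative.ofAdd 1 = 1 from rfl, one_pow])

theorem sgnW_toW (w : F7) :
    sgnW (toW w) = AddMonoidHom.toMultiplicative (Int.castAddHom (ZMod 2)) (degF w) := by
  suffices h : sgnW.comp toW = (AddMonoidHom.toMultiplicative (Int.castAddHom (ZMod 2))).comp degF
    from DFunLike.congr_fun h w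
  refine FreeGroup.ext_hom _ _ fun i => ?_
  show sgnW (PresentedGroup.of i) = AddMonoidHom.toMultiplicative _ (degF (FreeGroup.of i))
  rw [sgnW, PresentedGroup.toGroup.of, degF, FreeGroup.lift_apply_of]
  rfl

/-- The longest element as a word. -/
def longW : List (Fin 7) := (List.replicate 9 (List.finRange 7)).flatten

theorem longW_ok : ∀ x : Fin 64, runN longW x.val = x.val := by decide +kernel

/-- An element of the free group on which the map to the symplectic group is trivial and whose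
length vanishes becomes trivial in the Coxeter group. -/
theorem toW_eq_one {w : F7} (hw : toG w = 1) (hd : degF w = 1) : toW w = 1 := by
  have hsurj : Function.Surjective wToG := fun g => by
    obtain ⟨w, rfl⟩ := toG_surjective g
    exact ⟨toW w, wToG_toW w⟩
  have hW : Nat.card W7 = 2903040 :=
    Cfsg.Agent.S1093.result (⟨7, CoxeterMatrix.E₇⟩, 2903040) (by simp)
  haveI : Finite W7 := Nat.finite_of_card_ne_zero (by omega)
  have hk : Nat.card wToG.ker = 2 := by
    have h := Subgroup.card_mul_index wToG.ker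
    rw [Subgroup.index_ker, MonoidHom.range_eq_top.2 hsurj, Subgroup.card_top, G0_card, hW,
      show (2903040 : ℕ) = 2 * 1451520 from rfl] at h
    exact Nat.eq_of_mul_eq_mul_right (by norm_num) h
  let w0 : F7 := (longW.map FreeGroup.of).prod
  have h0 : toW w0 ∈ wToG.ker := by
    rw [MonoidHom.mem_ker, wToG_toW, toG_mk, word_eq_one longW_ok]
  have hs0 : sgnW (toW w0) ≠ 1 := by
    rw [sgnW_toW, degF, map_list_prod, List.map_map]
    simp only [List.map_congr_left (g := fun _ => Multiplicative.ofAdd (1 : ℤ))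
      (f := (FreeGroup.lift fun _ : Fin 7 => Multiplicative.ofAdd (1 : ℤ)) ∘ FreeGroup.of)
      (l := longW) fun i _ => FreeGroup.lift_apply_of]
    decide +kernel
  by_contra hne
  have hwk : toW w ∈ wToG.ker := by rw [MonoidHom.mem_ker, wToG_toW, hw]
  have hs : sgnW (toW w) = 1 := by rw [sgnW_toW, hd, map_one]
  haveI : Finite wToG.ker := inferInstance
  classical
  haveI := Fintype.ofFinite wToG.ker
  have h3 : ({(1 : wToG.ker), ⟨toW w, hwk⟩, ⟨toW w0, h0⟩} : Finset wToG.ker).card = 3 := by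
    rw [Finset.card_insert_of_notMem, Finset.card_pair]
    · intro e
      exact hs0 (by rw [← show toW w = toW w0 from congrArg Subtype.val e, hs])
    · simp only [Finset.mem_insert, Finset.mem_singleton, not_or]
      refine ⟨fun e => hne (congrArg Subtype.val e).symm, fun e => hs0 ?_⟩
      rw [← show (1 : W7) = toW w0 from congrArg Subtype.val e, map_one]
  have hle := Finset.card_le_univ ({(1 : wToG.ker), ⟨toW w, hwk⟩, ⟨toW w0, h0⟩} : Finset wToG.ker)
  rw [h3, ← Nat.card_eq_fintype_card, hk] at hle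
  omega

/-- In a group with elements satisfying the braid relations, with common central square and a
common central commutator of the orthogonal pairs, only powers of that commutator lie over the
identity with length zero. -/
theorem mem_zpowers_of_rels {E : Type*} [Group E] (t : Fin 7 → E) (a c : E)
    (ha : ∀ x, Commute a x) (hc : ∀ x, Commute c x) (hsq : ∀ i, t i * t i = a)
    (hbr : ∀ i j, lab i j = 3 → t i * t j * t i = t j * t i * t j)
    (hcm : ∀ i j, lab i j = 2 → t i * t j = c * (t j * t i))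
    {w : F7} (hw : toG w = 1) (hd : degF w = 1) : FreeGroup.lift t w ∈ Subgroup.zpowers c := by
  let φ := FreeGroup.lift t
  let N : Subgroup F7 :=
    { carrier := {v | ∃ k γ : ℤ, degF v = Multiplicative.ofAdd (2 * k) ∧ φ v = a ^ k * c ^ γ}
      one_mem' := ⟨0, 0, by simp, by simp⟩
      mul_mem' := by
        rintro u v ⟨k, γ, h1, h2⟩ ⟨k', γ', h1', h2'⟩
        refine ⟨k + k', γ + γ', by rw [map_mul, h1, h1', ← ofAdd_add, mul_add], ?_⟩
        rw [map_mul, h2, h2', zpow_add, zpow_add]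
        simp only [mul_assoc]
        rw [← mul_assoc (c ^ γ), ((hc (a ^ k')).zpow_left γ).eq, mul_assoc]
      inv_mem' := by
        rintro u ⟨k, γ, h1, h2⟩
        refine ⟨-k, -γ, by rw [map_inv, h1, ← ofAdd_neg, mul_neg], ?_⟩
        rw [map_inv, h2, mul_inv_rev, zpow_neg, zpow_neg]
        exact ((((hc (a ^ k)).zpow_left γ).inv_left).inv_right).eq }
  haveI : N.Normal := ⟨by
    rintro v ⟨k, γ, h1, h2⟩ g
    refine ⟨k, γ, by rw [map_mul, map_mul, map_inv, h1, mul_comm (degF g), mul_inv_cancel_right], ?_⟩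
    have hcom : Commute (a ^ k * c ^ γ) (φ g) :=
      ((ha _).zpow_left k).mul_left ((hc _).zpow_left γ)
    rw [map_mul, map_mul, map_inv, h2, ← hcom.eq, mul_inv_cancel_right]⟩
  have hlab : ∀ i j, (lab i j = 1 ∧ i = j) ∨ lab i j = 2 ∨ lab i j = 3 := by decide
  have hrel : CoxeterMatrix.E₇.relationsSet ⊆ N := by
    rintro r ⟨⟨i, j⟩, rfl⟩
    show ∃ k γ : ℤ, degF _ = _ ∧ φ _ = _
    rw [Function.uncurry_apply_pair, CoxeterMatrix.relation, map_pow, map_pow, map_mul, map_mul,
      degF, FreeGroup.lift_apply_of, FreeGroup.lift_apply_of, show φ (FreeGroup.of i) = t i from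
      FreeGroup.lift_apply_of, show φ (FreeGroup.of j) = t j from FreeGroup.lift_apply_of]
    rcases hlab i j with ⟨h, rfl⟩ | h | h
    · refine ⟨1, 0, ?_, ?_⟩
      · rw [show CoxeterMatrix.E₇ i i = 1 from h]; rfl
      · rw [show CoxeterMatrix.E₇ i i = 1 from h, hsq]; simp
    · refine ⟨2, 1, ?_, ?_⟩
      · rw [show CoxeterMatrix.E₇ i j = 2 from h]; rfl
      · rw [show CoxeterMatrix.E₇ i j = 2 from h, pow_two, zpow_one]
        calc t i * t j * (t i * t j) = c * (t j * t i) * (t i * t j) := by rw [← hcm i j h]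
          _ = c * (t j * (t i * t i) * t j) := by simp only [mul_assoc]
          _ = a ^ (2 : ℤ) * c := by
            rw [hsq, ← (ha (t j)).eq, mul_assoc, hsq, (hc _).eq, zpow_two]
    · refine ⟨3, 0, ?_, ?_⟩
      · rw [show CoxeterMatrix.E₇ i j = 3 from h]; rfl
      · rw [show CoxeterMatrix.E₇ i j = 3 from h, zpow_zero, mul_one]
        calc (t i * t j) ^ 3 = t i * t j * t i * (t j * t i * t j) := by
              simp only [pow_succ, pow_zero, one_mul, mul_assoc]
          _ = t i * t j * t i * (t i * t j * t i) := by rw [hbr i j h]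
          _ = t i * t j * (t i * t i) * t j * t i := by simp only [mul_assoc]
          _ = a * (t i * (t j * t j) * t i) := by
            rw [hsq, ← (ha _).eq]; simp only [mul_assoc]
          _ = a * (a * (t i * t i)) := by rw [hsq j, ← (ha (t i)).eq, mul_assoc]
          _ = a ^ (3 : ℤ) := by rw [hsq, show (3 : ℤ) = ((3 : ℕ) : ℤ) from rfl, zpow_natCast]; simp [pow_succ, mul_assoc]
  have hwN : w ∈ N := by
    refine Subgroup.normalClosure_le_normal hrel ?_
    exact (QuotientGroup.eq_one_iff w).1 (toW_eq_one hw hd)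
  obtain ⟨k, γ, h1, h2⟩ := hwN
  rw [hd] at h1
  obtain rfl : k = 0 := by
    have h : (0 : ℤ) = 2 * k := congrArg Multiplicative.toAdd h1
    omega
  exact ⟨γ, by rw [zpow_zero, one_mul] at h2; exact h2.symm⟩

end Cfsg.Agent.ExtCert.SpSix
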