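import Cfsg.Agent.Lib.ExtCert.SpSixCore
import Cfsg.Prelude.Def_KGroupFacts

/-!
The multiplier of `Sp₆(2)` is cyclic of order two: lifts of transvections give the bound, units
of a Clifford algebra give the cover.
-/

set_option autoImplicit false

namespace Cfsg.Agent.ExtCert.SpSix

open Cfsg Cfsg.Agent.FormsLib
open scoped commutatorElement

local notation "F7" => FreeGroup (Fin 7)

theorem lab_self : ∀ i, lab i i = 1 := by decide

section Bound

variable {Γ : Type*} [Group Γ] {σ : Γ →* G0}

theorem central_of_ker (hc : σ.ker ≤ Subgroup.center Γ) {z : Γ} (hz : σ z = 1) (x : Γ) :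
    Commute z x := (Subgroup.mem_center_iff.1 (hc hz) x).symm

/-- Change a lift so that the braid relation with its neighbour holds. -/
def braidFix (p u : Γ) : Γ := u * ((u * p * u)⁻¹ * (p * u * p))

theorem braidFix_spec (hc : σ.ker ≤ Subgroup.center Γ) {p u : Γ} {i j : Fin 7}
    (hp : σ p = sgen i) (hu : σ u = sgen j) (hlab : lab j i = 3) :
    σ (braidFix p u) = sgen j ∧
      braidFix p u * p * braidFix p u = p * braidFix p u * p := by
  have hs : ∀ k, sgen k * sgen k = 1 := fun k => by
    have h := sgen_rel k k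
    rwa [lab_self k, pow_one] at h
  have hbraid : sgen j * sgen i * sgen j = sgen i * sgen j * sgen i := by
    have h := sgen_rel j i
    rw [hlab, pow_succ, pow_succ, pow_one] at h
    have h' : sgen j * sgen i * sgen j * (sgen i * sgen j * sgen i) = 1 := by
      simpa only [mul_assoc] using h
    rw [eq_inv_of_mul_eq_one_left h', mul_inv_rev, mul_inv_rev,
      ← eq_inv_of_mul_eq_one_left (hs i), ← eq_inv_of_mul_eq_one_left (hs j)]
    simp only [mul_assoc]
  have hd : σ ((u * p * u)⁻¹ * (p * u * p)) = 1 := by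
    rw [map_mul, map_inv, map_mul, map_mul, map_mul, map_mul, hp, hu, hbraid, inv_mul_cancel]
  refine ⟨by rw [braidFix, map_mul, hd, hu, mul_one], ?_⟩
  generalize hz : (u * p * u)⁻¹ * (p * u * p) = z at hd
  have hz' : u * p * u * z = p * u * p := by rw [← hz, mul_inv_cancel_left]
  have hcz := central_of_ker hc hd
  rw [braidFix, hz]
  calc u * z * p * (u * z) = u * p * u * z * z := by
        rw [mul_assoc u z p, (hcz p).eq, ← mul_assoc u p z, mul_assoc (u * p) z (u * z),
          (hcz (u * z)).eq]
        simp only [mul_assoc]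
    _ = p * u * p * z := by rw [hz']
    _ = p * (u * z) * p := by rw [mul_assoc (p * u), ← (hcz p).eq]; simp only [mul_assoc]

theorem exists_lifts (hσ : Function.Surjective σ) (hc : σ.ker ≤ Subgroup.center Γ) :
    ∃ (t : Fin 7 → Γ) (a c : Γ), (∀ i, σ (t i) = sgen i) ∧ (∀ x, Commute a x) ∧
      (∀ x, Commute c x) ∧ c * c = 1 ∧ σ c = 1 ∧ (∀ i, t i * t i = a) ∧
      (∀ i j, lab i j = 3 → t i * t j * t i = t j * t i * t j) ∧
      (∀ i j, lab i j = 2 → t i * t j = c * (t j * t i)) := by
  choose u hu using fun i => hσ (sgen i)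
  obtain ⟨m1, b1⟩ := braidFix_spec hc (hu 3) (hu 1) (by decide)
  obtain ⟨m2, b2⟩ := braidFix_spec hc (hu 3) (hu 2) (by decide)
  obtain ⟨m4, b4⟩ := braidFix_spec hc (hu 3) (hu 4) (by decide)
  obtain ⟨m0, b0⟩ := braidFix_spec hc m2 (hu 0) (by decide)
  obtain ⟨m5, b5⟩ := braidFix_spec hc m4 (hu 5) (by decide)
  obtain ⟨m6, b6⟩ := braidFix_spec hc m5 (hu 6) (by decide)
  let t : Fin 7 → Γ := ![braidFix (braidFix (u 3) (u 2)) (u 0), braidFix (u 3) (u 1),
    braidFix (u 3) (u 2), u 3, braidFix (u 3) (u 4), braidFix (braidFix (u 3) (u 4)) (u 5),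
    braidFix (braidFix (braidFix (u 3) (u 4)) (u 5)) (u 6)]
  have ht : ∀ i, σ (t i) = sgen i := by
    intro i; fin_cases i
    · exact m0
    · exact m1
    · exact m2
    · exact hu 3
    · exact m4
    · exact m5
    · exact m6
  have hbr : ∀ i j, lab i j = 3 → t i * t j * t i = t j * t i * t j := by
    intro i j hij
    fin_cases i <;> fin_cases j <;> first
      | exact absurd hij (by decide)
      | exact b0 | exact b0.symm | exact b1 | exact b1.symm | exact b2 | exact b2.symm
      | exact b4 | exact b4.symm | exact b5 | exact b5.symm | exact b6 | exact b6.symm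
  have hsq1 : ∀ i, σ (t i * t i) = 1 := fun i => by
    rw [map_mul, ht]
    have h := sgen_rel i i
    rwa [lab_self i, pow_one] at h
  have hsqc : ∀ i, ∀ x, Commute (t i * t i) x := fun i => central_of_ker hc (hsq1 i)
  have hsqe : ∀ i j, lab i j = 3 → t j * t j = t i * t i := by
    intro i j hij
    have h1 : (t i * t j) * t i = t j * (t i * t j) := by rw [hbr i j hij, mul_assoc]
    have h2 : t j * t j * (t i * t j) = t i * t i * (t i * t j) := by
      calc t j * t j * (t i * t j) = t j * (t j * (t i * t j)) := mul_assoc _ _ _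
        _ = t i * t j * (t i * t i) := by rw [← h1, ← mul_assoc, ← h1, mul_assoc]
        _ = t i * t i * (t i * t j) := ((hsqc i) _).eq.symm
    exact mul_right_cancel h2
  have e2 := hsqe 3 2 (by decide)
  have e1 := hsqe 3 1 (by decide)
  have e4 := hsqe 3 4 (by decide)
  have e0 := (hsqe 2 0 (by decide)).trans e2
  have e5 := (hsqe 4 5 (by decide)).trans e4
  have e6 := (hsqe 5 6 (by decide)).trans e5
  have hsq : ∀ i, t i * t i = t 3 * t 3 := by
    intro i; fin_cases i
    · exact e0
    · exact e1
    · exact e2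
    · rfl
    · exact e4
    · exact e5
    · exact e6
  let c : Γ := t 0 * t 1 * (t 1 * t 0)⁻¹
  have hcomm : ∀ i j, lab i j = 2 → σ (t i * t j * (t j * t i)⁻¹) = 1 := by
    intro i j hij
    have hs : ∀ k, sgen k * sgen k = 1 := fun k => by rw [← ht, ← map_mul, hsq1]
    have h := sgen_rel i j
    rw [hij, pow_two] at h
    rw [map_mul, map_inv, map_mul, map_mul, ht, ht, mul_inv_rev,
      ← eq_inv_of_mul_eq_one_left (hs i), ← eq_inv_of_mul_eq_one_left (hs j)]
    exact h
  have hcc1 : σ c = 1 := hcomm 0 1 (by decide)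
  have hcc := central_of_ker hc hcc1
  have h01 : t 0 * t 1 = c * (t 1 * t 0) := by simp only [c, inv_mul_cancel_right]
  have hc2 : c * c = 1 := by
    have h1 : t 0 * t 0 * t 1 = c * c * (t 1 * (t 0 * t 0)) := by
      rw [mul_assoc, h01, ← mul_assoc (t 0) c, ← (hcc (t 0)).eq, mul_assoc c (t 0),
        ← mul_assoc (t 0) (t 1), h01]
      simp only [mul_assoc]
    rw [((hsqc 0) (t 1)).eq] at h1
    exact (mul_eq_right.1 h1.symm)
  have hmove : ∀ i j k, lab j k = 3 → lab i j = 2 → lab i k = 2 →
      t i * t j = c * (t j * t i) → t i * t k = c * (t k * t i) := by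
    intro i j k hjk hij hik hq
    have hg : (t j * t k) * t j = t k * (t j * t k) := by rw [hbr j k hjk, mul_assoc]
    generalize hγ : t i * t k * (t k * t i)⁻¹ = γ
    have hγc := central_of_ker hc (show σ γ = 1 from hγ ▸ hcomm i k hik)
    have hq2 : t i * t k = γ * (t k * t i) := by rw [← hγ, inv_mul_cancel_right]
    have hig : t i * (t j * t k) = c * γ * (t j * t k * t i) := by
      rw [← mul_assoc, hq, mul_assoc c, mul_assoc (t j) (t i), hq2, ← mul_assoc (t j) γ,
        ← (hγc (t j)).eq]
      simp only [mul_assoc]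
    have key : c * (c * γ * (t j * t k * t j * t i)) = γ * (c * γ * (t j * t k * t j * t i)) := by
      calc c * (c * γ * (t j * t k * t j * t i))
          = c * γ * (t j * t k) * (c * (t j * t i)) := by
            rw [← mul_assoc (c * γ * (t j * t k)) c, ← (hcc (c * γ * (t j * t k))).eq]
            simp only [mul_assoc]
        _ = t i * ((t j * t k) * t j) := by
            rw [← hq, ← mul_assoc (t i), hig]; simp only [mul_assoc]
        _ = γ * (t k * (t i * (t j * t k))) := by
            rw [hg, ← mul_assoc, hq2]; simp only [mul_assoc]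
        _ = γ * (c * γ * (t j * t k * t j * t i)) := by
            rw [hig, hg, ← mul_assoc (t k) (c * γ), ← ((hcc _).mul_left (hγc (t k))).eq]
            simp only [mul_assoc]
    rw [mul_right_cancel key, hq2]
  have hswap : ∀ i j, t i * t j = c * (t j * t i) → t j * t i = c * (t i * t j) := by
    intro i j h
    rw [h, ← mul_assoc, hc2, one_mul]
  obtain h03 := hmove 0 1 3 (by decide) (by decide) (by decide) h01
  obtain h10 := hswap 0 1 h01
  obtain h04 := hmove 0 3 4 (by decide) (by decide) (by decide) h03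
  obtain h30 := hswap 0 3 h03
  obtain h12 := hmove 1 0 2 (by decide) (by decide) (by decide) h10
  obtain h05 := hmove 0 4 5 (by decide) (by decide) (by decide) h04
  obtain h40 := hswap 0 4 h04
  obtain h21 := hswap 1 2 h12
  obtain h06 := hmove 0 5 6 (by decide) (by decide) (by decide) h05
  obtain h50 := hswap 0 5 h05
  obtain h42 := hmove 4 0 2 (by decide) (by decide) (by decide) h40
  obtain h60 := hswap 0 6 h06
  obtain h52 := hmove 5 0 2 (by decide) (by decide) (by decide) h50
  obtain h24 := hswap 4 2 h42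
  obtain h62 := hmove 6 0 2 (by decide) (by decide) (by decide) h60
  obtain h53 := hmove 5 2 3 (by decide) (by decide) (by decide) h52
  obtain h25 := hswap 5 2 h52
  obtain h63 := hmove 6 2 3 (by decide) (by decide) (by decide) h62
  obtain h26 := hswap 6 2 h62
  obtain h51 := hmove 5 3 1 (by decide) (by decide) (by decide) h53
  obtain h35 := hswap 5 3 h53
  obtain h61 := hmove 6 3 1 (by decide) (by decide) (by decide) h63
  obtain h64 := hmove 6 3 4 (by decide) (by decide) (by decide) h63
  obtain h36 := hswap 6 3 h63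
  obtain h15 := hswap 5 1 h51
  obtain h16 := hswap 6 1 h61
  obtain h46 := hswap 6 4 h64
  obtain h14 := hmove 1 5 4 (by decide) (by decide) (by decide) h15
  obtain h41 := hswap 1 4 h14
  refine ⟨t, t 3 * t 3, c, ht, hsqc 3, hcc, hc2, hcc1, hsq, hbr, ?_⟩
  intro i j hij
  fin_cases i <;> fin_cases j <;> first
    | exact absurd hij (by decide)
    | exact h01
    | exact h03
    | exact h04
    | exact h05
    | exact h06
    | exact h10
    | exact h12
    | exact h14
    | exact h15
    | exact h16
    | exact h21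
    | exact h24
    | exact h25
    | exact h26
    | exact h30
    | exact h35
    | exact h36
    | exact h40
    | exact h41
    | exact h42
    | exact h46
    | exact h50
    | exact h51
    | exact h52
    | exact h53
    | exact h60
    | exact h61
    | exact h62
    | exact h63
    | exact h64

theorem card_ker_dvd_two [Finite Γ] (hσ : IsStemExtension σ) : Nat.card σ.ker ∣ 2 := by
  obtain ⟨hsurj, hc, hd⟩ := hσ
  have htop : commutator Γ = ⊤ := by
    rw [eq_top_iff]
    intro x _
    have h : σ x ∈ (commutator Γ).map σ := by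
      rw [commutator_def, Subgroup.map_commutator, ← MonoidHom.range_eq_map,
        MonoidHom.range_eq_top.2 hsurj, ← commutator_def, G0_perfect]
      trivial
    obtain ⟨y, hy, he⟩ := h
    have hk : y⁻¹ * x ∈ σ.ker := by rw [MonoidHom.mem_ker, map_mul, map_inv, he, inv_mul_cancel]
    rw [← mul_inv_cancel_left y x]
    exact mul_mem hy (hd hk)
  obtain ⟨t, a, c, ht, ha, hcc, hc2, hc1, hsq, hbr, hcm⟩ := exists_lifts hsurj hc
  let φ := FreeGroup.lift t
  have hσφ : σ.comp φ = toG := FreeGroup.ext_hom _ _ fun i => by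
    show σ (φ (FreeGroup.of i)) = toG (FreeGroup.of i)
    rw [toG, FreeGroup.lift_apply_of, FreeGroup.lift_apply_of, ht]
  have hgen : ∀ x, ∃ w, x * (φ w)⁻¹ ∈ σ.ker := fun x => by
    obtain ⟨w, hw⟩ := toG_surjective (σ x)
    refine ⟨w, ?_⟩
    rw [MonoidHom.mem_ker, map_mul, map_inv, show σ (φ w) = toG w from DFunLike.congr_fun hσφ w,
      hw, mul_inv_cancel]
  have hle : commutator Γ ≤ (commutator F7).map φ := by
    rw [commutator_def, Subgroup.commutator_le]
    intro x _ y _
    obtain ⟨w, hw⟩ := hgen x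
    obtain ⟨v, hv⟩ := hgen y
    refine ⟨⁅w, v⁆, Subgroup.commutator_mem_commutator (Subgroup.mem_top _) (Subgroup.mem_top _), ?_⟩
    have hzx := Subgroup.mem_center_iff.1 (hc hw)
    have hzy := Subgroup.mem_center_iff.1 (hc hv)
    have e1 : x = (x * (φ w)⁻¹) * φ w := by group
    have e2 : y = (y * (φ v)⁻¹) * φ v := by group
    rw [map_commutatorElement]
    generalize x * (φ w)⁻¹ = z at e1 hzx
    generalize y * (φ v)⁻¹ = z' at e2 hzy
    subst e1 e2
    have cz : ∀ g, Commute z g := fun g => (hzx g).symm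
    have cz' : ∀ g, Commute z' g := fun g => (hzy g).symm
    rw [commutatorElement_def, commutatorElement_def]
    have A : z * φ w * (z' * φ v) * (z * φ w)⁻¹ = φ w * (z' * φ v) * (φ w)⁻¹ := by
      rw [mul_inv_rev, ← ((cz (φ w)⁻¹).inv_left).eq, mul_assoc z (φ w), (cz _).eq]; group
    have B : φ w * (z' * φ v) * (φ w)⁻¹ = z' * (φ w * φ v * (φ w)⁻¹) := by
      rw [← mul_assoc (φ w) z', ← (cz' (φ w)).eq]; group
    rw [A, B, mul_inv_rev, mul_assoc z', (cz' _).eq]; group
  have hker : σ.ker ≤ Subgroup.zpowers c := by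
    intro x hx
    obtain ⟨w, hw, rfl⟩ := hle (htop.ge (Subgroup.mem_top x))
    refine mem_zpowers_of_rels t a c ha hcc hsq hbr hcm ?_ ?_
    · rw [← hσφ]; exact hx
    · exact MonoidHom.mem_ker.1 (Abelianization.commutator_subset_ker degF hw)
  refine (Subgroup.card_dvd_of_le hker).trans ?_
  rw [Nat.card_zpowers]
  exact orderOf_dvd_of_pow_eq_one (by rw [pow_two, hc2])

end Bound

noncomputable section Cover

/-- The matrix of the quadratic form. -/
def formA : Matrix (Fin 7) (Fin 7) ℚ :=
  Matrix.of fun i j => if i = j then 1 else if i < j ∧ lab i j = 3 then -1 else 0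

/-- The quadratic form. -/
def qE7 : QuadraticForm ℚ (Fin 7 → ℚ) := (Matrix.toBilin' formA).toQuadraticMap

/-- The Clifford algebra. -/
abbrev Cl : Type := CliffordAlgebra qE7

/-- A root. -/
def root (i : Fin 7) : Cl := CliffordAlgebra.ι qE7 (Pi.single i 1)

theorem form_single (i j : Fin 7) :
    Matrix.toBilin' formA (Pi.single i 1) (Pi.single j 1) = formA i j :=
  Matrix.toBilin'_single formA i j

theorem root_sq (i : Fin 7) : root i * root i = 1 := by
  rw [root, CliffordAlgebra.ι_sq_scalar,
    show qE7 (Pi.single i 1) = formA i i from form_single i i, formA, Matrix.of_apply, if_pos rfl,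
    map_one]

theorem root_swap (i j : Fin 7) :
    root i * root j + root j * root i = algebraMap ℚ Cl (formA i j + formA j i) := by
  rw [root, root, CliffordAlgebra.ι_mul_ι_add_swap,
    show QuadraticMap.polar qE7 (Pi.single i 1) (Pi.single j 1) = _ from
      LinearMap.BilinMap.polar_toQuadraticMap _ _, form_single, form_single]

theorem root_anti {i j : Fin 7} (h : lab i j = 2) : root i * root j = -1 * (root j * root i) := by
  have hz : formA i j + formA j i = 0 := by
    have h1 : i ≠ j := by rintro rfl; revert h; revert i; decide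
    have h2 : lab j i ≠ 3 := by revert i j; decide
    simp [formA, h1, h1.symm, h2, h]
  rw [neg_one_mul, ← sub_eq_zero, sub_neg_eq_add, root_swap, hz, map_zero]

theorem root_braid {i j : Fin 7} (h : lab i j = 3) :
    root i * root j * root i = root j * root i * root j := by
  have hz : formA i j + formA j i = -1 := by
    have h1 : i ≠ j := by rintro rfl; revert h; revert i; decide
    have h2 : lab j i = 3 := by revert i j; decide
    rcases lt_or_gt_of_ne h1 with hlt | hlt <;>
      simp [formA, h1, h1.symm, h2, h, hlt, hlt.not_gt]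
  have e := root_swap i j
  rw [hz, map_neg, map_one] at e
  have e1 : root i * root j = -1 - root j * root i := eq_sub_of_add_eq e
  have e2 : root j * root i = -1 - root i * root j := eq_sub_of_add_eq' e
  calc root i * root j * root i = (-1 - root j * root i) * root i := by rw [← e1]
    _ = -root i - root j := by rw [sub_mul, mul_assoc, root_sq, mul_one, neg_one_mul]
    _ = (-1 - root i * root j) * root j := by
      rw [sub_mul, mul_assoc, root_sq, mul_one, neg_one_mul]; abel
    _ = root j * root i * root j := by rw [← e2]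

/-- A root as a unit. -/
def rootU (i : Fin 7) : Clˣ := ⟨root i, root i, root_sq i, root_sq i⟩

/-- The generators of the cover. -/
def tp (i : Fin 7) : G0 × Clˣ := (sgen i, rootU i)

/-- The map from the free group. -/
def toP : F7 →* G0 × Clˣ := FreeGroup.lift tp

/-- The central involution. -/
def negP : G0 × Clˣ := (1, -1)

/-- The cover. -/
abbrev coverSp : Subgroup (G0 × Clˣ) := (commutator F7).map toP

/-- The projection. -/
def coverSpProj : ↥coverSp →* G0 := (MonoidHom.fst G0 Clˣ).comp coverSp.subtype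

theorem fst_toP (w : F7) : (toP w).1 = toG w := by
  suffices h : (MonoidHom.fst G0 Clˣ).comp toP = toG from DFunLike.congr_fun h w
  refine FreeGroup.ext_hom _ _ fun i => ?_
  show (toP (FreeGroup.of i)).1 = toG (FreeGroup.of i)
  rw [toP, toG, FreeGroup.lift_apply_of, FreeGroup.lift_apply_of]
  rfl

theorem tp_sq (i : Fin 7) : tp i * tp i = 1 := by
  refine Prod.ext ?_ (Units.ext (root_sq i))
  have h := sgen_rel i i
  rwa [lab_self i, pow_one] at h

theorem sgen_inv (i : Fin 7) : (sgen i)⁻¹ = sgen i :=
  inv_eq_of_mul_eq_one_right (congrArg Prod.fst (tp_sq i))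

theorem tp_braid (i j : Fin 7) (h : lab i j = 3) :
    tp i * tp j * tp i = tp j * tp i * tp j := by
  refine Prod.ext ?_ (Units.ext (root_braid h))
  show sgen i * sgen j * sgen i = sgen j * sgen i * sgen j
  have h' := sgen_rel i j
  rw [h, pow_succ, pow_succ, pow_one] at h'
  have h'' : sgen i * sgen j * sgen i * (sgen j * sgen i * sgen j) = 1 := by
    simpa only [mul_assoc] using h'
  rw [eq_inv_of_mul_eq_one_left h'', mul_inv_rev, mul_inv_rev, sgen_inv, sgen_inv, mul_assoc]

theorem tp_anti (i j : Fin 7) (h : lab i j = 2) : tp i * tp j = negP * (tp j * tp i) := by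
  refine Prod.ext ?_ (Units.ext ?_)
  · show sgen i * sgen j = 1 * (sgen j * sgen i)
    have h' := sgen_rel i j
    rw [h, pow_two] at h'
    rw [one_mul, eq_inv_of_mul_eq_one_left h', mul_inv_rev, sgen_inv, sgen_inv]
  · show root i * root j = ((-1 : Clˣ) : Cl) * (root j * root i)
    rw [Units.val_neg, Units.val_one, root_anti h]

theorem negP_comm (x : G0 × Clˣ) : Commute negP x :=
  Prod.ext ((one_mul _).trans (mul_one _).symm) (Units.ext (by
    show ((-1 : Clˣ) : Cl) * (x.2 : Cl) = (x.2 : Cl) * ((-1 : Clˣ) : Cl)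
    rw [Units.val_neg, Units.val_one, neg_one_mul, mul_neg_one]))

theorem negP_sq : negP * negP = 1 :=
  Prod.ext (one_mul _) (Units.ext (by
    show ((-1 : Clˣ) : Cl) * ((-1 : Clˣ) : Cl) = 1
    rw [Units.val_neg, Units.val_one, neg_one_mul, neg_neg]))

theorem negP_ne : negP ≠ 1 := by
  intro h
  have h' : (-1 : Cl) = 1 := by
    have := congrArg (fun x : G0 × Clˣ => (x.2 : Cl)) h
    simpa [negP] using this
  haveI : Invertible (2 : ℚ) := invertibleOfNonzero two_ne_zero
  have hinj : Function.Injective (algebraMap ℚ Cl) := (algebraMap ℚ Cl).injective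
  have : ((-1 : ℚ)) = 1 := hinj (by rw [map_neg, map_one]; exact h')
  norm_num at this

theorem mem_coverSp_pair (i j : Fin 7) : tp i * tp j ∈ coverSp := by
  have hedge : ∀ i j, lab i j = 3 → tp j * (tp i)⁻¹ ∈ coverSp := by
    intro i j h
    refine ⟨⁅FreeGroup.of i * FreeGroup.of j, FreeGroup.of i⁆,
      Subgroup.commutator_mem_commutator (Subgroup.mem_top _) (Subgroup.mem_top _), ?_⟩
    rw [map_commutatorElement, map_mul, toP, FreeGroup.lift_apply_of, FreeGroup.lift_apply_of,
      commutatorElement_def, tp_braid i j h]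
    group
  have hrel : ∀ {i j}, tp j * (tp i)⁻¹ ∈ coverSp → tp i * (tp j)⁻¹ ∈ coverSp := fun h => by
    simpa using inv_mem h
  have h3 : ∀ k, tp k * (tp 3)⁻¹ ∈ coverSp := by
    have step : ∀ k l, lab k l = 3 → tp k * (tp 3)⁻¹ ∈ coverSp → tp l * (tp 3)⁻¹ ∈ coverSp :=
      fun k l h hk => by simpa [mul_assoc] using mul_mem (hedge k l h) hk
    have s3 : tp 3 * (tp 3)⁻¹ ∈ coverSp := by simp [one_mem]
    have s2 := step 3 2 (by decide) s3
    have s1 := step 3 1 (by decide) s3
    have s4 := step 3 4 (by decide) s3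
    have s0 := step 2 0 (by decide) s2
    have s5 := step 4 5 (by decide) s4
    have s6 := step 5 6 (by decide) s5
    intro k; fin_cases k
    · exact s0
    · exact s1
    · exact s2
    · exact s3
    · exact s4
    · exact s5
    · exact s6
  have := mul_mem (h3 i) (hrel (h3 j))
  rw [mul_assoc, inv_mul_cancel_left, ← eq_inv_of_mul_eq_one_left (tp_sq j)] at this
  exact this

theorem negP_eq_commutator :
    negP = ⁅tp 0 * tp 1, tp 0 * tp 4⁆ := by
  have e1 : tp 1 * tp 4 = negP * (tp 4 * tp 1) := tp_anti 1 4 (by decide)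
  have e2 : tp 0 * tp 1 = negP * (tp 1 * tp 0) := tp_anti 0 1 (by decide)
  have e3 : tp 0 * tp 4 = negP * (tp 4 * tp 0) := tp_anti 0 4 (by decide)
  have key : tp 0 * tp 1 * (tp 0 * tp 4) = negP * (tp 0 * tp 4 * (tp 0 * tp 1)) := by
    have l : tp 0 * tp 1 * (tp 0 * tp 4) = negP * (tp 1 * tp 4) := by
      rw [e2]
      calc negP * (tp 1 * tp 0) * (tp 0 * tp 4) = negP * (tp 1 * (tp 0 * tp 0) * tp 4) := by
            simp only [mul_assoc]
        _ = _ := by rw [tp_sq, mul_one]
    have r : tp 0 * tp 4 * (tp 0 * tp 1) = negP * (tp 4 * tp 1) := by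
      rw [e3]
      calc negP * (tp 4 * tp 0) * (tp 0 * tp 1) = negP * (tp 4 * (tp 0 * tp 0) * tp 1) := by
            simp only [mul_assoc]
        _ = _ := by rw [tp_sq, mul_one]
    rw [l, r, e1]
  rw [commutatorElement_def, mul_assoc (tp 0 * tp 1 * (tp 0 * tp 4)), ← mul_inv_rev, key,
    mul_assoc, mul_inv_cancel, mul_one]

theorem negP_mem : negP ∈ coverSp := by
  rw [negP_eq_commutator]
  have h1 := mem_coverSp_pair 0 1
  have h2 := mem_coverSp_pair 0 4
  rw [commutatorElement_def]
  exact mul_mem (mul_mem (mul_mem h1 h2) (inv_mem h1)) (inv_mem h2)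

/-- The central involution in the cover. -/
def negC : ↥coverSp := ⟨negP, negP_mem⟩

theorem coverSp_ker : coverSpProj.ker = Subgroup.zpowers negC := by
  apply le_antisymm
  · rintro ⟨x, w, hw, rfl⟩ hx
    have hx' : toG w = 1 := by rw [← fst_toP]; exact hx
    obtain ⟨γ, hγ⟩ := mem_zpowers_of_rels tp 1 negP (fun x => Commute.one_left x) negP_comm tp_sq
      tp_braid tp_anti hx' (MonoidHom.mem_ker.1 (Abelianization.commutator_subset_ker degF hw))
    exact ⟨γ, Subtype.ext (by rw [SubgroupClass.coe_zpow]; exact hγ)⟩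
  · rw [Subgroup.zpowers_le, MonoidHom.mem_ker]
    rfl

theorem negC_order : orderOf negC = 2 :=
  orderOf_eq_prime (by rw [pow_two]; exact Subtype.ext negP_sq)
    fun h => negP_ne (congrArg Subtype.val h)

theorem coverSp_surjective : Function.Surjective coverSpProj := by
  intro g
  have h : g ∈ (commutator F7).map toG := by
    rw [commutator_def, Subgroup.map_commutator, ← MonoidHom.range_eq_map,
      MonoidHom.range_eq_top.2 toG_surjective, ← commutator_def, G0_perfect]
    trivial
  obtain ⟨w, hw, rfl⟩ := h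
  exact ⟨⟨toP w, w, hw, rfl⟩, fst_toP w⟩

theorem coverSp_finite : Finite ↥coverSp := by
  apply Nat.finite_of_card_ne_zero
  rw [← Subgroup.card_mul_index coverSpProj.ker, Subgroup.index_ker,
    MonoidHom.range_eq_top.2 coverSp_surjective, Subgroup.card_top, G0_card, coverSp_ker,
    Nat.card_zpowers, negC_order]
  norm_num

theorem coverSp_stem : IsStemExtension coverSpProj := by
  refine ⟨coverSp_surjective, ?_, ?_⟩ <;> rw [coverSp_ker, Subgroup.zpowers_le]
  · rw [Subgroup.mem_center_iff]
    intro x
    exact Subtype.ext (negP_comm x.1).eq.symm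
  · have h : negC = ⁅(⟨_, mem_coverSp_pair 0 1⟩ : ↥coverSp), ⟨_, mem_coverSp_pair 0 4⟩⁆ :=
      Subtype.ext negP_eq_commutator
    rw [h]
    exact Subgroup.commutator_mem_commutator (Subgroup.mem_top _) (Subgroup.mem_top _)

end Cover

universe u

theorem hasMultiplier_two {G : Type u} [Group G] (e : G ≃* G0) :
    HasCyclicSchurMultiplier G 2 := by
  haveI : Fact (Nat.Prime 2) := ⟨Nat.prime_two⟩
  refine ⟨?_, ?_⟩
  · haveI := coverSp_finite
    refine ⟨ULift.{u} ↥coverSp, inferInstance, inferInstance,
      e.symm.toMonoidHom.comp (coverSpProj.comp MulEquiv.ulift.toMonoidHom), ?_, ?_⟩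
    · obtain ⟨h1, h2, h3⟩ := coverSp_stem
      refine ⟨e.symm.surjective.comp (h1.comp MulEquiv.ulift.surjective), ?_, ?_⟩
      · intro x hx
        have hx' : x.down ∈ coverSpProj.ker := e.symm.map_eq_one_iff.1 hx
        rw [Subgroup.mem_center_iff]
        intro y
        exact ULift.ext _ _ (Subgroup.mem_center_iff.1 (h2 hx') y.down)
      · intro x hx
        have hx' : x.down ∈ coverSpProj.ker := e.symm.map_eq_one_iff.1 hx
        have hm := Subgroup.mem_map_of_mem
          (MulEquiv.ulift.{0, u} (α := ↥coverSp)).symm.toMonoidHom (h3 hx')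
        rw [commutator_def, Subgroup.map_commutator] at hm
        exact Subgroup.commutator_mono le_top le_top hm
    · refine ⟨mulEquivOfPrimeCardEq (p := 2) ?_ (by simp)⟩
      rw [show (e.symm.toMonoidHom.comp (coverSpProj.comp MulEquiv.ulift.toMonoidHom)).ker =
        coverSpProj.ker.comap MulEquiv.ulift.toMonoidHom by
          ext x; exact e.symm.map_eq_one_iff]
      rw [Nat.card_congr (Equiv.subtypeEquiv Equiv.ulift (fun x => Iff.rfl) :
        coverSpProj.ker.comap (MulEquiv.ulift.{0, u} (α := ↥coverSp)).toMonoidHom ≃ coverSpProj.ker),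
        coverSp_ker, Nat.card_zpowers, negC_order]
  · intro Γ _ _ σ hσ
    have hk : σ.ker = (e.toMonoidHom.comp σ).ker := by
      ext x; exact e.map_eq_one_iff.symm
    have hσ' : IsStemExtension (e.toMonoidHom.comp σ) :=
      ⟨e.surjective.comp hσ.1, hk ▸ hσ.2.1, hk ▸ hσ.2.2⟩
    have hd := card_ker_dvd_two hσ'
    rw [← hk] at hd
    rcases (Nat.dvd_prime Nat.prime_two).1 hd with h | h
    · haveI : Subsingleton σ.ker := (Nat.card_eq_one_iff_unique.1 h).1
      exact ⟨1, fun x => ⟨1, Subsingleton.elim _ _⟩⟩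
    · let f : Multiplicative (ZMod 2) ≃* σ.ker := mulEquivOfPrimeCardEq (p := 2) (by simp) h
      exact ⟨f.toMonoidHom, f.surjective⟩

end Cfsg.Agent.ExtCert.SpSix
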