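import Cfsg.Agent.Lib.ExtCert.Collect
import Cfsg.Agent.Lib.Golay.CocodeExt
import Cfsg.Agent.Lib.Basics.Gaschutz

/-!
Splitting criterion for extensions of M₂₃ by an eleven-dimensional module over two elements
given in coordinates on the binary words: a linear certificate on a Sylow 2-subgroup.
-/

set_option autoImplicit false

namespace Cfsg.Agent.ExtCert

noncomputable section

open Cfsg
open Cfsg.Agent.Golay24 Cfsg.Agent.CocodeExt

attribute [local irreducible] ev

/-- The word of a coordinate vector. -/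
def wordL (bs : List ℕ) (v : V) : W := ∑ k : Fin 11, v k • wordOf (bs.getD k.val 0)

/-- The coordinates of a word. -/
def coordP (ds : List ℕ) (w : W) : V := fun j => dotLin (wordOf (ds.getD j.val 0)) w

/-- A permutation in coordinates. -/
def actV (bs ds : List ℕ) (σ : Equiv.Perm GolayPt) (v : V) : V :=
  coordP ds (act σ (wordL bs v))

/-- An extension of M₂₃ by the module. -/
structure Setup (E : Type*) [Group E] (bs ds : List ℕ) extends Emb E where
  π : E →* Equiv.Perm GolayPt
  ker : ∀ x, π x = 1 ↔ ∃ v, toEmb.ι v = x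
  range : ∀ σ, (∃ x, π x = σ) ↔ σ ∈ Spor.M23
  conj : ∀ x v, x * toEmb.ι v = toEmb.ι (actV bs ds (π x) v) * x

/-- The matrix of a packed permutation is right. -/
def matOk (bs ds M : List ℕ) (p : ℕ) : Bool :=
  (List.finRange 11).all fun j => (List.finRange 11).all fun k => decide
    (bit (M.getD k.val 0) j.val =
      (pop24 (Nat.land (ds.getD j.val 0) (img p (bs.getD k.val 0))) : ZMod 2))

theorem act_wordOf {p : ℕ} (h : validP p = true) (m : ℕ) :
    act (toPerm p) (wordOf m) = wordOf (img p m) := by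
  apply support₂_injective
  show support₂ (fun x => wordOf m ((toPerm p).symm x)) = _
  rw [← smul_support₂, support₂_wordOf, support₂_wordOf, smul_setOf h]

set_option maxRecDepth 4000 in
theorem actV_eq_mv {bs ds M : List ℕ} {p : ℕ} (hv : validP p = true)
    (h : matOk bs ds M p = true) (v : V) : actV bs ds (toPerm p) v = mv M v := by
  funext j
  simp only [matOk, List.all_eq_true, List.mem_finRange, forall_const, decide_eq_true_eq] at h
  have h1 : act (toPerm p) (wordL bs v) = ∑ k : Fin 11, v k • wordOf (img p (bs.getD k.val 0)) := by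
    funext x
    show (∑ k : Fin 11, v k • wordOf (bs.getD k.val 0)) _ = _
    simp only [Finset.sum_apply, Pi.smul_apply]
    exact Finset.sum_congr rfl fun k _ => congrArg (v k • ·) (congrFun (act_wordOf hv _) x)
  show dotLin _ _ = _
  rw [h1, map_sum]
  refine Finset.sum_congr rfl fun k _ => ?_
  rw [map_smul, smul_eq_mul, h j k, dot_wordOf, support₂_wordOf, maskOf_setOf (img_lt hv _),
    mul_comm]
  rfl

/-- The certificate. -/
structure Cert where
  bs : List ℕ
  ds : List ℕ
  aP : List ℕ
  wds : List (List ℕ)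
  mats : List (List ℕ)
  tab : List (List (Option (ℕ × ℕ)))
  nf : List (List ℕ)
  conjs : List (ℕ × List ℕ)
  slots : List (ℕ × ℕ × ℕ)
  eqs : List (ℕ × ℕ × ℕ)
  ceqs : List (ℕ × List ℕ × List ℕ)
  rows : List ℕ
  D : List ℕ
  combs : List (List (ℕ × List ℕ))
  extra : List ℕ

/-- The index of a relation. -/
def pairIdx (i t : ℕ) : ℕ := i * (13 - i) / 2 + t

/-- The pairs of indices. -/
def pairList : List (ℕ × ℕ) :=
  (List.range 7).flatMap fun i => (List.range (7 - i)).map fun d => (i, i + d)

theorem pairList_spec : ∀ i < 7, ∀ t < 7, i ≤ t →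
    pairIdx i t < 28 ∧ pairList.getD (pairIdx i t) (0, 0) = (i, t) := by decide +kernel

theorem pairList_bound : ∀ r < 28, (pairList.getD r (0, 0)).1 ≤ (pairList.getD r (0, 0)).2 ∧
    (pairList.getD r (0, 0)).2 < 7 := by decide +kernel

/-- A word applied to a position. -/
def runW (a : ℕ → ℕ) (ks : List ℕ) (x : ℕ) : ℕ := ks.foldr (fun k y => app (a k) y) x

/-- A combination of rows. -/
def combo (rows : List ℕ) : List (ℕ × List ℕ) → ℕ
  | [] => 0
  | (r, M) :: l => Nat.xor (fmat M (rows.getD r 0)) (combo rows l)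

theorem ev_combo (ν : ℕ → V) {rows : List ℕ} (h : ∀ r, ev ν (rows.getD r 0) = 0) :
    ∀ l, ev ν (combo rows l) = 0
  | [] => ev_zero ν
  | (r, M) :: l => by
    show ev ν (_ ^^^ _) = 0
    rw [ev_xor, ev_fmat, h, mv_zero, ev_combo ν h l, add_zero]

theorem ev_congr_low {ν ν' : ℕ → V} {F : ℕ} (hF : ∀ c : Fin 11, blk F c.val < 2 ^ 308)
    (h : ∀ r < 28, ν r = ν' r) : ev ν F = ev ν' F := by
  funext c
  rw [ev_eq, ev_eq]
  refine Finset.sum_congr rfl fun j hj => ?_
  rcases Nat.lt_or_ge j 308 with hj' | hj'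
  · rw [h _ (by omega)]
  · have : F.testBit (512 * c.val + j) = false := by
      have h' := Nat.testBit_lt_two_pow (lt_of_lt_of_le (hF c)
        (Nat.pow_le_pow_right (by norm_num) hj'))
      rw [blk, Nat.testBit_mod_two_pow, Nat.testBit_shiftRight] at h'
      simpa [Finset.mem_range.1 hj] using h'
    simp [bit, this]

namespace Cert

variable (C : Cert)

/-- The generators as packed permutations. -/
def gen (i : ℕ) : ℕ := C.aP.getD i 0

/-- The right sides. -/
def wd (i t : ℕ) : ℕ := (C.wds.getD i []).getD t 0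

/-- The presentation with unknown relation values. -/
def pres : Pres where
  wd := C.wd
  mats := fun i => C.mats.getD i []
  uF := fun i t => var (pairIdx i t)

/-- The presentation with trivial relation values. -/
def pres0 : Pres where
  wd := C.wd
  mats := fun i => C.mats.getD i []
  uF := fun _ _ => 0

/-- The table. -/
def T (i e : ℕ) : Option (ℕ × ℕ) := (C.tab.getD i []).getD e none

/-- The table of normal forms. -/
def T0 (i e : ℕ) : Option (ℕ × ℕ) :=
  if Nat.blt i 7 && Nat.blt e 128 then some (0, (C.nf.getD i []).getD e 0) else none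

/-- The letters of a slot. -/
def slot (s : ℕ) : ℕ × ℕ × ℕ := C.slots.getD s (0, 0, 0)

/-- The derived rows. -/
def derived : List ℕ :=
  (C.eqs.map fun x => (C.pres.eqS C.T x.1 x.2.1 x.2.2).getD 0) ++
    (C.ceqs.map fun x => (C.pres.eqC C.T (C.conjs.getD x.1 (0, [])).2 (fun s => (C.slot s).2.1)
      (fun s => (C.slot s).2.2) (fun s => var (28 + s)) x.2.1 x.2.2).getD 0) ++
    C.extra

/-- The permutations, their matrices and relations. -/
def okPerm : Bool :=
  (List.range 7).all (fun i => inM24 (C.gen i) && app (C.gen i) 23 == 23 &&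
    matOk C.bs C.ds (C.pres.mats i) (C.gen i)) &&
  (List.range 7).all (fun i => (List.range 7).all fun t => !Nat.ble i t ||
    (List.range 24).all fun x => app (C.gen t) (app (C.gen i) x) ==
      runW C.gen (preW i t ++ bitsOf (C.wd i t)) x) &&
  C.conjs.all (fun g => inM24 g.1 && app g.1 23 == 23 && matOk C.bs C.ds g.2 g.1) &&
  C.slots.all (fun s => Nat.blt s.1 C.conjs.length && (List.range 24).all fun x =>
    app (C.conjs.getD s.1 (0, [])).1 (runW C.gen (bitsOf s.2.1) x) ==
      runW C.gen (bitsOf s.2.2) (app (C.conjs.getD s.1 (0, [])).1 x))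

/-- The tables. -/
def okTab : Bool :=
  Nat.ble C.tab.length 7 && C.tab.all (fun r => Nat.ble r.length 128) &&
  C.pres.chk C.T

/-- The normal forms. -/
def okNF : Bool :=
  C.pres0.chk C.T0 && (List.range 7).all (fun i => (List.range 128).all fun e =>
    Nat.blt ((C.nf.getD i []).getD e 0) 128) &&
  decide (((List.range 128).map fun e =>
    (List.range 24).map fun x => runW C.gen (bitsOf e) x).Nodup)

/-- The linear algebra. -/
def okLin : Bool :=
  Nat.ble C.slots.length 18 &&
  C.eqs.all (fun x => Nat.ble x.2.1 x.2.2 && Nat.blt x.2.2 7) &&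
  C.ceqs.all (fun x => Nat.blt x.1 C.conjs.length &&
    (x.2.1 ++ x.2.2).all fun s => Nat.blt s C.slots.length && (C.slot s).1 == x.1) &&
  C.extra.all (fun F => (List.range 11).all fun c => Nat.blt (blk F c) (2 ^ 308)) &&
  C.derived == C.rows &&
  (List.range 7).all (fun i => (List.range 7).all fun t => !Nat.ble i t ||
    C.pres.resid (fun k => C.D.getD k 0) i t == combo C.rows (C.combs.getD (pairIdx i t) []))

variable {C}
variable {E : Type*} [Group E] (S : Setup E C.bs C.ds)

/-- The lifts of the generators lie over them. -/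
def IsLift (C : Cert) (S : Setup E C.bs C.ds) (A : ℕ → E) : Prop :=
  ∀ i < 7, S.π (A i) = toPerm (C.gen i)

/-- The value of a relation in chosen lifts. -/
def RelVal (C : Cert) (S : Setup E C.bs C.ds) (A : ℕ → E) (r : ℕ) (v : V) : Prop :=
  A (pairList.getD r (0, 0)).2 * A (pairList.getD r (0, 0)).1 =
    S.ι v * ((preW (pairList.getD r (0, 0)).1 (pairList.getD r (0, 0)).2).map A).prod *
      sProd A (C.wd (pairList.getD r (0, 0)).1 (pairList.getD r (0, 0)).2)

theorem gen_mem (h : C.okPerm = true) {i : ℕ} (hi : i < 7) :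
    validP (C.gen i) = true ∧ toPerm (C.gen i) ∈ Spor.M23 ∧
      matOk C.bs C.ds (C.pres.mats i) (C.gen i) = true := by
  simp only [okPerm, Bool.and_eq_true, List.all_eq_true, List.mem_range, beq_iff_eq] at h
  obtain ⟨⟨h1, h2⟩, h3⟩ := h.1.1.1 i hi
  exact ⟨valid_of_inM24 h1, ⟨toPerm_mem_M24 h1,
    pt23 ▸ toPerm_mem_stabilizer (by norm_num) (valid_of_inM24 h1) h2⟩, h3⟩

theorem exists_lift (h : C.okPerm = true) : ∃ A, IsLift C S A := by
  have : ∀ i, ∃ x, i < 7 → S.π x = toPerm (C.gen i) := fun i => by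
    by_cases hi : i < 7
    · obtain ⟨x, hx⟩ := (S.range _).2 (gen_mem h hi).2.1
      exact ⟨x, fun _ => hx⟩
    · exact ⟨1, fun h => absurd h hi⟩
  choose A hA using this
  exact ⟨A, hA⟩

theorem π_run (h : C.okPerm = true) {A : ℕ → E} (hA : IsLift C S A) : ∀ (ks : List ℕ),
    (∀ k ∈ ks, k < 7) → ∀ x : GolayPt, (idx (S.π (ks.map A).prod x) : ℕ) = runW C.gen ks (idx x)
  | [], _, x => by simp [runW]
  | k :: ks, hk, x => by
    have hk7 := hk k (List.mem_cons_self ..)
    rw [List.map_cons, List.prod_cons, map_mul, Equiv.Perm.mul_apply, hA k hk7,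
      idx_toPerm (gen_mem h hk7).1,
      π_run h hA ks fun y hy => hk y (List.mem_cons_of_mem _ hy)]
    rfl

theorem π_ι (v : V) : S.π (S.ι v) = 1 := (S.ker _).2 ⟨v, rfl⟩

theorem exists_val {x y : E} (h : S.π x = S.π y) : ∃ v, x = S.ι v * y := by
  obtain ⟨v, hv⟩ := (S.ker (x * y⁻¹)).1 (by rw [map_mul, map_inv, h, mul_inv_cancel])
  exact ⟨v, by rw [hv, inv_mul_cancel_right]⟩

theorem exists_relVal (h : C.okPerm = true) {A : ℕ → E} (hA : IsLift C S A) {r : ℕ}
    (hr : r < 28) : ∃ v, RelVal C S A r v := by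
  obtain ⟨hit, ht⟩ := pairList_bound r hr
  have hi : (pairList.getD r (0, 0)).1 < 7 := lt_of_le_of_lt hit ht
  have h' := h
  simp only [okPerm, Bool.and_eq_true, List.all_eq_true, List.mem_range, beq_iff_eq,
    Bool.or_eq_true, Bool.not_eq_true'] at h'
  have hrel := (h'.1.1.2 _ hi _ ht).resolve_left (fun hh => by rw [Nat.ble_eq_true_of_le hit] at hh; simp at hh)
  refine (exists_val S ?_).imp fun v hv => hv.trans (mul_assoc ..).symm
  refine Equiv.ext fun x => idx_inj.1 (Fin.ext ?_)
  rw [map_mul, Equiv.Perm.mul_apply, hA _ ht, hA _ hi, idx_toPerm (gen_mem h ht).1,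
    idx_toPerm (gen_mem h hi).1, hrel _ (idx x).isLt, sProd, ← List.prod_append, ← List.map_append,
    π_run S h hA]
  intro k hk
  rcases List.mem_append.1 hk with hk | hk
  · unfold preW at hk
    split at hk <;> simp at hk
    exact hk ▸ hi
  · exact lt_of_mem_bitsOf hk

theorem actHyp (h : C.okPerm = true) {A : ℕ → E} (hA : IsLift C S A) :
    ActHyp S.toEmb A C.pres := fun i hi v => by
  rw [S.conj, hA i hi, actV_eq_mv (gen_mem h hi).1 (gen_mem h hi).2.2]

theorem ι_comm (u v : V) : S.ι u * S.ι v = S.ι v * S.ι u := by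
  rw [← S.map_add, ← S.map_add, add_comm]

/-- **The criterion**: the certificate, with the extra values zero, gives a complement. -/
theorem split [Finite E] (h1 : C.okPerm = true) (h2 : C.okTab = true) (h3 : C.okNF = true)
    (h4 : C.okLin = true) {A : ℕ → E} (hA : IsLift C S A) {u : ℕ → V}
    (hu : ∀ r < 28, RelVal C S A r (u r)) (hx : ∀ F ∈ C.extra, ev u F = 0) :
    ∃ H : Subgroup E, H ⊓ S.π.ker = ⊥ ∧ H ⊔ S.π.ker = ⊤ := by
  have h1' := h1
  simp only [okPerm, Bool.and_eq_true, List.all_eq_true, List.mem_range, beq_iff_eq,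
    Bool.or_eq_true, Bool.not_eq_true', Nat.blt_eq] at h1'
  simp only [okLin, Bool.and_eq_true, List.all_eq_true, List.mem_range, beq_iff_eq,
    Bool.or_eq_true, Bool.not_eq_true', Nat.blt_eq, Nat.ble_eq] at h4
  obtain ⟨⟨⟨⟨⟨hslen, heqs⟩, hceqs⟩, hext⟩, hrows⟩, hres⟩ := h4
  have hG : ∀ k, ∃ G : E, k < C.conjs.length → S.π G = toPerm (C.conjs.getD k (0, [])).1 := by
    intro k
    by_cases hk : k < C.conjs.length
    · obtain ⟨⟨a, b⟩, -⟩ := h1'.1.2 _ (List.getD_eq_getElem C.conjs (0, []) hk ▸ List.getElem_mem hk)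
      obtain ⟨x, hx'⟩ := (S.range _).2 (show toPerm (C.conjs.getD k (0, [])).1 ∈ Spor.M23 from
        ⟨toPerm_mem_M24 a, pt23 ▸ toPerm_mem_stabilizer (by norm_num) (valid_of_inM24 a) b⟩)
      exact ⟨x, fun _ => hx'⟩
    · exact ⟨1, fun h => absurd h hk⟩
  choose G hG using hG
  have hm : ∀ s, ∃ v, s < C.slots.length → G (C.slot s).1 * sProd A (C.slot s).2.1 =
      S.ι v * sProd A (C.slot s).2.2 * G (C.slot s).1 := by
    intro s
    by_cases hs : s < C.slots.length
    · obtain ⟨hc, hsl⟩ := h1'.2 _ (List.getD_eq_getElem C.slots (0, 0, 0) hs ▸ List.getElem_mem hs)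
      change (C.slot s).1 < C.conjs.length at hc
      have hcv : validP (C.conjs.getD (C.slot s).1 (0, [])).1 = true :=
        valid_of_inM24 (h1'.1.2 _ (List.getD_eq_getElem C.conjs (0, []) hc ▸ List.getElem_mem hc)).1.1
      refine (exists_val S ?_).imp fun v hv _ => hv.trans (mul_assoc ..).symm
      refine Equiv.ext fun x => idx_inj.1 (Fin.ext ?_)
      rw [map_mul, map_mul, Equiv.Perm.mul_apply, Equiv.Perm.mul_apply, hG _ hc, idx_toPerm hcv,
        sProd, sProd, π_run S h1 hA _ fun _ => lt_of_mem_bitsOf,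
        π_run S h1 hA _ fun _ => lt_of_mem_bitsOf, idx_toPerm hcv]
      exact hsl _ (idx x).isLt
    · exact ⟨0, fun h => absurd h hs⟩
  choose m hm using hm
  let ν : ℕ → V := fun r => if r < 28 then u r else m (r - 28)
  have ha := actHyp S h1 hA
  have hr : RelHyp S.toEmb ν A C.pres := by
    intro i t hit ht
    obtain ⟨p1, p2⟩ := pairList_spec i (by omega) t ht hit
    show A t * A i = S.ι (ev ν (var (pairIdx i t))) * _ * _
    rw [ev_var ν (by omega)]
    have := hu _ p1
    rw [RelVal, p2] at this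
    simpa only [ν, if_pos p1, pres] using this
  have hout : ∀ i e r, C.T i e = some r → i < 7 ∧ e < 128 := by
    intro i e r hT
    simp only [okTab, Bool.and_eq_true, List.all_eq_true, Nat.ble_eq] at h2
    by_cases hi : i < C.tab.length
    · refine ⟨lt_of_lt_of_le hi h2.1.1, ?_⟩
      by_cases he : e < (C.tab.getD i []).length
      · exact lt_of_lt_of_le he (h2.1.2 _ (List.getD_eq_getElem C.tab [] hi ▸ List.getElem_mem hi))
      · rw [T, List.getD_eq_default _ _ (not_lt.1 he)] at hT
        simp at hT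
    · rw [T, List.getD_eq_default C.tab [] (not_lt.1 hi)] at hT
      simp at hT
  have hchk : C.pres.chk C.T = true := by
    simp only [okTab, Bool.and_eq_true] at h2; exact h2.2
  have hT := Pres.chk_sound ha hr hout hchk
  have hrow : ∀ F ∈ C.rows, ev ν F = 0 := by
    rw [← hrows]
    intro F hF
    simp only [derived, List.mem_append, List.mem_map] at hF
    rcases hF with (⟨x, hx', rfl⟩ | ⟨x, hx', rfl⟩) | hx'
    · cases hF' : C.pres.eqS C.T x.1 x.2.1 x.2.2 with
      | none => exact ev_zero ν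
      | some F => exact Pres.eqS_sound ha hr hT (heqs x hx').1 (heqs x hx').2 hF'
    · obtain ⟨hc, hs⟩ := hceqs x hx'
      cases hF' : C.pres.eqC C.T (C.conjs.getD x.1 (0, [])).2 (fun s => (C.slot s).2.1)
          (fun s => (C.slot s).2.2) (fun s => var (28 + s)) x.2.1 x.2.2 with
      | none => exact ev_zero ν
      | some F =>
        obtain ⟨⟨a, -⟩, b⟩ := h1'.1.2 _ (List.getD_eq_getElem C.conjs (0, []) hc ▸ List.getElem_mem hc)
        refine Pres.eqC_sound (G := G x.1) ha hT
          (fun v => by rw [S.conj, hG _ hc, actV_eq_mv (valid_of_inM24 a) b]) (fun s hs' => ?_) hF'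
        obtain ⟨s1, s2⟩ := hs s hs'
        have := hm s s1
        rw [s2] at this
        rw [ev_var ν (by omega)]
        simpa only [ν, if_neg (show ¬ 28 + s < 28 by omega), Nat.add_sub_cancel_left] using this
    · rw [ev_congr_low (ν' := u) (fun c => hext F hx' c.val c.isLt) (fun r hr' => by
        simp only [ν, if_pos hr']), hx F hx']
  have hrow' : ∀ r, ev ν (C.rows.getD r 0) = 0 := by
    intro r
    by_cases hr' : r < C.rows.length
    · exact hrow _ (List.getD_eq_getElem C.rows 0 hr' ▸ List.getElem_mem hr')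
    · rw [List.getD_eq_default _ _ (not_lt.1 hr'), ev_zero]
  let B : ℕ → E := fun k => S.ι (ev ν (C.D.getD k 0)) * A k
  have hB : IsLift C S B := fun i hi => by
    show S.π (S.ι _ * A i) = _
    rw [map_mul, π_ι, one_mul, hA i hi]
  have haB : ActHyp S.toEmb B C.pres0 := actHyp S h1 hB
  have hrB : RelHyp S.toEmb (fun _ => 0) B C.pres0 := by
    intro i t hit ht
    show _ = S.ι (ev _ 0) * _ * _
    rw [ev_zero, S.map_zero, one_mul]
    refine Pres.changed_rel (P := C.pres) ha hr (fun k => C.D.getD k 0) hit ht ?_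
    rw [(hres i (by omega) t ht).resolve_left (fun hh => by rw [Nat.ble_eq_true_of_le hit] at hh; simp at hh)]
    exact ev_combo ν hrow' _
  simp only [okNF, Bool.and_eq_true, List.all_eq_true, List.mem_range, Nat.blt_eq,
    decide_eq_true_eq] at h3
  have hT0 := Pres.chk_sound haB hrB (T := C.T0) (fun i e r h => by
    unfold T0 at h
    split at h
    · next hh => simpa using hh
    · exact absurd h (by simp)) h3.1.1
  have hclosed : ∀ i < 7, ∀ e < 128, ∃ e' < 128, sProd B e * B i = sProd B e' := by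
    intro i hi e he
    refine ⟨_, h3.1.2 i hi e he, ?_⟩
    have hsome : C.T0 i e = some (0, (C.nf.getD i []).getD e 0) := if_pos (by simp [hi, he])
    have := hT0 i e _ hsome
    rwa [ev_zero, S.map_zero, one_mul] at this
  let A' : Subgroup E := Subgroup.closure {x | ∃ i < 7, B i = x}
  have hA' : ∀ x ∈ A', ∃ e < 128, sProd B e = x := by
    intro x hx'
    rw [← Subgroup.mem_toSubmonoid, Subgroup.closure_toSubmonoid_of_finite] at hx'
    induction hx' using Submonoid.closure_induction_right with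
    | one => exact ⟨0, by norm_num, sProd_zero⟩
    | mul_right x hx'' y hy ih =>
      obtain ⟨e, he, rfl⟩ := ih
      obtain ⟨i, hi, rfl⟩ := hy
      obtain ⟨e', he', h'⟩ := hclosed i hi e he
      exact ⟨e', he', h'.symm⟩
  have hmem : ∀ e, sProd B e ∈ A' := fun e => list_prod_mem fun y hy => by
    obtain ⟨k, hk, rfl⟩ := List.mem_map.1 hy
    exact Subgroup.subset_closure ⟨k, lt_of_mem_bitsOf hk, rfl⟩
  have hinj : ∀ e < 128, ∀ f < 128, S.π (sProd B e) = S.π (sProd B f) → e = f := by
    intro e he f hf hef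
    refine List.inj_on_of_nodup_map h3.2 (List.mem_range.2 he) (List.mem_range.2 hf) ?_
    · refine List.map_congr_left fun x hx' => ?_
      have k1 := π_run S h1 hB (bitsOf e) (fun _ => lt_of_mem_bitsOf) (pt ⟨x, List.mem_range.1 hx'⟩)
      have k2 := π_run S h1 hB (bitsOf f) (fun _ => lt_of_mem_bitsOf) (pt ⟨x, List.mem_range.1 hx'⟩)
      rw [idx_pt] at k1 k2
      rw [← k1, ← k2]
      exact congrArg (fun σ : Equiv.Perm GolayPt => (idx (σ (pt ⟨x, List.mem_range.1 hx'⟩)) : ℕ)) hef
  have hdisj : A' ⊓ S.π.ker = ⊥ := by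
    rw [eq_bot_iff]
    rintro x ⟨hxA, hxK⟩
    obtain ⟨e, he, rfl⟩ := hA' x hxA
    have : e = 0 := hinj e he 0 (by norm_num) (by rw [sProd_zero, map_one]; exact hxK)
    rw [this, sProd_zero]; exact one_mem _
  have hcardA : Nat.card (A'.map S.π) = 128 := by
    have hset : (A'.map S.π : Set (Equiv.Perm GolayPt)) =
        ↑((Finset.range 128).image fun e => S.π (sProd B e)) := by
      ext σ
      simp only [Subgroup.coe_map, Set.mem_image, SetLike.mem_coe, Finset.coe_image,
        Finset.coe_range, Set.mem_Iio]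
      constructor
      · rintro ⟨x, hx', rfl⟩
        obtain ⟨e, he, rfl⟩ := hA' x hx'
        exact ⟨e, he, rfl⟩
      · rintro ⟨e, -, rfl⟩
        exact ⟨_, hmem e, rfl⟩
    rw [← SetLike.coe_sort_coe, Nat.card_congr (Equiv.setCongr hset), Nat.card_coe_set_eq,
      Set.ncard_coe_finset, Finset.card_image_of_injOn, Finset.card_range]
    exact fun e he f hf => hinj e (Finset.mem_range.1 he) f (Finset.mem_range.1 hf)
  have hKcard : Nat.card S.π.ker = 2 ^ 11 := by
    have e : V ≃ S.π.ker := Equiv.ofBijective (fun v => ⟨S.ι v, π_ι S v⟩)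
      ⟨fun a b h => S.inj (congrArg Subtype.val h), fun x => by
        obtain ⟨v, hv⟩ := (S.ker x.1).1 x.2
        exact ⟨v, Subtype.ext hv⟩⟩
    rw [← Nat.card_congr e]; simp
  have hrange : S.π.range = Spor.M23 := Subgroup.ext fun σ => S.range σ
  have hindex : (S.π.ker ⊔ A').index = 79695 := by
    rw [sup_comm, ← Subgroup.comap_map_eq, Subgroup.index_comap]
    have h := Subgroup.card_mul_index ((A'.map S.π).subgroupOf S.π.range)
    have hle : A'.map S.π ≤ S.π.range := Subgroup.map_le_range _ _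
    rw [Nat.card_congr (Subgroup.subgroupOfEquivOfLe hle).toEquiv, hcardA, hrange, card_M23] at h
    rw [hrange]
    change 128 * (A'.map S.π).relIndex Spor.M23 = 10200960 at h
    omega
  haveI : IsMulCommutative S.π.ker := ⟨⟨fun a b => by
    obtain ⟨u', hu'⟩ := (S.ker a.1).1 a.2
    obtain ⟨v', hv'⟩ := (S.ker b.1).1 b.2
    apply Subtype.ext
    show a.1 * b.1 = b.1 * a.1
    rw [← hu', ← hv']
    exact ι_comm S u' v'⟩⟩
  obtain ⟨H, hH⟩ := Basics.gaschutz_complement S.π.ker (S.π.ker ⊔ A') le_sup_left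
    (by rw [hKcard, hindex]; exact Nat.Coprime.pow_left 11 (by norm_num)) A' le_sup_right hdisj rfl
  exact ⟨H, hH.disjoint.symm.eq_bot, by rw [sup_comm]; exact hH.sup_eq_top⟩

end Cert

end

end Cfsg.Agent.ExtCert
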