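import Cfsg.Agent.Lib.ExtCert.Split

/-!
Two extensions that the certificate detects as non-split are isomorphic: their Baer difference splits.
-/

set_option autoImplicit false

namespace Cfsg.Agent.ExtCert

noncomputable section

open Cfsg
open Cfsg.Agent.Golay24 Cfsg.Agent.CocodeExt

attribute [local irreducible] ev

theorem ev_add_assign (ν ν' : ℕ → V) (F : ℕ) :
    ev (fun r => ν r + ν' r) F = ev ν F + ev ν' F := by
  funext c
  simp only [Pi.add_apply, ev_eq, mul_add, Finset.sum_add_distrib]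

theorem ev_of_blk_zero (ν : ℕ → V) {F : ℕ} {c : Fin 11} (h : blk F c.val = 0) : ev ν F c = 0 := by
  rw [ev_eq]
  refine Finset.sum_eq_zero fun j hj => ?_
  have := congrArg (fun a : ℕ => a.testBit j) h
  simp only [blk, Nat.testBit_mod_two_pow, Nat.testBit_shiftRight, Finset.mem_range.1 hj,
    decide_true, Bool.true_and, Nat.zero_testBit] at this
  simp [bit, this]

variable {E E' : Type*} [Group E] [Group E'] {bs ds : List ℕ}
  (S : Setup E bs ds) (S' : Setup E' bs ds)

/-- The pairs over the same element. -/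
def pullback : Subgroup (E × E') where
  carrier := {p | S.π p.1 = S'.π p.2}
  one_mem' := by show S.π (1 : E) = S'.π (1 : E'); simp
  mul_mem' := fun {a b} (ha : S.π a.1 = S'.π a.2) (hb : S.π b.1 = S'.π b.2) => by
    show S.π (a.1 * b.1) = S'.π (a.2 * b.2); rw [map_mul, map_mul, ha, hb]
  inv_mem' := fun {a} (ha : S.π a.1 = S'.π a.2) => by
    show S.π a.1⁻¹ = S'.π a.2⁻¹; rw [map_inv, map_inv, ha]

theorem ι_inv (v : V) : (S.ι v)⁻¹ = S.ι v := by
  rw [inv_eq_iff_mul_eq_one, ← S.map_add, add_self_V, Emb.map_zero S.toEmb]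

/-- The diagonal copy of the module. -/
def diagN : Subgroup (pullback S S') where
  carrier := {p | ∃ v, S.ι v = p.1.1 ∧ S'.ι v = p.1.2}
  one_mem' := ⟨0, Emb.map_zero S.toEmb, Emb.map_zero S'.toEmb⟩
  mul_mem' := fun {a b} ⟨u, hu, hu'⟩ ⟨v, hv, hv'⟩ =>
    ⟨u + v, by show _ = a.1.1 * b.1.1; rw [S.map_add, hu, hv],
      by show _ = a.1.2 * b.1.2; rw [S'.map_add, hu', hv']⟩
  inv_mem' := fun {a} ⟨v, hv, hv'⟩ =>
    ⟨v, by show _ = a.1.1⁻¹; rw [← hv, ι_inv],
      by show _ = a.1.2⁻¹; rw [← hv', ι_inv]⟩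

instance : (diagN S S').Normal :=
  ⟨fun n ⟨v, hv, hv'⟩ g => ⟨actV bs ds (S.π g.1.1) v,
    by show _ = g.1.1 * n.1.1 * g.1.1⁻¹; rw [← hv, S.conj, mul_inv_cancel_right],
    by show _ = g.1.2 * n.1.2 * g.1.2⁻¹
       rw [← hv', S'.conj, mul_inv_cancel_right, show S.π g.1.1 = S'.π g.1.2 from g.2]⟩⟩

/-- The Baer difference. -/
abbrev Diff : Type _ := pullback S S' ⧸ diagN S S'

theorem mem_left (v : V) : (S.ι v, (1 : E')) ∈ pullback S S' := by
  show S.π (S.ι v) = S'.π 1
  rw [Cert.π_ι' S, map_one]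
where
  Cert.π_ι' {E : Type _} [Group E] (S : Setup E bs ds) {v : V} : S.π (S.ι v) = 1 :=
    (S.ker _).2 ⟨v, rfl⟩

/-- The difference as an extension of M₂₃. -/
def diffSetup : Setup (Diff S S') bs ds where
  ι v := QuotientGroup.mk (⟨(S.ι v, 1), mem_left S S' v⟩ : pullback S S')
  map_add u v := by
    rw [← QuotientGroup.mk_mul]
    refine congrArg _ (Subtype.ext ?_)
    show ((S.ι (u + v), (1 : E')) : E × E') = (S.ι u, 1) * (S.ι v, 1)
    simp [S.map_add]
  inj u v h := by
    obtain ⟨w, hw, hw'⟩ := (QuotientGroup.eq).1 h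
    have e : w = 0 := S'.inj (by
      rw [hw', Emb.map_zero S'.toEmb]; show (1 : E')⁻¹ * 1 = 1; simp)
    refine S.inj (eq_of_inv_mul_eq_one ?_)
    show ((S.ι u)⁻¹ * S.ι v) = 1
    rw [show (S.ι u)⁻¹ * S.ι v = S.ι w from hw.symm, e, Emb.map_zero S.toEmb]
  π := QuotientGroup.lift (diagN S S') (S.π.comp ((MonoidHom.fst E E').comp (pullback S S').subtype))
    (fun p ⟨v, hv, _⟩ => (S.ker _).2 ⟨v, hv⟩)
  ker x := by
    induction x using QuotientGroup.induction_on with
    | _ p =>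
      constructor
      · intro h
        change S.π p.1.1 = 1 at h
        obtain ⟨a, ha⟩ := (S.ker _).1 h
        obtain ⟨b, hb⟩ := (S'.ker _).1 ((show S.π p.1.1 = S'.π p.1.2 from p.2) ▸ h)
        refine ⟨a + b, QuotientGroup.eq.2 ⟨b, ?_, ?_⟩⟩
        · show _ = (S.ι (a + b))⁻¹ * p.1.1
          rw [← ha, ι_inv, ← S.map_add]
          congr 1
          rw [add_comm a b, add_assoc, add_self_V, add_zero]
        · show _ = (1 : E')⁻¹ * p.1.2
          rw [inv_one, one_mul, hb]
      · rintro ⟨v, hv⟩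
        rw [← hv]
        exact (S.ker _).2 ⟨v, rfl⟩
  range σ := by
    constructor
    · rintro ⟨x, rfl⟩
      induction x using QuotientGroup.induction_on with
      | _ p => exact (S.range _).1 ⟨p.1.1, rfl⟩
    · intro hσ
      obtain ⟨x, hx⟩ := (S.range σ).2 hσ
      obtain ⟨y, hy⟩ := (S'.range σ).2 hσ
      exact ⟨QuotientGroup.mk ⟨(x, y), show S.π x = S'.π y by rw [hx, hy]⟩, hx⟩
  conj x v := by
    induction x using QuotientGroup.induction_on with
    | _ p =>
      rw [← QuotientGroup.mk_mul, ← QuotientGroup.mk_mul]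
      refine congrArg _ (Subtype.ext (Prod.ext ?_ ?_))
      · exact S.conj p.1.1 v
      · show p.1.2 * 1 = 1 * p.1.2
        simp

variable {S S'}

/-- **Uniqueness.** -/
theorem unique_of_nonsplit [Finite E] [Finite E'] {C : Cert}
    (S : Setup E C.bs C.ds) (S' : Setup E' C.bs C.ds)
    (h1 : C.okPerm = true) (h2 : C.okTab = true) (h3 : C.okNF = true) (h4 : C.okLin = true)
    {F : ℕ} (hextra : C.extra = [F]) (hblk : ∀ c : Fin 11, c ≠ 0 → blk F c.val = 0)
    (hns : ¬ ∃ H : Subgroup E, H ⊓ S.π.ker = ⊥ ∧ H ⊔ S.π.ker = ⊤)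
    (hns' : ¬ ∃ H : Subgroup E', H ⊓ S'.π.ker = ⊥ ∧ H ⊔ S'.π.ker = ⊤) :
    Nonempty (E ≃* E') := by
  obtain ⟨A, hA⟩ := Cert.exists_lift S h1
  obtain ⟨A', hA'⟩ := Cert.exists_lift S' h1
  have hu : ∀ r, ∃ v, r < 28 → Cert.RelVal C S A r v := fun r => by
    by_cases hr : r < 28
    · exact (Cert.exists_relVal S h1 hA hr).imp fun v hv _ => hv
    · exact ⟨0, fun h => absurd h hr⟩
  have hu' : ∀ r, ∃ v, r < 28 → Cert.RelVal C S' A' r v := fun r => by
    by_cases hr : r < 28
    · exact (Cert.exists_relVal S' h1 hA' hr).imp fun v hv _ => hv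
    · exact ⟨0, fun h => absurd h hr⟩
  choose u hu using hu
  choose u' hu' using hu'
  have e1 : ∀ (w : ℕ → V), ev w F ≠ 0 → ev w F = Pi.single 0 1 := by
    intro w hw
    funext c
    by_cases hc : c = 0
    · subst hc
      rw [Pi.single_eq_same]
      rcases zmod2_cases (ev w F 0) with h | h
      · exfalso
        apply hw
        funext c
        by_cases hc : c = 0
        · rw [hc, h]; rfl
        · exact ev_of_blk_zero w (hblk c hc)
      · exact h
    · rw [Pi.single_eq_of_ne hc]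
      exact ev_of_blk_zero w (hblk c hc)
  have a1 := e1 u fun h => hns (Cert.split S h1 h2 h3 h4 hA hu
    (fun G hG => by rw [hextra, List.mem_singleton] at hG; rw [hG, h]))
  have a2 := e1 u' fun h => hns' (Cert.split S' h1 h2 h3 h4 hA' hu'
    (fun G hG => by rw [hextra, List.mem_singleton] at hG; rw [hG, h]))
  let D := diffSetup S S'
  have hp : ∀ i, ∃ p : pullback S S', i < 7 → p.1 = (A i, A' i) := fun i => by
    by_cases hi : i < 7
    · exact ⟨⟨(A i, A' i), show S.π (A i) = S'.π (A' i) by rw [hA i hi, hA' i hi]⟩, fun _ => rfl⟩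
    · exact ⟨1, fun h => absurd h hi⟩
  choose p hp using hp
  let B : ℕ → Diff S S' := fun i => QuotientGroup.mk (p i)
  have hB : Cert.IsLift C D B := fun i hi => by
    show S.π (p i).1.1 = _
    rw [hp i hi]; exact hA i hi
  have hprod : ∀ ks : List ℕ, (∀ k ∈ ks, k < 7) →
      (ks.map p).prod.1 = ((ks.map A).prod, (ks.map A').prod) := by
    intro ks hks
    induction ks with
    | nil => rfl
    | cons k ks ih =>
      rw [List.map_cons, List.prod_cons, Subgroup.coe_mul, hp k (hks k (List.mem_cons_self ..)),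
        ih fun x hx => hks x (List.mem_cons_of_mem _ hx)]
      simp
  have hmk : ∀ ks : List ℕ, (ks.map B).prod = QuotientGroup.mk ((ks.map p).prod) := by
    intro ks
    induction ks with
    | nil => rfl
    | cons k ks ih =>
      rw [List.map_cons, List.prod_cons, ih, List.map_cons, List.prod_cons, QuotientGroup.mk_mul]
  have hud : ∀ r < 28, Cert.RelVal C D B r (u r + u' r) := by
    intro r hr
    have k1 := hu r hr
    have k2 := hu' r hr
    obtain ⟨hit, ht⟩ := pairList_bound r hr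
    have hi : (pairList.getD r (0, 0)).1 < 7 := lt_of_le_of_lt hit ht
    have hpre : ∀ k ∈ preW (pairList.getD r (0, 0)).1 (pairList.getD r (0, 0)).2, k < 7 := by
      intro k hk
      unfold preW at hk
      split at hk <;> simp at hk
      exact hk ▸ hi
    unfold Cert.RelVal at k1 k2 ⊢
    rw [sProd, hmk, hmk]
    change (QuotientGroup.mk (p _) : Diff S S') * QuotientGroup.mk (p _) = _
    show _ = QuotientGroup.mk (⟨(S.ι (u r + u' r), 1), mem_left S S' _⟩ : pullback S S') * _ * _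
    simp only [← QuotientGroup.mk_mul]
    symm
    refine QuotientGroup.eq.2 ?_
    let d : pullback S S' := ⟨(S.ι (u' r), S'.ι (u' r)),
      show S.π (S.ι (u' r)) = S'.π (S'.ι (u' r)) by
        rw [(S.ker _).2 ⟨_, rfl⟩, (S'.ker _).2 ⟨_, rfl⟩]⟩
    have hd : d ∈ diagN S S' := ⟨u' r, rfl, rfl⟩
    have key : p (pairList.getD r (0, 0)).2 * p (pairList.getD r (0, 0)).1 =
        d * ((⟨(S.ι (u r + u' r), 1), mem_left S S' _⟩ : pullback S S') *
          ((preW (pairList.getD r (0, 0)).1 (pairList.getD r (0, 0)).2).map p).prod *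
          ((bitsOf (C.wd (pairList.getD r (0, 0)).1 (pairList.getD r (0, 0)).2)).map p).prod) := by
      apply Subtype.ext
      simp only [Subgroup.coe_mul, hp _ ht, hp _ hi, hprod _ hpre,
        hprod _ (fun _ => lt_of_mem_bitsOf), d, Prod.mk_mul_mk, one_mul, k1, k2,
        Prod.mk.injEq]
      refine ⟨?_, ?_⟩
      · simp only [← mul_assoc, ← S.map_add]
        rw [show u' r + (u r + u' r) = u r by
          rw [add_comm (u r), ← add_assoc, add_self_V, zero_add]]
        rfl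
      · simp only [← mul_assoc]; rfl
    rw [key, ← mul_assoc]
    exact (inferInstance : (diagN S S').Normal).conj_mem' d hd _
  have hx : ∀ G ∈ C.extra, ev (fun r => u r + u' r) G = 0 := by
    intro G hG
    rw [hextra, List.mem_singleton] at hG
    rw [hG, ev_add_assign, a1, a2, add_self_V]
  obtain ⟨H, hH1, hH2⟩ := Cert.split D h1 h2 h3 h4 hB hud hx
  let K : Subgroup (pullback S S') := H.comap (QuotientGroup.mk' (diagN S S'))
  have hdiag : ∀ v, ∀ q : pullback S S', q.1 = (S.ι v, S'.ι v) → q ∈ K := fun v q hq => by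
    show QuotientGroup.mk q ∈ H
    rw [(QuotientGroup.eq_one_iff q).2
      (show q ∈ diagN S S' from ⟨v, (congrArg Prod.fst hq).symm, (congrArg Prod.snd hq).symm⟩)]
    exact one_mem _
  have hint : ∀ q ∈ K, S.π q.1.1 = 1 → ∃ v, q.1 = (S.ι v, S'.ι v) := by
    intro q hq h1
    have : (QuotientGroup.mk q : Diff S S') ∈ H ⊓ D.π.ker := ⟨hq, h1⟩
    rw [hH1, Subgroup.mem_bot, QuotientGroup.eq_one_iff] at this
    obtain ⟨v, hv, hv'⟩ := this
    exact ⟨v, Prod.ext hv.symm hv'.symm⟩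
  have hcover : ∀ σ ∈ Spor.M23, ∃ q ∈ K, S.π q.1.1 = σ := by
    intro σ hσ
    obtain ⟨x, hx⟩ := (D.range σ).2 hσ
    obtain ⟨h, hh, n, hn, rfl⟩ := Subgroup.mem_sup_of_normal_right.1
      (show x ∈ H ⊔ D.π.ker by rw [hH2]; trivial)
    induction h using QuotientGroup.induction_on with
    | _ q =>
      refine ⟨q, hh, ?_⟩
      rw [map_mul, MonoidHom.mem_ker.1 hn, mul_one] at hx
      exact hx
  let f1 : K →* E := (MonoidHom.fst E E').comp ((pullback S S').subtype.comp K.subtype)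
  let f2 : K →* E' := (MonoidHom.snd E E').comp ((pullback S S').subtype.comp K.subtype)
  have hπ : ∀ q : pullback S S', S.π q.1.1 = S'.π q.1.2 := fun q => q.2
  have i1 : Function.Injective f1 := (injective_iff_map_eq_one f1).2 fun q hq => by
    change q.1.1.1 = 1 at hq
    obtain ⟨v, hv⟩ := hint q.1 q.2 (by rw [hq, map_one])
    rw [hv] at hq
    have : v = 0 := S.inj (hq.trans (Emb.map_zero S.toEmb).symm)
    exact Subtype.ext (Subtype.ext (hv.trans (by
      rw [this, Emb.map_zero S.toEmb, Emb.map_zero S'.toEmb]; rfl)))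
  have i2 : Function.Injective f2 := (injective_iff_map_eq_one f2).2 fun q hq => by
    change q.1.1.2 = 1 at hq
    obtain ⟨v, hv⟩ := hint q.1 q.2 (by rw [hπ, hq, map_one])
    rw [hv] at hq
    have : v = 0 := S'.inj (hq.trans (Emb.map_zero S'.toEmb).symm)
    exact Subtype.ext (Subtype.ext (hv.trans (by
      rw [this, Emb.map_zero S.toEmb, Emb.map_zero S'.toEmb]; rfl)))
  have s1 : Function.Surjective f1 := fun x => by
    obtain ⟨q, hq, hqπ⟩ := hcover (S.π x) ((S.range _).1 ⟨x, rfl⟩)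
    obtain ⟨v, hv⟩ := (S.ker (x * q.1.1⁻¹)).1 (by rw [map_mul, map_inv, hqπ, mul_inv_cancel])
    let d : pullback S S' := ⟨(S.ι v, S'.ι v),
      show S.π (S.ι v) = S'.π (S'.ι v) by rw [(S.ker _).2 ⟨_, rfl⟩, (S'.ker _).2 ⟨_, rfl⟩]⟩
    refine ⟨⟨d * q, K.mul_mem (hdiag v d rfl) hq⟩, ?_⟩
    show S.ι v * q.1.1 = x
    rw [hv, inv_mul_cancel_right]
  have s2 : Function.Surjective f2 := fun x => by
    obtain ⟨q, hq, hqπ⟩ := hcover (S'.π x) ((S'.range _).1 ⟨x, rfl⟩)
    obtain ⟨v, hv⟩ := (S'.ker (x * q.1.2⁻¹)).1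
      (by rw [map_mul, map_inv, ← hπ, hqπ, mul_inv_cancel])
    let d : pullback S S' := ⟨(S.ι v, S'.ι v),
      show S.π (S.ι v) = S'.π (S'.ι v) by rw [(S.ker _).2 ⟨_, rfl⟩, (S'.ker _).2 ⟨_, rfl⟩]⟩
    refine ⟨⟨d * q, K.mul_mem (hdiag v d rfl) hq⟩, ?_⟩
    show S'.ι v * q.1.2 = x
    rw [hv, inv_mul_cancel_right]
  exact ⟨(MulEquiv.ofBijective f1 ⟨i1, s1⟩).symm.trans (MulEquiv.ofBijective f2 ⟨i2, s2⟩)⟩

end

end Cfsg.Agent.ExtCert
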